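/-
Integrality facts for character values on a cyclic subgroup.

Main results (namespace `Cfsg.Agent.Order7920`):
* `sum_pow_char`, `sum_pow_char_sq` : the sums of `χ` and `|χ|²` over a cyclic group, twisted by a root of unity;
* `int_of_rat`, `normSq_int` : rational algebraic integers are integers;
* `val_two`, `val_three`, `val_rational`, `val_half`, `val_six`.
-/
import Cfsg.Agent.Lib.Char.Orth

set_option autoImplicit false

open scoped ComplexConjugate

namespace Cfsg.Agent.Order7920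

open Cfsg

variable {G : Type*} [Group G] [Finite G]

theorem geom_root {n : ℕ} {z : ℂ} (hz : z ^ n = 1) :
    ∑ k ∈ Finset.range n, z ^ k = (n : ℂ) * if z = 1 then 1 else 0 := by
  split_ifs with h
  · subst h; simp
  · rw [geom_sum_eq h, hz]; simp

/-- A twisted sum of a character over a cyclic group is a multiple of its order. -/
theorem sum_pow_char {χ : G → ℂ} (hχ : IsCharacter G χ) {g : G} {n : ℕ} (hg : g ^ n = 1) {c : ℂ}
    (hc : c ^ n = 1) : ∃ m : ℕ, ∑ k ∈ Finset.range n, χ (g ^ k) * c ^ k = (n : ℂ) * m := by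
  classical
  obtain ⟨d, ρ, rfl⟩ := hχ
  obtain ⟨b, μ, hμ, hroot⟩ := Char.exists_eigenbasis ρ g
  have hμn : ∀ i, μ i ^ n = 1 := fun i => by
    obtain ⟨q, hq⟩ := orderOf_dvd_iff_pow_eq_one.mpr hg
    rw [hq, pow_mul, hroot i, one_pow]
  refine ⟨(Finset.univ.filter fun i => μ i * c = 1).card, ?_⟩
  calc ∑ k ∈ Finset.range n, ρ.character (g ^ k) * c ^ k
      = ∑ k ∈ Finset.range n, ∑ i, (μ i * c) ^ k := by
        refine Finset.sum_congr rfl fun k _ => ?_
        rw [Char.character_pow ρ g b μ hμ k, Finset.sum_mul]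
        exact Finset.sum_congr rfl fun i _ => by rw [mul_pow]
    _ = ∑ i, (n : ℂ) * (if μ i * c = 1 then 1 else 0) := by
        rw [Finset.sum_comm]
        exact Finset.sum_congr rfl fun i _ => geom_root (by rw [mul_pow, hμn, hc, one_mul])
    _ = _ := by rw [← Finset.mul_sum, Finset.sum_boole]

/-- A twisted sum of `|χ|²` over a cyclic group is a multiple of its order. -/
theorem sum_pow_char_sq {χ : G → ℂ} (hχ : IsCharacter G χ) {g : G} {n : ℕ} (hg : g ^ n = 1) {c : ℂ}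
    (hc : c ^ n = 1) :
    ∃ m : ℕ, ∑ k ∈ Finset.range n, χ (g ^ k) * conj (χ (g ^ k)) * c ^ k = (n : ℂ) * m :=
  sum_pow_char (Char.IsCharacter.mul hχ (Char.IsCharacter.conj hχ)) hg hc

/-- A rational algebraic integer is an integer. -/
theorem int_of_rat {z : ℂ} {k : ℕ} {a : ℤ} (hk : k ≠ 0) (hz : IsIntegral ℤ z) (h : (k : ℂ) * z = a) :
    ∃ b : ℤ, z = b ∧ (k : ℤ) * b = a := by
  have hq : z = algebraMap ℚ ℂ ((a : ℚ) / k) := by
    rw [eq_ratCast]; push_cast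
    rw [eq_div_iff (by exact_mod_cast hk), mul_comm, h]
  have hi : IsIntegral ℤ ((a : ℚ) / k) :=
    (isIntegral_algebraMap_iff (algebraMap ℚ ℂ).injective).mp (hq ▸ hz)
  obtain ⟨b, hb⟩ := IsIntegrallyClosed.isIntegral_iff.mp hi
  have hzb : z = (b : ℂ) := by rw [hq, ← hb]; simp
  refine ⟨b, hzb, ?_⟩
  have : (((k : ℤ) * b : ℤ) : ℂ) = (a : ℂ) := by push_cast; rw [← hzb, h]
  exact_mod_cast this

theorem isIntegral_apply {χ : G → ℂ} (hχ : IsCharacter G χ) (g : G) : IsIntegral ℤ (χ g) :=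
  Char.IsCharacter.isIntegral hχ g

theorem isIntegral_normSq {χ : G → ℂ} (hχ : IsCharacter G χ) (g : G) :
    IsIntegral ℤ (χ g * conj (χ g)) :=
  isIntegral_apply (Char.IsCharacter.mul hχ (Char.IsCharacter.conj hχ)) g

theorem isIntegral_trace {χ : G → ℂ} (hχ : IsCharacter G χ) (g : G) :
    IsIntegral ℤ (χ g + conj (χ g)) :=
  isIntegral_apply (Char.IsCharacter.add hχ (Char.IsCharacter.conj hχ)) g

/-- A value at an involution. -/
theorem val_two {χ : G → ℂ} (hχ : IsCharacter G χ) {d : ℕ} (hd : χ 1 = d) {t : G} (ht : t ^ 2 = 1) :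
    ∃ z : ℤ, χ t = z ∧ z % 2 = (d : ℤ) % 2 := by
  obtain ⟨m, hm⟩ := sum_pow_char hχ ht (c := 1) (one_pow _)
  simp only [Finset.sum_range_succ, Finset.sum_range_zero, pow_zero, pow_one, one_pow, mul_one, zero_add, hd] at hm
  refine ⟨2 * (m : ℤ) - d, by push_cast; linear_combination hm, by omega⟩

/-- A value at an element of prime order all of whose nontrivial powers are conjugate. -/
theorem val_rational {χ : G → ℂ} (hχ : IsCharacter G χ) {d : ℕ} (hd : χ 1 = d) {g : G} {n : ℕ}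
    (hn : 2 ≤ n) (hg : g ^ n = 1) (hall : ∀ k ∈ Finset.range n, k ≠ 0 → χ (g ^ k) = χ g) :
    ∃ z : ℤ, χ g = z ∧ (n : ℤ) ∣ (d : ℤ) - z := by
  obtain ⟨m, hm⟩ := sum_pow_char hχ hg (c := 1) (one_pow _)
  have hsum : ∑ k ∈ Finset.range n, χ (g ^ k) * (1 : ℂ) ^ k = (d : ℂ) + ((n - 1 : ℕ) : ℂ) * χ g := by
    rw [← Finset.add_sum_erase _ _ (Finset.mem_range.mpr (show 0 < n by omega)),
      Finset.sum_congr rfl (g := fun _ => χ g) (fun k hk => by
        rw [Finset.mem_erase] at hk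
        rw [one_pow, mul_one, hall k hk.2 hk.1]), Finset.sum_const, nsmul_eq_mul,
      Finset.card_erase_of_mem (Finset.mem_range.mpr (show 0 < n by omega)), Finset.card_range]
    simp [hd]
  rw [hsum] at hm
  obtain ⟨z, hz, hz'⟩ := int_of_rat (k := n - 1) (a := (n : ℤ) * m - d) (by omega) (isIntegral_apply hχ g)
    (by push_cast; linear_combination hm)
  refine ⟨z, hz, ⟨(m : ℤ) - z, ?_⟩⟩
  rw [Nat.cast_sub (by omega : 1 ≤ n)] at hz'
  push_cast at hz'
  linarith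

/-- Values at an element of odd prime order whose nontrivial powers take the values `v` and `conj v` equally often. -/
theorem val_half {χ : G → ℂ} (hχ : IsCharacter G χ) {d : ℕ} (hd : χ 1 = d) {g : G} {n e : ℕ}
    (he : 0 < e) (hn : n = 2 * e + 1) (hg : g ^ n = 1)
    (hsum : ∑ k ∈ Finset.range n, χ (g ^ k) = (d : ℂ) + (e : ℂ) * (χ g + conj (χ g)))
    (hsq : ∑ k ∈ Finset.range n, χ (g ^ k) * conj (χ (g ^ k)) =
      (d : ℂ) ^ 2 + (n - 1 : ℕ) * (χ g * conj (χ g))) :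
    ∃ s q : ℤ, χ g + conj (χ g) = s ∧ χ g * conj (χ g) = q ∧
      (n : ℤ) ∣ (d : ℤ) + e * s ∧ (n : ℤ) ∣ (d : ℤ) ^ 2 - q := by
  obtain ⟨m, hm⟩ := sum_pow_char hχ hg (c := 1) (one_pow _)
  obtain ⟨m', hm'⟩ := sum_pow_char_sq hχ hg (c := 1) (one_pow _)
  simp only [one_pow, mul_one] at hm hm'
  rw [hsum] at hm
  rw [hsq] at hm'
  obtain ⟨s, hs, hs'⟩ := int_of_rat (k := e) (a := (n : ℤ) * m - d) (by omega) (isIntegral_trace hχ g)
    (by push_cast; linear_combination hm)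
  obtain ⟨q, hq, hq'⟩ := int_of_rat (k := n - 1) (a := (n : ℤ) * m' - (d : ℤ) ^ 2) (by omega)
    (isIntegral_normSq hχ g) (by push_cast; linear_combination hm')
  refine ⟨s, q, hs, hq, ⟨(m : ℤ), by linarith⟩, ⟨(m' : ℤ) - q, ?_⟩⟩
  rw [Nat.cast_sub (by omega : 1 ≤ n)] at hq'
  push_cast at hq'
  linarith

theorem conj_pow_two_of_three {χ : G → ℂ} (hχ : IsCharacter G χ) {u : G} (hu : u ^ 3 = 1) :
    χ (u ^ 2) = conj (χ u) := by
  rw [← Char.IsCharacter.apply_inv hχ]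
  congr 1
  exact eq_inv_of_mul_eq_one_left (by rw [← pow_succ, hu])

/-- Values at an element of order three. -/
theorem val_three {χ : G → ℂ} (hχ : IsCharacter G χ) {d : ℕ} (hd : χ 1 = d) {u : G} (hu : u ^ 3 = 1) :
    ∃ s q : ℤ, χ u + conj (χ u) = s ∧ χ u * conj (χ u) = q ∧
      (3 : ℤ) ∣ (d : ℤ) + s ∧ (3 : ℤ) ∣ (d : ℤ) ^ 2 - q := by
  obtain ⟨s, q, h1, h2, h3, h4⟩ := val_half hχ hd (g := u) (n := 3) (e := 1) one_pos rfl hu
    (by simp [Finset.sum_range_succ, hd, conj_pow_two_of_three hχ hu]; ring)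
    (by simp [Finset.sum_range_succ, hd, conj_pow_two_of_three hχ hu]; ring)
  exact ⟨s, q, h1, h2, by simpa using h3, h4⟩

/-- Values at a product of a commuting involution and element of order three. -/
theorem val_six {χ : G → ℂ} (hχ : IsCharacter G χ) {d : ℕ} (hd : χ 1 = d) {t u : G} (ht : t ^ 2 = 1)
    (hu : u ^ 3 = 1) (htu : Commute t u) :
    ∃ k q z s qu : ℤ, χ (t * u) + conj (χ (t * u)) = k ∧ χ (t * u) * conj (χ (t * u)) = q ∧
      χ t = z ∧ χ u + conj (χ u) = s ∧ χ u * conj (χ u) = qu ∧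
      (3 : ℤ) ∣ k - 2 * z ∧ (3 : ℤ) ∣ q - z ^ 2 ∧ (2 : ℤ) ∣ q - qu := by
  set g := t * u with hg'
  have hg6 : g ^ 6 = 1 := by
    rw [hg', htu.mul_pow, show (6 : ℕ) = 2 * 3 from rfl, pow_mul, ht, one_pow, one_mul,
      pow_mul', hu, one_pow]
  have p2 : g ^ 2 = u ^ 2 := by rw [hg', htu.mul_pow, ht, one_mul]
  have p3 : g ^ 3 = t := by
    rw [hg', htu.mul_pow, hu, mul_one, pow_succ, ht, one_mul]
  have p4 : g ^ 4 = u := by
    rw [show (4 : ℕ) = 3 + 1 from rfl, pow_succ, p3, hg', ← mul_assoc, ← pow_two, ht, one_mul]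
  have p5 : χ (g ^ 5) = conj (χ g) := by
    rw [← Char.IsCharacter.apply_inv hχ]
    congr 1
    exact eq_inv_of_mul_eq_one_left (by rw [← pow_succ, hg6])
  have hu2 := conj_pow_two_of_three hχ hu
  obtain ⟨z, hz, -⟩ := val_two hχ hd ht
  obtain ⟨s, qu, hs, hqu, -, -⟩ := val_three hχ hd hu
  have hm1 : (-1 : ℂ) ^ 6 = 1 := by norm_num
  obtain ⟨w, hw⟩ : ∃ w : ℂ, w ^ 2 + w + 1 = 0 := by
    obtain ⟨w, hw⟩ := IsAlgClosed.exists_eq_mul_self ((-3 : ℂ))
    exact ⟨(-1 + w) / 2, by linear_combination (-1/4 : ℂ) * hw⟩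
  have hw3 : w ^ 3 = 1 := by linear_combination (w - 1) * hw
  have hw6 : w ^ 6 = 1 := by linear_combination (w ^ 3 + 1) * hw3
  obtain ⟨m0, e0⟩ := sum_pow_char hχ hg6 (c := 1) (one_pow _)
  obtain ⟨m1, e1⟩ := sum_pow_char hχ hg6 (c := -1) hm1
  obtain ⟨n0, f0⟩ := sum_pow_char_sq hχ hg6 (c := 1) (one_pow _)
  obtain ⟨n1, f1⟩ := sum_pow_char_sq hχ hg6 (c := -1) hm1
  obtain ⟨n2, f2⟩ := sum_pow_char_sq hχ hg6 (c := w) hw6
  simp only [Finset.sum_range_succ, Finset.sum_range_zero, pow_zero, pow_one, p2, p3, p4, p5, hu2,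
    hd, hz, Complex.conj_conj, map_natCast, map_intCast, one_pow, mul_one, zero_add,
    Nat.cast_ofNat] at e0 e1 f0 f1 f2
  obtain ⟨k, hk, hk'⟩ := int_of_rat (k := 2) (a := 6 * (m0 : ℤ) - 6 * (m1 : ℤ) - 2 * z) (by norm_num)
    (isIntegral_trace hχ g) (by push_cast; linear_combination e0 - e1)
  obtain ⟨q, hq, hq'⟩ := int_of_rat (k := 4) (a := 6 * (n0 : ℤ) - 6 * (n1 : ℤ) - 2 * z ^ 2) (by norm_num)
    (isIntegral_normSq hχ g) (by push_cast; linear_combination f0 - f1)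
  refine ⟨k, q, z, s, qu, hk, hq, hz, hs, hqu, by omega, ?_, ?_⟩
  · generalize z ^ 2 = z2 at hq' ⊢; omega
  · have key : ((2 * (n0 : ℤ) - 2 * n2 : ℤ) : ℂ) = ((qu + q : ℤ) : ℂ) := by
      push_cast
      rw [← hqu, ← hq]
      have w4 : w ^ 4 = w := by linear_combination w * hw3
      have w5 : w ^ 5 = w ^ 2 := by linear_combination w ^ 2 * hw3
      rw [hw3, w4, w5] at f2
      linear_combination (f2 - f0) / 3 -
        ((χ g * conj (χ g) + χ u * conj (χ u)) / 3) * hw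
    have key' : 2 * (n0 : ℤ) - 2 * n2 = qu + q := by exact_mod_cast key
    omega

end Cfsg.Agent.Order7920
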