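/-
Nontrivial irreducible characters of a non-abelian simple group are faithful and have no scalar values.

Main results (namespace `Cfsg.Agent.Order7920`): `eq_one_of_degree_one`, `eq_one_of_norm_eq`, `eq_one_of_apply_eq`.
-/
import Cfsg.Agent.Lib.Char.Orth
import Cfsg.Agent.Lib.Char.Linear

set_option autoImplicit false

open scoped ComplexConjugate

namespace Cfsg.Agent.Order7920

open Cfsg Subgroup

variable {G : Type*} [Group G] [Finite G] [IsSimpleGroup G]

omit [Finite G] in
theorem eq_one_of_degree_one (hG : ¬ IsMulCommutative G) {χ : G → ℂ} (hχ : IsCharacter G χ)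
    (h1 : χ 1 = 1) : χ = 1 := by
  obtain ⟨l, rfl⟩ := Char.exists_hom_of_degree_one hχ h1
  rcases (MonoidHom.normal_ker l.toHomUnits).eq_bot_or_eq_top with h | h
  · refine absurd ⟨⟨fun a b => (MonoidHom.ker_eq_bot_iff _).mp h ?_⟩⟩ hG
    rw [map_mul, map_mul, mul_comm]
  · funext g
    have : l.toHomUnits g = 1 := MonoidHom.mem_ker.mp (h ▸ mem_top g)
    exact congrArg Units.val this

/-- A nontrivial irreducible character takes no value of absolute value equal to its degree away from `1`. -/
theorem eq_one_of_norm_eq (hG : ¬ IsMulCommutative G) {χ : G → ℂ} (hχ : IsIrrCharacter G χ)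
    (hne : χ ≠ 1) {d : ℕ} (hd : χ 1 = d) {g : G} (hg : ‖χ g‖ = d) : g = 1 := by
  have := Fintype.ofFinite G
  obtain ⟨n, ρ, hirr, hρ⟩ := id hχ
  have hn : n = d := by
    have h := hd
    rw [← hρ, Representation.char_one, Module.finrank_fin_fun] at h
    exact_mod_cast h
  obtain ⟨ω, hω⟩ := (Char.norm_character_eq_iff ρ g).mp
    (by rw [Module.finrank_fin_fun, hρ, hg, hn])
  rcases (MonoidHom.normal_ker ρ).eq_bot_or_eq_top with h | h
  · have hcen : g ∈ center G := by
      rw [mem_center_iff]
      intro x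
      apply (MonoidHom.ker_eq_bot_iff _).mp h
      rw [map_mul, map_mul, hω]
      ext v
      simp
    rcases (inferInstance : (center G).Normal).eq_bot_or_eq_top with hb | ht
    · exact mem_bot.mp (hb ▸ hcen)
    · exact absurd ⟨⟨fun a b => (mem_center_iff.mp (ht ▸ mem_top b)) a⟩⟩ hG
  · exfalso
    have hconst : ∀ x, χ x = d := fun x => by
      rw [← hρ, Representation.character, show ρ x = 1 from MonoidHom.mem_ker.mp (h ▸ mem_top x),
        LinearMap.trace_one, Module.finrank_fin_fun, hn]
    have h1 := Char.classInner_irr_self hχ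
    simp only [classInner, hconst, Finset.sum_const, Finset.card_univ, nsmul_eq_mul, map_natCast,
      Nat.card_eq_fintype_card] at h1
    rw [← mul_assoc, inv_mul_cancel₀ (Nat.cast_ne_zero.mpr Fintype.card_ne_zero), one_mul] at h1
    have h2 : d * d = 1 := by exact_mod_cast h1
    exact hne (funext fun x => by rw [hconst x, Nat.eq_one_of_mul_eq_one_left h2]; simp)

theorem eq_one_of_apply_eq (hG : ¬ IsMulCommutative G) {χ : G → ℂ} (hχ : IsIrrCharacter G χ)
    (hne : χ ≠ 1) {g : G} (hg : χ g = χ 1) : g = 1 := by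
  obtain ⟨d, -, hd⟩ := Char.IsIrrCharacter.exists_degree hχ
  exact eq_one_of_norm_eq hG hχ hne hd (by rw [hg, hd]; simp)

end Cfsg.Agent.Order7920
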