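/-
Scott's inequality for three elements with product one, in an irreducible representation.

Main results (namespace `Cfsg.Agent.Order7920`): `rank_le_of_sum`, `closure_ne_top_of_rank`.
-/
import Cfsg.Agent.Lib.Order7920.Faithful

set_option autoImplicit false

open scoped ComplexConjugate
open LinearMap Module

namespace Cfsg.Agent.Order7920

open Cfsg

variable {G : Type*} [Group G] [Finite G]

/-- The rank of `1 - ρ g`, bounded through the values of the character on the powers of `g`. -/
theorem rank_le_of_sum {d : ℕ} (ρ : Representation ℂ G (Fin d → ℂ)) {g : G} {n : ℕ} (hn : 0 < n)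
    (hg : g ^ n = 1) {m : ℕ} (hsum : ∑ k ∈ Finset.range n, ρ.character (g ^ k) = (n : ℂ) * m) :
    finrank ℂ (LinearMap.range (1 - ρ g)) + m ≤ d := by
  classical
  obtain ⟨b, μ, hμ, hroot⟩ := Char.exists_eigenbasis ρ g
  have hμn : ∀ i, μ i ^ n = 1 := fun i => by
    obtain ⟨q, hq⟩ := orderOf_dvd_iff_pow_eq_one.mpr hg
    rw [hq, pow_mul, hroot i, one_pow]
  have hcount : ∑ k ∈ Finset.range n, ρ.character (g ^ k) =
      (n : ℂ) * ((Finset.univ.filter fun i => μ i = 1).card : ℕ) := by
    calc ∑ k ∈ Finset.range n, ρ.character (g ^ k)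
        = ∑ k ∈ Finset.range n, ∑ i, μ i ^ k :=
          Finset.sum_congr rfl fun k _ => Char.character_pow ρ g b μ hμ k
      _ = ∑ i, (n : ℂ) * (if μ i = 1 then 1 else 0) := by
          rw [Finset.sum_comm]
          refine Finset.sum_congr rfl fun i _ => ?_
          split_ifs with h
          · simp [h]
          · rw [geom_sum_eq h, hμn]; simp
      _ = _ := by rw [← Finset.mul_sum, Finset.sum_boole]
  have hm : (Finset.univ.filter fun i => μ i = 1).card = m := by
    have h := hcount.symm.trans hsum
    exact_mod_cast mul_left_cancel₀ (Nat.cast_ne_zero.mpr hn.ne') h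
  have hle : LinearMap.range (1 - ρ g) ≤ Submodule.span ℂ
      (((Finset.univ.filter fun i => μ i ≠ 1).image b : Finset (Fin d → ℂ)) : Set (Fin d → ℂ)) := by
    rw [LinearMap.range_eq_map, ← b.span_eq, Submodule.map_span, Submodule.span_le]
    rintro _ ⟨_, ⟨i, rfl⟩, rfl⟩
    rw [LinearMap.sub_apply, hμ i]
    by_cases h : μ i = 1
    · simp [h]
    · rw [SetLike.mem_coe]
      exact Submodule.sub_mem _ (Submodule.subset_span (by simp; exact ⟨i, h, rfl⟩))
        (Submodule.smul_mem _ _ (Submodule.subset_span (by simp; exact ⟨i, h, rfl⟩)))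
  have h1 := (Submodule.finrank_mono hle).trans ((finrank_span_finset_le_card _).trans Finset.card_image_le)
  have h2 := Finset.card_filter_add_card_filter_not (s := Finset.univ) (fun i => μ i = 1)
  rw [Finset.card_univ, Fintype.card_fin, hm] at h2
  have e : finrank ℂ (Fin d → ℂ) = d := Module.finrank_fin_fun ℂ
  have e' : (Finset.univ.filter fun i => μ i ≠ 1).card = (Finset.univ.filter fun i => ¬μ i = 1).card := by
    congr 1
  omega

variable [IsSimpleGroup G]

/-- **Scott's inequality.** If the ranks of `1 - ρ x`, `1 - ρ y`, `1 - ρ z` for `x y z = 1` add up to less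
than twice the degree, then `x` and `y` do not generate `G`. -/
theorem closure_ne_top_of_rank {d : ℕ} (ρ : Representation ℂ G (Fin d → ℂ)) [hirr : ρ.IsIrreducible]
    {x y z : G} (hxyz : x * y * z = 1) (hx : ρ x ≠ 1)
    (hlt : finrank ℂ (LinearMap.range (1 - ρ x)) + finrank ℂ (LinearMap.range (1 - ρ y)) +
      finrank ℂ (LinearMap.range (1 - ρ z)) < 2 * d) :
    Subgroup.closure ({x, y} : Set G) ≠ ⊤ := by
  intro htop
  have hsub : ∀ W : Submodule ℂ (Fin d → ℂ), (∀ v ∈ W, ρ x v ∈ W) → (∀ v ∈ W, ρ y v ∈ W) →
      W = ⊥ ∨ W = ⊤ := by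
    intro W hWx hWy
    have hall : ∀ g : G, ∀ v ∈ W, ρ g v ∈ W := by
      intro g
      have hg : g ∈ Submonoid.closure ({x, y} : Set G) := by
        rw [← Subgroup.closure_toSubmonoid_of_finite, htop]; trivial
      induction hg using Submonoid.closure_induction with
      | mem h hh => rcases hh with rfl | rfl <;> assumption
      | one => intro v hv; simpa using hv
      | mul g h _ _ ihg ihh => intro v hv; rw [map_mul]; exact ihg _ (ihh v hv)
    rcases eq_bot_or_eq_top (⟨W, hall⟩ : Subrepresentation ρ) with h | h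
    · exact Or.inl (congrArg Subrepresentation.toSubmodule h)
    · exact Or.inr (congrArg Subrepresentation.toSubmodule h)
  set A := ρ x
  set B := ρ y
  set C := ρ z
  have hABC : A * (B * C) = 1 := by rw [← map_mul, ← map_mul, ← mul_assoc, hxyz, map_one]
  let α : (Fin d → ℂ) →ₗ[ℂ] (LinearMap.range (1 - A) × LinearMap.range (1 - B) × LinearMap.range (1 - C)) :=
    (1 - A).rangeRestrict.prod ((1 - B).rangeRestrict.prod (1 - C).rangeRestrict)
  let β : (LinearMap.range (1 - A) × LinearMap.range (1 - B) × LinearMap.range (1 - C)) →ₗ[ℂ] (Fin d → ℂ) :=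
    (LinearMap.range (1 - A)).subtype.coprod
      ((A ∘ₗ (LinearMap.range (1 - B)).subtype).coprod ((A * B) ∘ₗ (LinearMap.range (1 - C)).subtype))
  -- `α` is injective
  have hα : Function.Injective α := by
    rw [← LinearMap.ker_eq_bot]
    have h : ∀ v ∈ LinearMap.ker α, A v = v ∧ B v = v := by
      intro v hv
      rw [LinearMap.mem_ker] at hv
      have h1 : (1 - A) v = 0 := congrArg Subtype.val (congrArg Prod.fst hv)
      have h2 : (1 - B) v = 0 := congrArg Subtype.val (congrArg (fun p => p.2.1) hv)
      simp only [LinearMap.sub_apply, Module.End.one_apply, sub_eq_zero] at h1 h2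
      exact ⟨h1.symm, h2.symm⟩
    rcases hsub (LinearMap.ker α) (fun v hv => by rw [show ρ x v = v from (h v hv).1]; exact hv)
        (fun v hv => by rw [show ρ y v = v from (h v hv).2]; exact hv) with e | e
    · exact e
    · exact absurd (LinearMap.ext fun v => (h v (e ▸ Submodule.mem_top)).1) hx
  -- `β` is surjective
  have hA : ∀ v, v - A v ∈ LinearMap.range β := fun v =>
    ⟨(⟨(1 - A) v, v, rfl⟩, 0, 0), by simp [β]⟩
  have hB : ∀ v, v - B v ∈ LinearMap.range β := fun v => by
    have h1 : A (v - B v) ∈ LinearMap.range β := ⟨(0, ⟨(1 - B) v, v, rfl⟩, 0), by simp [β]⟩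
    simpa using Submodule.add_mem _ (hA (v - B v)) h1
  have hC : ∀ v, v - C v ∈ LinearMap.range β := fun v => by
    have h1 : A (B (v - C v)) ∈ LinearMap.range β := ⟨(0, 0, ⟨(1 - C) v, v, rfl⟩), by simp [β]⟩
    have h2 := Submodule.add_mem _ (hB (v - C v)) (Submodule.add_mem _ (hA (B (v - C v))) h1)
    simpa using h2
  have hβ : LinearMap.range β = ⊤ := by
    rcases hsub (LinearMap.range β) (fun v hv => by
        have := Submodule.sub_mem _ hv (hA v); simpa using this)
      (fun v hv => by have := Submodule.sub_mem _ hv (hB v); simpa using this) with e | e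
    · refine absurd (LinearMap.ext fun v => ?_) hx
      have := hA v
      rw [e, Submodule.mem_bot, sub_eq_zero] at this
      exact this.symm
    · exact e
  have hcomp : LinearMap.range α ≤ LinearMap.ker β := by
    rintro _ ⟨v, rfl⟩
    rw [LinearMap.mem_ker]
    have h : A (B (C v)) = v := by
      have := LinearMap.congr_fun hABC v
      simpa using this
    simp [α, β, map_sub, h]
  have h1 := Submodule.finrank_mono hcomp
  rw [LinearMap.finrank_range_of_inj hα, Module.finrank_fin_fun] at h1
  have h2 := LinearMap.finrank_range_add_finrank_ker β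
  rw [hβ, finrank_top, Module.finrank_fin_fun, Module.finrank_prod, Module.finrank_prod] at h2
  omega

end Cfsg.Agent.Order7920
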