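/-
Sylow analysis for the primes 11 and 5 in a simple group of order 7920.

Main results (namespace `Cfsg.Agent.Order7920`):
* `card_centralizer_eleven`, `isConj_pow_eleven`, `not_isConj_inv_eleven`
* `card_centralizer_five_aux` : the centralizer of an element of order 5 has even order, or order 5
  with all nontrivial powers conjugate.
-/
import Cfsg.Agent.Lib.SmallOrders.OrbitSign
import Cfsg.Agent.Lib.SmallOrders.Centralizer
import Cfsg.Agent.Lib.SmallOrders.Count
import Cfsg.Agent.Lib.SmallOrders.Check2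

set_option autoImplicit false

namespace Cfsg.Agent.Order7920

open Subgroup SmallOrders

variable {G : Type*} [Group G] [Finite G]

theorem conj_pow_iterate {g x : G} {m : ℕ} (h : g * x * g⁻¹ = x ^ m) (i : ℕ) :
    g ^ i * x * (g ^ i)⁻¹ = x ^ (m ^ i) := by
  induction i with
  | zero => simp
  | succ i ih =>
    calc g ^ (i + 1) * x * (g ^ (i + 1))⁻¹ = g * (g ^ i * x * (g ^ i)⁻¹) * g⁻¹ := by
          rw [pow_succ', mul_inv_rev]; group
      _ = g * x ^ (m ^ i) * g⁻¹ := by rw [ih]
      _ = x ^ (m ^ (i + 1)) := by rw [← conj_pow, h, ← pow_mul, pow_succ']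

/-- An element normalising a subgroup of prime order raises a generator to a power `k` with
`k ^ |N| ≡ 1`. -/
theorem exists_conj_eq_pow {x g : G} {p : ℕ} [hp : Fact p.Prime] (hx : orderOf x = p) {N : Subgroup G}
    (hg : g ∈ N) (hgx : g * x * g⁻¹ ∈ zpowers x) :
    ∃ k, k < p ∧ k ^ Nat.card N % p = 1 ∧ g * x * g⁻¹ = x ^ k := by
  classical
  rw [← mem_powers_iff_mem_zpowers, mem_powers_iff_mem_range_orderOf, hx, Finset.mem_image] at hgx
  obtain ⟨k, hk, hk'⟩ := hgx
  refine ⟨k, Finset.mem_range.mp hk, ?_, hk'.symm⟩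
  have h := conj_pow_iterate hk'.symm (Nat.card N)
  have hgn : g ^ Nat.card N = 1 := orderOf_dvd_iff_pow_eq_one.mp (orderOf_dvd_natCard N hg)
  rw [hgn, one_mul, inv_one, mul_one] at h
  have h' : x ^ 1 = x ^ (k ^ Nat.card N) := by rw [pow_one, ← h]
  rw [pow_eq_pow_iff_modEq, hx] at h'
  have h1 : k ^ Nat.card N % p = 1 % p := h'.symm
  rwa [Nat.mod_eq_of_lt hp.out.one_lt] at h1

/-- If `|C(x)| j = |N|` and at most `j` residues satisfy `k ^ |N| ≡ 1`, all of these powers of `x`
are conjugate to `x`. -/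
theorem isConj_pow_of_card {x : G} {p : ℕ} [hp : Fact p.Prime] (hx : orderOf x = p) {j : ℕ}
    {N : Subgroup G} (hN : ∀ g ∈ N, g * x * g⁻¹ ∈ zpowers x) (hCN : centralizer ({x} : Set G) ≤ N)
    (hcard : Nat.card (centralizer ({x} : Set G)) * j = Nat.card N)
    (hj : ((Finset.range p).filter fun k => k ^ Nat.card N % p = 1).card ≤ j)
    {k : ℕ} (hk : k ^ Nat.card N % p = 1) (hkp : k < p) : IsConj x (x ^ k) := by
  classical
  have := Fintype.ofFinite G
  set C := centralizer ({x} : Set G)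
  set S := (Finset.range p).filter fun k => k ^ Nat.card N % p = 1
  have hf : ∀ g : N, ∃ k : S, (g : G) * x * (g : G)⁻¹ = x ^ (k : ℕ) := by
    intro g
    obtain ⟨i, h1, h2, h3⟩ := exists_conj_eq_pow hx g.2 (hN _ g.2)
    exact ⟨⟨i, Finset.mem_filter.mpr ⟨Finset.mem_range.mpr h1, h2⟩⟩, h3⟩
  choose f hf using hf
  let F : N ⧸ C.subgroupOf N → S := fun q => f q.out
  have hF : Function.Injective F := by
    intro q r e
    have e' : (q.out : G) * x * (q.out : G)⁻¹ = (r.out : G) * x * (r.out : G)⁻¹ := by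
      rw [hf, hf, show f q.out = f r.out from e]
    rw [← q.out_eq, ← r.out_eq]
    refine QuotientGroup.eq.mpr (mem_subgroupOf.mpr (mem_centralizer_singleton_iff.mpr ?_))
    push_cast
    calc (q.out : G)⁻¹ * r.out * x
        = (q.out : G)⁻¹ * (r.out * x * (r.out : G)⁻¹) * r.out := by group
      _ = x * ((q.out : G)⁻¹ * r.out) := by rw [← e']; group
  have hcq : Nat.card (N ⧸ C.subgroupOf N) = j := by
    have h := (C.subgroupOf N).card_mul_index
    rw [Nat.card_congr (subgroupOfEquivOfLe hCN).toEquiv, ← hcard] at h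
    exact Nat.eq_of_mul_eq_mul_left Nat.card_pos h
  have hS : Nat.card S = j := by
    refine le_antisymm (by rw [Nat.card_eq_fintype_card, Fintype.card_coe]; exact hj) ?_
    rw [← hcq]
    exact Nat.card_le_card_of_injective F hF
  obtain ⟨q, hq⟩ := ((Nat.bijective_iff_injective_and_card F).mpr ⟨hF, hcq.trans hS.symm⟩).2
    ⟨k, Finset.mem_filter.mpr ⟨Finset.mem_range.mpr hkp, hk⟩⟩
  refine isConj_iff.mpr ⟨(q.out : G), ?_⟩
  rw [hf, show f q.out = _ from hq]

section simple

variable [IsSimpleGroup G]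

theorem not_comm (h : Nat.card G = 7920) : ¬ IsMulCommutative G :=
  not_isMulCommutative_of_card (by rw [h]; norm_num)

theorem card_sylow_eleven [Fact (Nat.Prime 11)] (h : Nat.card G = 7920) :
    Nat.card (Sylow 11 G) = 144 := by
  have hG := not_comm h
  have hfac : Nat.card G = 11 ^ 1 * 720 := by rw [h]; norm_num
  have hP : ∀ P : Sylow 11 G, Nat.card (P : Subgroup G) = 11 := fun P => by
    rw [card_sylow_subgroup hfac (by norm_num) P, pow_one]
  obtain ⟨a, ha⟩ := exists_prime_orderOf_dvd_card' (G := G) 11 (by rw [h]; norm_num)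
  obtain ⟨P, hPa⟩ := exists_sylow_eq_zpowers hP ha
  have hdm : Nat.card (Sylow 11 G) ∣ 720 := index_sylow hfac (by norm_num) P ▸ P.card_dvd_index
  have hmod : Nat.card (Sylow 11 G) % 11 = 1 := card_sylow_modEq_one 11 G
  have hone := one_lt_card_sylow hG (p := 11) (by rw [h]; norm_num)
  have hd : ∀ d < 721, d ∣ 720 → d % 11 = 1 → d = 1 ∨ d = 12 ∨ d = 45 ∨ d = 144 := by decide +kernel
  have hN := card_normalizer_mul_card_sylow P
  obtain ⟨j, hj1, hj10, hCj, -, -⟩ := exists_card_centralizer_mul hG ha P hPa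
  rw [h, ← hCj] at hN
  have := Nat.le_of_dvd (by norm_num) hj10
  rcases hd _ (Nat.lt_succ_of_le (Nat.le_of_dvd (by norm_num) hdm)) hdm hmod with e | e | e | e
  · omega
  · obtain ⟨c, hc, hc1⟩ := exists_card_centralizer_dvd hG (p := 11) (by norm_num) ha hP (k := 1) (by rw [e])
    rw [e, hc] at hN
    rw [show Nat.card (alternatingGroup (Fin 1)) = 1 from Nat.card_unique, Nat.dvd_one] at hc1
    subst hc1
    interval_cases j <;> omega
  · obtain ⟨c, hc, hc12⟩ := exists_card_centralizer_dvd hG (p := 11) (by norm_num) ha hP (k := 4) (by rw [e])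
    rw [e, hc] at hN
    rw [show Nat.card (alternatingGroup (Fin 4)) = 12 by rw [card_alternatingGroup_fin]; rfl] at hc12
    have := Nat.le_of_dvd (by norm_num) hc12
    interval_cases j <;> interval_cases c <;> omega
  · exact e

theorem eleven_aux [Fact (Nat.Prime 11)] (h : Nat.card G = 7920) {a : G} (ha : orderOf a = 11) :
    Nat.card (centralizer ({a} : Set G)) = 11 ∧ ∃ N : Subgroup G, Nat.card N = 55 ∧
      centralizer ({a} : Set G) ≤ N ∧ (∀ g ∈ N, g * a * g⁻¹ ∈ zpowers a) ∧
      ∀ g : G, g * a * g⁻¹ ∈ zpowers a → g ∈ N := by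
  have hG := not_comm h
  have hP : ∀ P : Sylow 11 G, Nat.card (P : Subgroup G) = 11 := fun P => by
    rw [card_sylow_subgroup (p := 11) (e := 1) (m := 720) (by rw [h]; norm_num) (by norm_num) P, pow_one]
  obtain ⟨P, hPa⟩ := exists_sylow_eq_zpowers hP ha
  obtain ⟨j, hj1, hj10, hCj, -, hle⟩ := exists_card_centralizer_mul hG ha P hPa
  have hN := card_normalizer_mul_card_sylow P
  rw [card_sylow_eleven h, h] at hN
  have hN55 : Nat.card (normalizer ((P : Subgroup G) : Set G)) = 55 := by omega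
  rw [hN55] at hCj
  have := Nat.le_of_dvd (by norm_num) hj10
  refine ⟨by interval_cases j <;> omega, _, hN55, hle, fun g hg => ?_, fun g hg => ?_⟩
  · rw [← hPa]; exact (mem_normalizer_iff.mp hg a).mp (hPa ▸ mem_zpowers a)
  · rw [hPa]
    refine mem_normalizer_fintype fun y hy => ?_
    obtain ⟨i, rfl⟩ := mem_zpowers_iff.mp hy
    rw [← conj_zpow]
    exact zpow_mem hg i

theorem card_centralizer_eleven [Fact (Nat.Prime 11)] (h : Nat.card G = 7920) {a : G}
    (ha : orderOf a = 11) : Nat.card (centralizer ({a} : Set G)) = 11 :=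
  (eleven_aux h ha).1

theorem orderOf_dvd_eleven [Fact (Nat.Prime 11)] (h : Nat.card G = 7920) {a g : G}
    (ha : orderOf a = 11) (hc : g * a = a * g) : orderOf g ∣ 11 :=
  orderOf_dvd_of_centralizer (card_centralizer_eleven h ha) hc

theorem isConj_pow_eleven [Fact (Nat.Prime 11)] (h : Nat.card G = 7920) {a : G}
    (ha : orderOf a = 11) {k : ℕ} (hk : k = 1 ∨ k = 3 ∨ k = 4 ∨ k = 5 ∨ k = 9) :
    IsConj a (a ^ k) := by
  obtain ⟨hC, N, hN, hCN, hconj, -⟩ := eleven_aux h ha
  refine isConj_pow_of_card ha (j := 5) hconj hCN (by rw [hC, hN]) (by rw [hN]; decide +kernel) ?_ (by omega)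
  rw [hN]
  rcases hk with rfl | rfl | rfl | rfl | rfl <;> decide +kernel

theorem not_isConj_inv_eleven [Fact (Nat.Prime 11)] (h : Nat.card G = 7920) {a : G}
    (ha : orderOf a = 11) : ¬ IsConj a a⁻¹ := by
  intro hc
  obtain ⟨g, hg⟩ := isConj_iff.mp hc
  obtain ⟨-, N, hN, -, -, hmem⟩ := eleven_aux h ha
  have h10 : a⁻¹ = a ^ 10 := by
    refine inv_eq_of_mul_eq_one_left ?_
    rw [← pow_succ, show 10 + 1 = orderOf a from ha.symm, pow_orderOf_eq_one]
  have hgN : g ∈ N := hmem g (by rw [hg]; exact inv_mem (mem_zpowers a))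
  have h' := conj_pow_iterate (hg.trans h10) 55
  rw [show g ^ 55 = 1 by rw [← hN]; exact orderOf_dvd_iff_pow_eq_one.mp (orderOf_dvd_natCard N hgN),
    one_mul, inv_one, mul_one] at h'
  have h'' : a ^ 1 = a ^ (10 ^ 55) := by rw [pow_one]; exact h'
  rw [pow_eq_pow_iff_modEq, ha] at h''
  revert h''
  decide +kernel

theorem card_centralizer_five_aux [Fact (Nat.Prime 5)] [Fact (Nat.Prime 11)] (h : Nat.card G = 7920)
    {x : G} (hx : orderOf x = 5) :
    2 ∣ Nat.card (centralizer ({x} : Set G)) ∨ (Nat.card (centralizer ({x} : Set G)) = 5 ∧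
      ∀ k : ℕ, 0 < k → k < 5 → IsConj x (x ^ k)) := by
  have hG := not_comm h
  have hfac : Nat.card G = 5 ^ 1 * 1584 := by rw [h]; norm_num
  have hP : ∀ P : Sylow 5 G, Nat.card (P : Subgroup G) = 5 := fun P => by
    rw [card_sylow_subgroup hfac (by norm_num) P, pow_one]
  obtain ⟨P, hPx⟩ := exists_sylow_eq_zpowers hP hx
  obtain ⟨j, hj1, hj4, hCj, -, hle⟩ := exists_card_centralizer_mul hG hx P hPx
  have hdm : Nat.card (Sylow 5 G) ∣ 1584 := index_sylow hfac (by norm_num) P ▸ P.card_dvd_index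
  have hmod : Nat.card (Sylow 5 G) % 5 = 1 := card_sylow_modEq_one 5 G
  have hone := one_lt_card_sylow hG (p := 5) (by rw [h]; norm_num)
  have hd : ∀ d < 1585, d ∣ 1584 → d % 5 = 1 →
      d ∈ [1, 6, 11, 16, 36, 66, 176, 396] := by decide +kernel
  have hN := card_normalizer_mul_card_sylow P
  rw [h] at hN
  have hj' : j = 2 ∨ j = 4 := by
    have := Nat.le_of_dvd (by norm_num) hj4
    interval_cases j <;> simp_all
  have h11 : ¬ 11 ∣ Nat.card (centralizer ({x} : Set G)) := by
    intro hdvd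
    obtain ⟨⟨b, hb⟩, hbo⟩ := exists_prime_orderOf_dvd_card' 11 hdvd
    rw [Subgroup.orderOf_mk] at hbo
    have := orderOf_dvd_eleven h hbo (mem_centralizer_singleton_iff.mp hb).symm
    rw [hx] at this
    omega
  have hcase := hd _ (Nat.lt_succ_of_le (Nat.le_of_dvd (by norm_num) hdm)) hdm hmod
  simp only [List.mem_cons, List.not_mem_nil, or_false] at hcase
  by_cases h2 : 2 ∣ Nat.card (centralizer ({x} : Set G))
  · exact Or.inl h2
  have h20 : Nat.card (normalizer ((P : Subgroup G) : Set G)) = 20 ∧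
      Nat.card (centralizer ({x} : Set G)) = 5 ∧ j = 4 := by
    rcases hcase with e | e | e | e | e | e | e | e <;> rw [e] at hN <;>
      rcases hj' with rfl | rfl <;> omega
  obtain ⟨h20, hC, rfl⟩ := h20
  refine Or.inr ⟨hC, fun k hk0 hk5 => ?_⟩
  refine isConj_pow_of_card hx (j := 4) (N := normalizer ((P : Subgroup G) : Set G)) (fun g hg => ?_)
    hle (by rw [hC, h20]) (by rw [h20]; decide +kernel) (by rw [h20]; interval_cases k <;> rfl) hk5
  rw [← hPx]; exact (mem_normalizer_iff.mp hg x).mp (hPx ▸ mem_zpowers x)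

end simple

end Cfsg.Agent.Order7920
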