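/-
The column of an element of order 11 in the character table of a simple group of order 7920.

Main results (namespace `Cfsg.Agent.Order7920`): `column_eleven`, `column_cases`, `real_off_eleven`.
-/
import Cfsg.Agent.Lib.Order7920.CyclicVals
import Cfsg.Agent.Lib.Order7920.Local
import Cfsg.Agent.Lib.Order7920.Faithful
import Cfsg.Agent.Lib.ClassCount.CharSum

set_option autoImplicit false

open scoped ComplexConjugate

namespace Cfsg.Agent.Order7920

open Cfsg Subgroup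

variable {G : Type*} [Group G] [Finite G]

/-- The trivial character. -/
noncomputable def oneChar (G : Type*) [Group G] [Finite G] : IrrCharacter G :=
  ⟨1, Char.isIrrCharacter_one⟩

theorem isChar (χ : IrrCharacter G) : IsCharacter G χ.1 := Char.IsIrrCharacter.isCharacter χ.2

theorem dg_eq (χ : IrrCharacter G) : χ.1 1 = (charDegree χ.1 : ℂ) :=
  ClassCount.apply_one_eq_charDegree χ

theorem dg_one : charDegree (oneChar G).1 = 1 := by simp [oneChar, charDegree]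

theorem sum_dg_sq [Fintype (IrrCharacter G)] :
    ∑ χ : IrrCharacter G, (charDegree χ.1 : ℤ) ^ 2 = (Nat.card G : ℤ) := by
  have h := Char.sum_sq_degrees (G := G)
  simp only [dg_eq] at h
  exact_mod_cast h

/-- The conjugate character. -/
noncomputable def conjChar (χ : IrrCharacter G) : IrrCharacter G :=
  haveI := Fintype.ofFinite G
  ⟨fun g => conj (χ.1 g), Char.IsIrrCharacter.conj χ.2⟩

theorem dg_conjChar (χ : IrrCharacter G) : charDegree (conjChar χ).1 = charDegree χ.1 := by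
  simp [conjChar, charDegree]

theorem imag_facts {v : ℂ} {s q : ℤ} (hs : v + conj v = s) (hq : v * conj v = q) :
    0 ≤ 4 * q - s ^ 2 ∧ (4 * q - s ^ 2 = 0 ↔ conj v = v) := by
  have h1 := congrArg Complex.re hs
  have h2 := congrArg Complex.re hq
  simp at h1 h2
  have key : ((4 * q - s ^ 2 : ℤ) : ℝ) = 4 * v.im ^ 2 := by
    push_cast
    rw [← h1, ← h2]
    ring
  refine ⟨?_, ?_⟩
  · have : (0 : ℝ) ≤ ((4 * q - s ^ 2 : ℤ) : ℝ) := by rw [key]; positivity
    exact_mod_cast this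
  · rw [Complex.conj_eq_iff_im, ← Int.cast_inj (α := ℝ), key]
    simp

section simple

variable [IsSimpleGroup G] [Fact (Nat.Prime 11)]

theorem class_eleven (h : Nat.card G = 7920) {a : G} (ha : orderOf a = 11) (χ : IrrCharacter G) :
    χ.1 (a ^ 2) = conj (χ.1 a) ∧ χ.1 (a ^ 3) = χ.1 a ∧ χ.1 (a ^ 4) = χ.1 a ∧ χ.1 (a ^ 5) = χ.1 a ∧
    χ.1 (a ^ 6) = conj (χ.1 a) ∧ χ.1 (a ^ 7) = conj (χ.1 a) ∧ χ.1 (a ^ 8) = conj (χ.1 a) ∧
    χ.1 (a ^ 9) = χ.1 a ∧ χ.1 (a ^ 10) = conj (χ.1 a) := by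
  have hpos : ∀ k, (k = 1 ∨ k = 3 ∨ k = 4 ∨ k = 5 ∨ k = 9) → χ.1 (a ^ k) = χ.1 a := fun k hk =>
    ((Char.isConj_iff_irr _ _).mp (isConj_pow_eleven h ha hk) χ).symm
  have hneg : ∀ k, k < 11 → (11 - k = 1 ∨ 11 - k = 3 ∨ 11 - k = 4 ∨ 11 - k = 5 ∨ 11 - k = 9) →
      χ.1 (a ^ k) = conj (χ.1 a) := by
    intro k hk hk'
    have e : a ^ k = (a ^ (11 - k))⁻¹ := eq_inv_of_mul_eq_one_left (by
      rw [← pow_add, show k + (11 - k) = orderOf a by omega, pow_orderOf_eq_one])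
    rw [e, Char.IsCharacter.apply_inv (isChar χ), hpos _ hk']
  exact ⟨hneg 2 (by omega) (by omega), hpos 3 (by omega), hpos 4 (by omega), hpos 5 (by omega),
    hneg 6 (by omega) (by omega), hneg 7 (by omega) (by omega), hneg 8 (by omega) (by omega),
    hpos 9 (by omega), hneg 10 (by omega) (by omega)⟩

theorem vals_eleven (h : Nat.card G = 7920) {a : G} (ha : orderOf a = 11) (χ : IrrCharacter G) :
    ∃ s q : ℤ, χ.1 a + conj (χ.1 a) = s ∧ χ.1 a * conj (χ.1 a) = q ∧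
      (11 : ℤ) ∣ (charDegree χ.1 : ℤ) + 5 * s ∧ (11 : ℤ) ∣ (charDegree χ.1 : ℤ) ^ 2 - q ∧
      (conj (χ.1 a) = χ.1 a → ∃ z : ℤ, χ.1 a = z ∧ (11 : ℤ) ∣ (charDegree χ.1 : ℤ) - z) := by
  obtain ⟨h2, h3, h4, h5, h6, h7, h8, h9, h10⟩ := class_eleven h ha χ
  have hg : a ^ 11 = 1 := orderOf_dvd_iff_pow_eq_one.mp (ha ▸ dvd_rfl)
  obtain ⟨s, q, hs, hq, d1, d2⟩ := val_half (isChar χ) (dg_eq χ) (g := a) (n := 11) (e := 5)
    (by norm_num) rfl hg
    (by simp [Finset.sum_range_succ, dg_eq, h2, h3, h4, h5, h6, h7, h8, h9, h10]; ring)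
    (by simp [Finset.sum_range_succ, dg_eq, h2, h3, h4, h5, h6, h7, h8, h9, h10]; ring)
  refine ⟨s, q, hs, hq, by simpa using d1, d2, fun hreal => ?_⟩
  refine val_rational (isChar χ) (dg_eq χ) (g := a) (n := 11) (by norm_num) hg fun k hk hk0 => ?_
  rw [Finset.mem_range] at hk
  interval_cases k
  all_goals first | omega | simp [h2, h3, h4, h5, h6, h7, h8, h9, h10, hreal]

variable [Fintype (IrrCharacter G)] [DecidableEq (IrrCharacter G)]

/-- Exactly one pair of conjugate characters is not real at `a`. -/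
theorem column_eleven (h : Nat.card G = 7920) {a : G} (ha : orderOf a = 11) :
    ∃ (E : IrrCharacter G) (s : ℤ) (z : IrrCharacter G → ℤ),
      (s = 1 ∨ s = -1) ∧ E ≠ conjChar E ∧ E.1 a + conj (E.1 a) = s ∧ conj (E.1 a) ≠ E.1 a ∧
      (11 : ℤ) ∣ (charDegree E.1 : ℤ) + 5 * s ∧
      (∀ χ ∈ (Finset.univ.erase E).erase (conjChar E),
        χ.1 a = z χ ∧ (11 : ℤ) ∣ (charDegree χ.1 : ℤ) - z χ) ∧
      oneChar G ∈ (Finset.univ.erase E).erase (conjChar E) ∧ z (oneChar G) = 1 ∧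
      ∑ χ ∈ (Finset.univ.erase E).erase (conjChar E), z χ ^ 2 = 5 ∧
      ∑ χ ∈ (Finset.univ.erase E).erase (conjChar E), (charDegree χ.1 : ℤ) * z χ +
        (charDegree E.1 : ℤ) * s = 0 ∧
      ∑ χ ∈ (Finset.univ.erase E).erase (conjChar E), (charDegree χ.1 : ℤ) ^ 2 +
        2 * (charDegree E.1 : ℤ) ^ 2 = 7920 := by
  classical
  have := Fintype.ofFinite G
  choose s q hs hq d1 d2 hz using fun χ : IrrCharacter G => vals_eleven h ha χ
  have hC := card_centralizer_eleven h ha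
  have hinv : ∀ χ : IrrCharacter G, χ.1 a⁻¹ = conj (χ.1 a) :=
    fun χ => Char.IsCharacter.apply_inv (isChar χ) a
  have o1 : ∑ χ : IrrCharacter G, χ.1 a * conj (χ.1 a) = 11 := by
    rw [Char.column_orth a a, if_pos (IsConj.refl a), hC]; norm_num
  have o2 : ∑ χ : IrrCharacter G, χ.1 a * χ.1 a = 0 := by
    have := Char.column_orth a a⁻¹
    rw [if_neg (not_isConj_inv_eleven h ha)] at this
    simpa [hinv] using this
  have hq11 : ∑ χ, q χ = 11 := by
    have : ((∑ χ, q χ : ℤ) : ℂ) = ((11 : ℤ) : ℂ) := by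
      push_cast; rw [← o1]; exact Finset.sum_congr rfl fun χ _ => (hq χ).symm
    exact_mod_cast this
  have hs22 : ∑ χ, s χ ^ 2 = 22 := by
    have : ((∑ χ, s χ ^ 2 : ℤ) : ℂ) = ((22 : ℤ) : ℂ) := by
      push_cast
      rw [Finset.sum_congr rfl (g := fun χ : IrrCharacter G =>
        χ.1 a * χ.1 a + conj (χ.1 a * χ.1 a) + 2 * (χ.1 a * conj (χ.1 a)))
        (fun χ _ => by rw [← hs χ, map_mul]; ring)]
      rw [Finset.sum_add_distrib, Finset.sum_add_distrib, ← map_sum, ← Finset.mul_sum, o1, o2]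
      norm_num
    exact_mod_cast this
  have hD := fun χ : IrrCharacter G => imag_facts (hs χ) (hq χ)
  have hD22 : ∑ χ, (4 * q χ - s χ ^ 2) = 22 := by
    rw [Finset.sum_sub_distrib, ← Finset.mul_sum, hq11, hs22]; norm_num
  have h11 : ∀ χ, 4 * q χ - s χ ^ 2 ≠ 0 → 11 ≤ 4 * q χ - s χ ^ 2 := by
    intro χ hne
    refine Int.le_of_dvd (lt_of_le_of_ne (hD χ).1 (Ne.symm hne)) ?_
    obtain ⟨m, hm⟩ := d1 χ
    obtain ⟨m', hm'⟩ := d2 χ
    refine ⟨-4 * m' + 4 * m * (11 * m - 10 * s χ) + 9 * s χ ^ 2, ?_⟩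
    have hd : (charDegree χ.1 : ℤ) = 11 * m - 5 * s χ := by linarith
    rw [hd] at hm'
    linear_combination (-4 : ℤ) * hm'
  -- a non-real character exists
  obtain ⟨E, hE⟩ : ∃ E, 4 * q E - s E ^ 2 ≠ 0 := by
    by_contra! hall
    rw [Finset.sum_eq_zero (fun χ _ => hall χ)] at hD22
    norm_num at hD22
  have hEa : conj (E.1 a) ≠ E.1 a := fun e => hE ((hD E).2.mpr e)
  have hne : E ≠ conjChar E := fun e => hEa (congrFun (congrArg Subtype.val e) a).symm
  have hsE : s (conjChar E) = s E := by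
    have : (s (conjChar E) : ℂ) = s E := by
      rw [← hs, ← hs]; simp [conjChar, add_comm]
    exact_mod_cast this
  have hqE : q (conjChar E) = q E := by
    have : (q (conjChar E) : ℂ) = q E := by
      rw [← hq, ← hq]; simp [conjChar, mul_comm]
    exact_mod_cast this
  have hmem : conjChar E ∈ Finset.univ.erase E :=
    Finset.mem_erase.mpr ⟨hne.symm, Finset.mem_univ _⟩
  set R := (Finset.univ.erase E).erase (conjChar E) with hR
  have split : ∀ f : IrrCharacter G → ℤ, ∑ χ, f χ = f E + (f (conjChar E) + ∑ χ ∈ R, f χ) := fun f => by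
    rw [hR, Finset.add_sum_erase _ _ hmem, Finset.add_sum_erase _ _ (Finset.mem_univ E)]
  have splitC : ∀ f : IrrCharacter G → ℂ, ∑ χ, f χ = f E + (f (conjChar E) + ∑ χ ∈ R, f χ) := fun f => by
    rw [hR, Finset.add_sum_erase _ _ hmem, Finset.add_sum_erase _ _ (Finset.mem_univ E)]
  have hDR : ∑ χ ∈ R, (4 * q χ - s χ ^ 2) = 0 ∧ 4 * q E - s E ^ 2 = 11 := by
    have h0 : (0 : ℤ) ≤ ∑ χ ∈ R, (4 * q χ - s χ ^ 2) := Finset.sum_nonneg fun χ _ => (hD χ).1
    have := split fun χ => 4 * q χ - s χ ^ 2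
    rw [hD22, hsE, hqE] at this
    have := h11 E hE
    omega
  have hreal : ∀ χ ∈ R, conj (χ.1 a) = χ.1 a := fun χ hχ =>
    (hD χ).2.mp ((Finset.sum_eq_zero_iff_of_nonneg fun ψ _ => (hD ψ).1).mp hDR.1 χ hχ)
  choose z hzv hzd using fun χ : R => hz χ.1 (hreal χ.1 χ.2)
  set Z : IrrCharacter G → ℤ := fun χ => if hχ : χ ∈ R then z ⟨χ, hχ⟩ else 0
  have hZ : ∀ χ ∈ R, χ.1 a = Z χ ∧ (11 : ℤ) ∣ (charDegree χ.1 : ℤ) - Z χ := fun χ hχ => by
    simp only [Z, dif_pos hχ]; exact ⟨hzv ⟨χ, hχ⟩, hzd ⟨χ, hχ⟩⟩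
  have hone : oneChar G ∈ R := by
    refine Finset.mem_erase.mpr ⟨fun e => ?_, Finset.mem_erase.mpr ⟨fun e => ?_, Finset.mem_univ _⟩⟩
    · have := congrFun (congrArg Subtype.val e) a
      simp [oneChar, conjChar] at this
      exact hEa (by rw [← Complex.conj_conj (E.1 a), ← this]; simp)
    · exact hEa (by rw [← e]; simp [oneChar])
  have hZ1 : Z (oneChar G) = 1 := by
    have := (hZ _ hone).1
    simp [oneChar] at this
    exact_mod_cast this.symm
  have hZq : ∀ χ ∈ R, q χ = Z χ ^ 2 := fun χ hχ => by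
    have : (q χ : ℂ) = ((Z χ ^ 2 : ℤ) : ℂ) := by
      rw [← hq, hreal χ hχ, (hZ χ hχ).1]; push_cast; ring
    exact_mod_cast this
  have hsq := split q
  rw [hq11, hqE, Finset.sum_congr rfl hZq] at hsq
  have hZ2 : (1 : ℤ) ≤ ∑ χ ∈ R, Z χ ^ 2 := by
    refine le_trans ?_ (Finset.single_le_sum (f := fun χ => Z χ ^ 2) (fun χ _ => sq_nonneg _) hone)
    simp [hZ1]
  have o3 : ∑ χ : IrrCharacter G, (charDegree χ.1 : ℂ) * χ.1 a = 0 := by
    have := Char.sum_degree_mul_apply (G := G) a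
    rw [if_neg (fun e => by rw [e, orderOf_one] at ha; omega)] at this
    simpa [dg_eq] using this
  have hlin : ∑ χ ∈ R, (charDegree χ.1 : ℤ) * Z χ + (charDegree E.1 : ℤ) * s E = 0 := by
    have : ((∑ χ ∈ R, (charDegree χ.1 : ℤ) * Z χ + (charDegree E.1 : ℤ) * s E : ℤ) : ℂ) = ((0 : ℤ) : ℂ) := by
      rw [splitC, dg_conjChar, Finset.sum_congr rfl (g := fun χ : IrrCharacter G =>
        (charDegree χ.1 : ℂ) * (Z χ : ℂ)) (fun χ hχ => by rw [(hZ χ hχ).1])] at o3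
      push_cast
      rw [← hs E]
      simp only [conjChar] at o3
      linear_combination o3
    exact_mod_cast this
  have hsq2 := split fun χ => (charDegree χ.1 : ℤ) ^ 2
  rw [sum_dg_sq, h, dg_conjChar] at hsq2
  push_cast at hsq2
  have hs2 : s E ^ 2 = 1 ∨ s E ^ 2 = 9 := by
    have h0 : 0 ≤ s E ^ 2 := sq_nonneg _
    have h1 : s E ^ 2 ≤ 9 := by omega
    have h2 : s E ≤ 3 ∧ -3 ≤ s E := ⟨by nlinarith, by nlinarith⟩
    obtain ⟨h2, h3⟩ := h2
    have h4 := hDR.2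
    interval_cases (s E) <;> omega
  have hs1 : s E ^ 2 = 1 := by
    rcases hs2 with e | e
    · exact e
    · exfalso
      have hq5 : q E = 5 := by omega
      rw [hq5] at hsq
      have hone' := Finset.add_sum_erase R (fun χ => Z χ ^ 2) hone
      rw [show Z (oneChar G) ^ 2 = 1 by rw [hZ1]; norm_num] at hone'
      have h0 : ∀ χ ∈ R.erase (oneChar G), Z χ ^ 2 = 0 :=
        (Finset.sum_eq_zero_iff_of_nonneg fun χ _ => sq_nonneg _).mp (by omega)
      rw [← Finset.add_sum_erase R _ hone, hZ1, dg_one,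
        Finset.sum_eq_zero (fun χ hχ => by rw [(pow_eq_zero_iff two_ne_zero).mp (h0 χ hχ)]; ring)] at hlin
      have hdvd : s E ∣ 1 := ⟨-(charDegree E.1 : ℤ), by push_cast at hlin; linarith⟩
      rcases eq_or_eq_neg_of_sq_eq_sq (s E) 3 (by rw [e]; norm_num) with h' | h' <;>
        rw [h'] at hdvd <;> norm_num at hdvd
  have hq3 : q E = 3 := by omega
  rw [hq3] at hsq
  simp only [hR] at hsq hsq2
  exact ⟨E, s E, Z, sq_eq_one_iff.mp hs1, hne, hs E, hEa, d1 E, hZ, hone, hZ1, by omega, hlin, by omega⟩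

end simple

end Cfsg.Agent.Order7920
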