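/-
The possible degrees of the characters not vanishing on elements of order 11, and the centraliser
of an element of order 5.

Main results (namespace `Cfsg.Agent.Order7920`): `column_cases`, `real_off_eleven`, `five_facts`.
-/
import Cfsg.Agent.Lib.Order7920.Column
import Cfsg.Agent.Lib.Char.PRegular

set_option autoImplicit false

open scoped ComplexConjugate

namespace Cfsg.Agent.Order7920

open Cfsg Subgroup

variable {G : Type*} [Group G] [Finite G]

theorem dvd_cases :
    (∀ d < 63, d ∣ 7920 → d % 11 = 6 → d = 6) ∧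
    (∀ d < 63, d ∣ 7920 → d % 11 = 5 → d ∈ [5, 16, 60]) ∧
    (∀ d < 89, d ∣ 7920 → d % 11 = 1 → d ∈ [1, 12, 45]) ∧
    (∀ d < 89, d ∣ 7920 → d % 11 = 10 → d = 10) ∧
    (∀ d < 89, d ∣ 7920 → d % 11 = 2 → d ∈ [2, 24]) ∧
    (∀ d < 89, d ∣ 7920 → d % 11 = 9 → d ∈ [9, 20]) := by
  refine ⟨?_, ?_, ?_, ?_, ?_, ?_⟩ <;> decide +kernel

theorem factorization_eq {n p a b : ℕ} (hp : p.Prime) (hn : n = p ^ a * b) (hb : ¬ p ∣ b) :
    n.factorization p = a := by
  subst hn
  have hb0 : b ≠ 0 := fun e => hb (e ▸ dvd_zero p)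
  rw [Nat.factorization_mul (pow_ne_zero _ hp.ne_zero) hb0, Finsupp.add_apply, hp.factorization_pow,
    Nat.factorization_eq_zero_of_not_dvd hb]
  simp

theorem vanish_five (h : Nat.card G = 7920) (χ : IrrCharacter G) {d : ℕ} (hd : charDegree χ.1 = d)
    (h5 : d = 5 ∨ d = 10 ∨ d = 45) {g : G} (hg : 5 ∣ orderOf g) : χ.1 g = 0 := by
  refine Char.vanishes_of_defect_zero (by norm_num) χ.2 (dg_eq χ) ?_ g hg
  rw [h, hd, factorization_eq (a := 1) (b := 1584) (by norm_num : Nat.Prime 5) (by norm_num) (by norm_num)]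
  rcases h5 with rfl | rfl | rfl
  · rw [factorization_eq (a := 1) (b := 1) (by norm_num : Nat.Prime 5) (by norm_num) (by norm_num)]
  · rw [factorization_eq (a := 1) (b := 2) (by norm_num : Nat.Prime 5) (by norm_num) (by norm_num)]
  · rw [factorization_eq (a := 1) (b := 9) (by norm_num : Nat.Prime 5) (by norm_num) (by norm_num)]

theorem vanish_two (h : Nat.card G = 7920) (χ : IrrCharacter G) (hd : charDegree χ.1 = 16)
    {g : G} (hg : 2 ∣ orderOf g) : χ.1 g = 0 := by
  refine Char.vanishes_of_defect_zero Nat.prime_two χ.2 (dg_eq χ) ?_ g hg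
  rw [h, hd, factorization_eq (a := 4) (b := 495) Nat.prime_two (by norm_num) (by norm_num),
    factorization_eq (a := 4) (b := 1) Nat.prime_two (by norm_num) (by norm_num)]

theorem isConj_orderOf {g k : G} (hc : IsConj g k) : orderOf g = orderOf k := by
  obtain ⟨c, rfl⟩ := isConj_iff.mp hc
  exact (orderOf_injective (MulAut.conj c).toMonoidHom (MulAut.conj c).injective g).symm

section simple

variable [IsSimpleGroup G]

theorem dg_ne_one (h : Nat.card G = 7920) {χ : IrrCharacter G} (hne : χ ≠ oneChar G) :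
    charDegree χ.1 ≠ 1 := fun e =>
  hne (Subtype.ext (eq_one_of_degree_one (not_comm h) (isChar χ) (by rw [dg_eq, e]; simp)))

theorem val_ne_one_of_ne (h : Nat.card G = 7920) {χ : IrrCharacter G} (hne : χ ≠ oneChar G) :
    χ.1 ≠ 1 := fun e => hne (Subtype.ext e)

variable [Fact (Nat.Prime 11)] [Fintype (IrrCharacter G)] [DecidableEq (IrrCharacter G)]

/-- The two possible sets of degrees of characters not vanishing at `a`. -/
theorem column_cases (h : Nat.card G = 7920) {a : G} (ha : orderOf a = 11) :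
    ∃ (E : IrrCharacter G) (s : ℤ) (z : IrrCharacter G → ℤ) (R : Finset (IrrCharacter G)),
      R = ((Finset.univ.erase E).erase (conjChar E)).erase (oneChar G) ∧
      E ≠ conjChar E ∧ E.1 a + conj (E.1 a) = s ∧ conj (E.1 a) ≠ E.1 a ∧
      E ≠ oneChar G ∧ conjChar E ≠ oneChar G ∧ s = -1 ∧
      (∀ χ ∈ R, χ.1 a = z χ) ∧
      (∀ χ ∈ R, (z χ = 0 ∧ 11 ∣ charDegree χ.1) ∨ (z χ = 1 ∧ charDegree χ.1 = 12) ∨
        (z χ = 1 ∧ charDegree χ.1 = 45) ∨ (z χ = -1 ∧ charDegree χ.1 = 10)) ∧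
      ∑ χ ∈ R, (charDegree χ.1 : ℤ) ^ 2 + 2 * (charDegree E.1 : ℤ) ^ 2 = 7919 ∧
      ((charDegree E.1 = 16 ∧
          (R.filter fun χ => z χ = 1 ∧ charDegree χ.1 = 12).card = 0 ∧
          (R.filter fun χ => z χ = 1 ∧ charDegree χ.1 = 45).card = 1 ∧
          (R.filter fun χ => z χ = -1).card = 3) ∨
        (charDegree E.1 = 5 ∧
          (R.filter fun χ => z χ = 1 ∧ charDegree χ.1 = 12).card = 2 ∧
          (R.filter fun χ => z χ = 1 ∧ charDegree χ.1 = 45).card = 0 ∧
          (R.filter fun χ => z χ = -1).card = 2)) := by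
  classical
  obtain ⟨D1, D2, D3, D4, D5, D6⟩ := dvd_cases
  obtain ⟨E, s, z, hs1, hne, hs, hEa, hE11, hz, hone, hz1, hz2, hlin, hsq⟩ := column_eleven h ha
  rw [← Finset.add_sum_erase _ _ hone, hz1] at hz2 hlin
  rw [← Finset.add_sum_erase _ _ hone] at hsq
  rw [dg_one] at hlin hsq
  push_cast at hlin hsq
  set R := ((Finset.univ.erase E).erase (conjChar E)).erase (oneChar G) with hR
  have hE1 : E ≠ oneChar G := fun e => hEa (by rw [e]; simp [oneChar])
  have hE1' : conjChar E ≠ oneChar G := fun e => (Finset.mem_erase.mp hone).1 e.symm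
  have hdd : ∀ χ : IrrCharacter G, charDegree χ.1 ∣ 7920 := fun χ => h ▸ ClassCount.degree_dvd_card χ
  have hEd : charDegree E.1 < 63 := by
    by_contra hlt
    have : (63 : ℤ) ^ 2 ≤ (charDegree E.1 : ℤ) ^ 2 := pow_le_pow_left₀ (by norm_num) (by omega) 2
    norm_num at this
    have : (0 : ℤ) ≤ ∑ χ ∈ R, (charDegree χ.1 : ℤ) ^ 2 := Finset.sum_nonneg fun χ _ => sq_nonneg _
    omega
  have hRd : ∀ χ ∈ R, charDegree χ.1 < 89 := fun χ hχ => by
    by_contra hlt
    have : (89 : ℤ) ^ 2 ≤ (charDegree χ.1 : ℤ) ^ 2 := pow_le_pow_left₀ (by norm_num) (by omega) 2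
    norm_num at this
    have : (0 : ℤ) ≤ (charDegree E.1 : ℤ) ^ 2 := sq_nonneg _
    have h2 := Finset.single_le_sum (f := fun χ : IrrCharacter G => (charDegree χ.1 : ℤ) ^ 2)
      (fun χ _ => sq_nonneg _) hχ
    omega
  have hzR : ∀ χ ∈ R, χ.1 a = z χ ∧ (11 : ℤ) ∣ (charDegree χ.1 : ℤ) - z χ := fun χ hχ =>
    hz χ (Finset.mem_of_mem_erase hχ)
  have hRne : ∀ χ ∈ R, χ ≠ oneChar G := fun χ hχ => (Finset.mem_erase.mp hχ).1
  have hsum4 : ∑ χ ∈ R, z χ ^ 2 = 4 := by linarith
  -- no value of absolute value two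
  have hsmall : ∀ χ ∈ R, z χ = 0 ∨ z χ = 1 ∨ z χ = -1 := by
    intro χ hχ
    have h0 := Finset.single_le_sum (f := fun χ => z χ ^ 2) (fun χ _ => sq_nonneg _) hχ
    simp only [hsum4] at h0
    have hb : z χ ≤ 2 ∧ -2 ≤ z χ := ⟨by nlinarith, by nlinarith⟩
    by_contra hcon
    have h2 : z χ = 2 ∨ z χ = -2 := by omega
    have hsq4 : z χ ^ 2 = 4 := by rcases h2 with e | e <;> rw [e] <;> norm_num
    have hrest : ∀ ψ ∈ R.erase χ, z ψ = 0 := by
      have := Finset.add_sum_erase R (fun χ => z χ ^ 2) hχ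
      simp only [hsum4, hsq4] at this
      intro ψ hψ
      exact (pow_eq_zero_iff two_ne_zero).mp
        ((Finset.sum_eq_zero_iff_of_nonneg fun χ _ => sq_nonneg _).mp (by linarith) ψ hψ)
    rw [← Finset.add_sum_erase R _ hχ, Finset.sum_eq_zero (fun ψ hψ => by rw [hrest ψ hψ, mul_zero])] at hlin
    have hd := hRd χ hχ
    have hmod := (hzR χ hχ).2
    have he := hdd E
    rcases h2 with e | e <;> rw [e] at hlin hmod
    · have := D5 _ hd (hdd χ) (by omega)
      simp only [List.mem_cons, List.not_mem_nil, or_false] at this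
      rcases this with e' | e'
      · refine absurd (eq_one_of_apply_eq (not_comm h) χ.2 (val_ne_one_of_ne h (hRne χ hχ)) (g := a) ?_)
          (fun e => by rw [e, orderOf_one] at ha; omega)
        rw [(hzR χ hχ).1, dg_eq, e', ‹z χ = 2›]; norm_num
      · rw [e'] at hlin
        rcases hs1 with e1 | e1 <;> rw [e1] at hlin
        · omega
        · rw [show charDegree E.1 = 49 by omega] at he; norm_num at he
    · have := D6 _ hd (hdd χ) (by omega)
      simp only [List.mem_cons, List.not_mem_nil, or_false] at this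
      rcases this with e' | e' <;> rw [e'] at hlin <;> rcases hs1 with e1 | e1 <;> rw [e1] at hlin
      · rw [show charDegree E.1 = 17 by omega] at he; norm_num at he
      · omega
      · rw [show charDegree E.1 = 39 by omega] at he; norm_num at he
      · omega
  have hclass : ∀ χ ∈ R, (z χ = 0 ∧ 11 ∣ charDegree χ.1) ∨ (z χ = 1 ∧ charDegree χ.1 = 12) ∨
        (z χ = 1 ∧ charDegree χ.1 = 45) ∨ (z χ = -1 ∧ charDegree χ.1 = 10) := by
    intro χ hχ
    have hmod := (hzR χ hχ).2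
    have hd := hRd χ hχ
    rcases hsmall χ hχ with e | e | e <;> rw [e] at hmod
    · exact Or.inl ⟨e, by omega⟩
    · have := D3 _ hd (hdd χ) (by omega)
      simp only [List.mem_cons, List.not_mem_nil, or_false] at this
      rcases this with e' | e' | e'
      · exact absurd e' (dg_ne_one h (hRne χ hχ))
      · exact Or.inr (Or.inl ⟨e, e'⟩)
      · exact Or.inr (Or.inr (Or.inl ⟨e, e'⟩))
    · exact Or.inr (Or.inr (Or.inr ⟨e, D4 _ hd (hdd χ) (by omega)⟩))
  set I := R.filter fun χ => z χ = 1 ∧ charDegree χ.1 = 12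
  set J := R.filter fun χ => z χ = 1 ∧ charDegree χ.1 = 45
  set K := R.filter fun χ => z χ = -1
  have key : ∀ (f : IrrCharacter G → ℤ) (p q r : ℤ),
      (∀ χ ∈ R, f χ - (if z χ = 1 ∧ charDegree χ.1 = 12 then p else 0) -
        (if z χ = 1 ∧ charDegree χ.1 = 45 then q else 0) - (if z χ = -1 then r else 0) ≥ 0) →
      p * I.card + q * J.card + r * K.card ≤ ∑ χ ∈ R, f χ := by
    intro f p q r hf
    have := Finset.sum_nonneg hf
    rw [Finset.sum_sub_distrib, Finset.sum_sub_distrib, Finset.sum_sub_distrib, ← Finset.sum_filter,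
      ← Finset.sum_filter, ← Finset.sum_filter, Finset.sum_const, Finset.sum_const, Finset.sum_const,
      nsmul_eq_mul, nsmul_eq_mul, nsmul_eq_mul] at this
    linarith
  have c1 := key (fun χ => z χ ^ 2) 1 1 1 (fun χ hχ => by
    rcases hclass χ hχ with ⟨e, d⟩ | ⟨e, d⟩ | ⟨e, d⟩ | ⟨e, d⟩ <;> simp [e, d])
  have c1' := key (fun χ => -(z χ ^ 2)) (-1) (-1) (-1) (fun χ hχ => by
    rcases hclass χ hχ with ⟨e, d⟩ | ⟨e, d⟩ | ⟨e, d⟩ | ⟨e, d⟩ <;> simp [e, d])
  have c2 := key (fun χ => (charDegree χ.1 : ℤ) * z χ) 12 45 (-10) (fun χ hχ => by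
    rcases hclass χ hχ with ⟨e, d⟩ | ⟨e, d⟩ | ⟨e, d⟩ | ⟨e, d⟩ <;> simp [e, d])
  have c2' := key (fun χ => -((charDegree χ.1 : ℤ) * z χ)) (-12) (-45) 10 (fun χ hχ => by
    rcases hclass χ hχ with ⟨e, d⟩ | ⟨e, d⟩ | ⟨e, d⟩ | ⟨e, d⟩ <;> simp [e, d])
  have c3 := key (fun χ => (charDegree χ.1 : ℤ) ^ 2) 144 2025 100 (fun χ hχ => by
    rcases hclass χ hχ with ⟨e, d⟩ | ⟨e, d⟩ | ⟨e, d⟩ | ⟨e, d⟩ <;> simp [e, d])
  simp only [Finset.sum_neg_distrib, hsum4] at c1 c1' c2' c3
  have hEcase : (s = 1 ∧ charDegree E.1 = 6) ∨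
      (s = -1 ∧ (charDegree E.1 = 5 ∨ charDegree E.1 = 16 ∨ charDegree E.1 = 60)) := by
    rcases hs1 with e | e
    · exact Or.inl ⟨e, D1 _ hEd (hdd E) (by rw [e] at hE11; omega)⟩
    · have := D2 _ hEd (hdd E) (by rw [e] at hE11; omega)
      simp only [List.mem_cons, List.not_mem_nil, or_false] at this
      exact Or.inr ⟨e, this⟩
  have hfin : s = -1 ∧ ((charDegree E.1 = 16 ∧ I.card = 0 ∧ J.card = 1 ∧ K.card = 3) ∨
      (charDegree E.1 = 5 ∧ I.card = 2 ∧ J.card = 0 ∧ K.card = 2)) := by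
    have hI4 : I.card ≤ 4 := by omega
    have hJ4 : J.card ≤ 4 := by omega
    generalize I.card = i at *
    generalize J.card = j at *
    rcases hEcase with ⟨e, d⟩ | ⟨e, d | d | d⟩ <;> rw [e, d] at hlin <;> rw [d] at hsq <;>
      norm_num at hlin hsq <;> interval_cases i <;> interval_cases j <;>
      refine ⟨by omega, ?_⟩ <;> omega
  exact ⟨E, s, z, R, hR, hne, hs, hEa, hE1, hE1', hfin.1, fun χ hχ => (hzR χ hχ).1, hclass,
    by linarith, hfin.2⟩

/-- Off the classes of elements of order 11 the pair `E`, `conj E` takes real values. -/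
theorem real_off_eleven (h : Nat.card G = 7920) {a : G} (ha : orderOf a = 11) {E : IrrCharacter G}
    {z : IrrCharacter G → ℤ} (hne : E ≠ conjChar E) (hEa : conj (E.1 a) ≠ E.1 a)
    (hz : ∀ χ, χ ≠ E → χ ≠ conjChar E → χ.1 a = z χ) {g : G} (hg : orderOf g ≠ 11) :
    conj (E.1 g) = E.1 g := by
  classical
  have hinv : ∀ χ : IrrCharacter G, χ.1 a⁻¹ = conj (χ.1 a) :=
    fun χ => Char.IsCharacter.apply_inv (isChar χ) a
  have o1 := Char.column_orth a g
  rw [if_neg (fun hc => hg ((isConj_orderOf hc).symm.trans ha))] at o1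
  have o2 := Char.column_orth a⁻¹ g
  rw [if_neg (fun hc => hg ((isConj_orderOf hc).symm.trans (by rw [orderOf_inv, ha])))] at o2
  have o3 : ∑ χ : IrrCharacter G, (χ.1 a - conj (χ.1 a)) * conj (χ.1 g) = 0 := by
    rw [Finset.sum_congr rfl (fun χ _ => sub_mul _ _ _), Finset.sum_sub_distrib, o1]
    simp only [← hinv, o2, sub_zero]
  have hmem : conjChar E ∈ Finset.univ.erase E :=
    Finset.mem_erase.mpr ⟨hne.symm, Finset.mem_univ _⟩
  rw [← Finset.add_sum_erase _ _ (Finset.mem_univ E), ← Finset.add_sum_erase _ _ hmem,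
    Finset.sum_eq_zero (fun χ hχ => by
      simp only [Finset.mem_erase] at hχ
      rw [hz χ hχ.2.1 hχ.1]; simp), add_zero] at o3
  simp only [conjChar, Complex.conj_conj] at o3
  have : (E.1 a - conj (E.1 a)) * (conj (E.1 g) - E.1 g) = 0 := by linear_combination o3
  rcases mul_eq_zero.mp this with e | e
  · exact absurd (sub_eq_zero.mp e).symm hEa
  · exact sub_eq_zero.mp e

/-- The centraliser of an element of order 5 has order 5 and the column at an element of order 11
has the degrees `1, 10, 10, 10, 16, 16, 45`. -/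
theorem five_facts [Fact (Nat.Prime 5)] (h : Nat.card G = 7920) {a x : G} (ha : orderOf a = 11)
    (hx : orderOf x = 5) :
    ∃ (E : IrrCharacter G) (z : IrrCharacter G → ℤ) (R : Finset (IrrCharacter G)),
      R = ((Finset.univ.erase E).erase (conjChar E)).erase (oneChar G) ∧
      E ≠ conjChar E ∧ E.1 a + conj (E.1 a) = -1 ∧ E ≠ oneChar G ∧ conjChar E ≠ oneChar G ∧
      charDegree E.1 = 16 ∧
      (∀ g, orderOf g ≠ 11 → conj (E.1 g) = E.1 g) ∧
      (∀ χ ∈ R, χ.1 a = z χ) ∧
      (∀ χ ∈ R, (z χ = 0 ∧ 11 ∣ charDegree χ.1) ∨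
        (z χ = 1 ∧ charDegree χ.1 = 45) ∨ (z χ = -1 ∧ charDegree χ.1 = 10)) ∧
      ∑ χ ∈ R, (charDegree χ.1 : ℤ) ^ 2 = 7407 ∧
      (R.filter fun χ => z χ = 1).card = 1 ∧ (R.filter fun χ => z χ = -1).card = 3 ∧
      Nat.card (centralizer ({x} : Set G)) = 5 ∧ ∀ k : ℕ, 0 < k → k < 5 → IsConj x (x ^ k) := by
  classical
  have := Fintype.ofFinite G
  obtain ⟨E, s, z, R, hR, hne, hs, hEa, hE1, hE1', rfl, hz, hclass, hsq, hcase⟩ := column_cases h ha
  have hz' : ∀ χ, χ ≠ E → χ ≠ conjChar E → ∃ w : ℤ, χ.1 a = w := by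
    intro χ h1 h2
    by_cases h3 : χ = oneChar G
    · exact ⟨1, by subst h3; simp [oneChar]⟩
    · exact ⟨z χ, hz χ (by rw [hR]; simp [h1, h2, h3])⟩
  choose! w hw using hz'
  have hreal : ∀ g, orderOf g ≠ 11 → conj (E.1 g) = E.1 g :=
    fun g hg => real_off_eleven h ha hne hEa hw hg
  have hsplit : ∀ f : IrrCharacter G → ℂ, ∑ χ, f χ = f E + f (conjChar E) + f (oneChar G) + ∑ χ ∈ R, f χ := fun f => by
    rw [hR, ← Finset.add_sum_erase _ _ (Finset.mem_univ E),
      ← Finset.add_sum_erase _ _ (Finset.mem_erase.mpr ⟨hne.symm, Finset.mem_univ _⟩),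
      ← Finset.add_sum_erase _ _ (Finset.mem_erase.mpr ⟨hE1'.symm,
        Finset.mem_erase.mpr ⟨hE1.symm, Finset.mem_univ _⟩⟩)]
    ring
  have hC : Nat.card (centralizer ({x} : Set G)) = 5 ∧ ∀ k : ℕ, 0 < k → k < 5 → IsConj x (x ^ k) := by
    refine (card_centralizer_five_aux h hx).resolve_left fun h2 => ?_
    obtain ⟨⟨v, hv⟩, hvo⟩ := exists_prime_orderOf_dvd_card' 2 h2
    rw [Subgroup.orderOf_mk] at hvo
    have hvx : Commute v x := mem_centralizer_singleton_iff.mp hv
    have hg : orderOf (v * x) = 10 := by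
      rw [hvx.orderOf_mul_eq_mul_orderOf_of_coprime (by rw [hvo, hx]; norm_num), hvo, hx]
    set g := v * x
    rcases hcase with ⟨hE, hI, -, -⟩ | ⟨hE, -, -, -⟩
    · -- degrees 16: all characters but the trivial one have values in `11 · 𝔸` times degree at `g`
      have hv0 : E.1 g = 0 := vanish_two h E hE (by rw [hg]; norm_num)
      have hterm : ∀ χ ∈ R, ∃ t : ℂ, IsIntegral ℤ t ∧ (charDegree χ.1 : ℂ) * χ.1 g = 11 * t := by
        intro χ hχ
        rcases hclass χ hχ with ⟨-, m, hm⟩ | ⟨e, d⟩ | ⟨-, d⟩ | ⟨-, d⟩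
        · refine ⟨(m : ℂ) * χ.1 g, IsIntegral.mul ?_ (isIntegral_apply (isChar χ) g), by rw [hm]; push_cast; ring⟩
          simpa using (isIntegral_algebraMap : IsIntegral ℤ (algebraMap ℤ ℂ (m : ℤ)))
        · exact absurd ⟨e, d⟩ (Finset.filter_eq_empty_iff.mp (Finset.card_eq_zero.mp hI) hχ)
        · exact ⟨0, isIntegral_zero, by
            rw [vanish_five h χ d (by omega) (by rw [hg]; norm_num)]; ring⟩
        · exact ⟨0, isIntegral_zero, by
            rw [vanish_five h χ d (by omega) (by rw [hg]; norm_num)]; ring⟩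
      choose! t ht htv using hterm
      have o := Char.sum_degree_mul_apply (G := G) g
      rw [if_neg (fun e => by rw [e, orderOf_one] at hg; omega)] at o
      simp only [dg_eq] at o
      rw [hsplit, Finset.sum_congr rfl htv, ← Finset.mul_sum, dg_one] at o
      simp only [conjChar, oneChar, hv0, map_zero, mul_zero, zero_add, Pi.one_apply, Nat.cast_one, mul_one] at o
      obtain ⟨b, -, hb⟩ := int_of_rat (k := 11) (a := -1) (by norm_num) (IsIntegral.sum t ht : IsIntegral ℤ (∑ χ ∈ R, t χ))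
        (by push_cast; linear_combination o)
      push_cast at hb
      omega
    · -- degree 5: the value at the involution `g ^ 5` would be scalar
      have hg10 : g ^ 10 = 1 := orderOf_dvd_iff_pow_eq_one.mp (hg ▸ dvd_rfl)
      have hv5 : ∀ k, k < 10 → k ≠ 0 → k ≠ 5 → E.1 (g ^ k) = 0 := by
        intro k hk h0 h5
        refine vanish_five h E hE (Or.inl rfl) ?_
        rw [orderOf_pow g, hg]
        interval_cases k <;> first | omega | norm_num
      have hd : E.1 1 = (5 : ℕ) := by rw [dg_eq, hE]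
      obtain ⟨m0, e0⟩ := sum_pow_char (isChar E) hg10 (c := 1) (one_pow _)
      obtain ⟨m1, e1⟩ := sum_pow_char (isChar E) hg10 (c := -1) (by norm_num)
      simp only [Finset.sum_range_succ, Finset.sum_range_zero, pow_zero, one_pow, mul_one, zero_add,
        hd, hv5 1 (by omega) (by omega) (by omega), hv5 2 (by omega) (by omega) (by omega),
        hv5 3 (by omega) (by omega) (by omega), hv5 4 (by omega) (by omega) (by omega),
        hv5 6 (by omega) (by omega) (by omega), hv5 7 (by omega) (by omega) (by omega),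
        hv5 8 (by omega) (by omega) (by omega), hv5 9 (by omega) (by omega) (by omega),
        zero_mul, add_zero] at e0 e1
      norm_num at e0 e1
      have hm : ((m0 + m1 : ℕ) : ℂ) = ((1 : ℕ) : ℂ) := by push_cast; linear_combination -(e0 + e1) / 10
      have hm' : m0 + m1 = 1 := by exact_mod_cast hm
      have hval : ‖E.1 (g ^ 5)‖ = (5 : ℕ) := by
        have : E.1 (g ^ 5) = 5 ∨ E.1 (g ^ 5) = -5 := by
          rcases (show m0 = 0 ∧ m1 = 1 ∨ m0 = 1 ∧ m1 = 0 by omega) with ⟨a0, a1⟩ | ⟨a0, a1⟩ <;>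
            rw [a0] at e0 <;> norm_num at e0
          · exact Or.inr (by linear_combination e0)
          · exact Or.inl (by linear_combination e0)
        rcases this with e | e <;> rw [e] <;> simp
      have := eq_one_of_norm_eq (not_comm h) E.2 (val_ne_one_of_ne h hE1) hd hval
      have h5 : orderOf g ∣ 5 := orderOf_dvd_of_pow_eq_one this
      rw [hg] at h5
      norm_num at h5
  rcases hcase with ⟨hE, hI, hJ, hK⟩ | ⟨hE, hI, -, -⟩
  · refine ⟨E, z, R, hR, hne, by simpa using hs, hE1, hE1', hE, hreal, hz, fun χ hχ => ?_, ?_, ?_, hK, hC⟩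
    · rcases hclass χ hχ with e | e | e | e
      · exact Or.inl e
      · exact absurd e (Finset.filter_eq_empty_iff.mp (Finset.card_eq_zero.mp hI) hχ)
      · exact Or.inr (Or.inl e)
      · exact Or.inr (Or.inr e)
    · rw [hE] at hsq; norm_num at hsq; linarith
    · rw [← hJ]; congr 1
      refine Finset.filter_congr fun χ hχ => ⟨fun e => ⟨e, ?_⟩, fun e => e.1⟩
      rcases hclass χ hχ with f | f | f | f
      · omega
      · exact absurd f (Finset.filter_eq_empty_iff.mp (Finset.card_eq_zero.mp hI) hχ)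
      · exact f.2
      · omega
  · -- degrees 12, 12: too large values at `x`
    exfalso
    have hp : x ^ 5 = 1 := orderOf_dvd_iff_pow_eq_one.mp (hx ▸ dvd_rfl)
    have hv : ∀ χ : IrrCharacter G, ∃ u : ℤ, χ.1 x = u ∧ (5 : ℤ) ∣ (charDegree χ.1 : ℤ) - u := fun χ =>
      val_rational (isChar χ) (dg_eq χ) (n := 5) (by norm_num) hp fun k hk hk0 =>
        ((Char.isConj_iff_irr _ _).mp (hC.2 k (Nat.pos_of_ne_zero hk0) (Finset.mem_range.mp hk)) χ).symm
    choose u hu hu5 using hv
    have o := Char.column_orth x x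
    rw [if_pos (IsConj.refl x), hC.1, Finset.sum_congr rfl (g := fun χ : IrrCharacter G => ((u χ ^ 2 : ℤ) : ℂ))
      (fun χ _ => by rw [hu]; simp; ring)] at o
    have o' : ∑ χ, u χ ^ 2 = 5 := by exact_mod_cast o
    obtain ⟨P, Q, hPQ, hI2⟩ := Finset.card_eq_two.mp hI
    have hmem : ∀ χ, χ = P ∨ χ = Q → χ ≠ oneChar G ∧ 4 ≤ u χ ^ 2 := by
      intro χ hχ
      have : χ ∈ R.filter fun χ => z χ = 1 ∧ charDegree χ.1 = 12 := by rw [hI2]; simpa using hχ
      obtain ⟨hm, -, hd⟩ := Finset.mem_filter.mp this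
      refine ⟨fun e => by rw [hR] at hm; simp [e] at hm, ?_⟩
      have := hu5 χ
      rw [hd] at this
      rcases (show u χ ≥ 2 ∨ u χ ≤ -2 by omega) with hu2 | hu2 <;> nlinarith
    have h1 : u (oneChar G) ^ 2 = 1 := by
      have := hu (oneChar G)
      simp [oneChar] at this
      have : u (oneChar G) = 1 := by simpa [oneChar] using (by exact_mod_cast this.symm : u (oneChar G) = 1)
      rw [this]; norm_num
    have hsub : ∑ χ ∈ ({oneChar G, P, Q} : Finset (IrrCharacter G)), u χ ^ 2 ≤ ∑ χ, u χ ^ 2 :=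
      Finset.sum_le_sum_of_subset_of_nonneg (Finset.subset_univ _) fun χ _ _ => sq_nonneg _
    rw [Finset.sum_insert (by simp [(hmem P (Or.inl rfl)).1.symm, (hmem Q (Or.inr rfl)).1.symm]),
      Finset.sum_pair hPQ, o', h1] at hsub
    have := (hmem P (Or.inl rfl)).2
    have := (hmem Q (Or.inr rfl)).2
    omega

end simple

end Cfsg.Agent.Order7920
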