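/-
The ten irreducible characters of a simple group of order 7920.

Main results (namespace `Cfsg.Agent.Order7920`): `Table`, `exists_table`, `Table.sum_eq`.
-/
import Cfsg.Agent.Lib.Order7920.Cases

set_option autoImplicit false

open scoped ComplexConjugate

namespace Cfsg.Agent.Order7920

open Cfsg Subgroup

variable {G : Type*} [Group G] [Finite G]

/-- The degrees. -/
def degs : Fin 10 → ℕ := ![1, 10, 10, 10, 11, 16, 16, 44, 45, 55]

/-- The values at an element of order 11, except for the characters of degree 16. -/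
def valsA : Fin 10 → ℤ := ![1, -1, -1, -1, 0, 0, 0, 0, 1, 0]

/-- The values at an element of order 5. -/
def valsX : Fin 10 → ℤ := ![1, 0, 0, 0, 1, 1, 1, -1, 0, 0]

/-- The data known about the character table. -/
structure Table (f : Fin 10 → IrrCharacter G) (a x : G) : Prop where
  bij : Function.Bijective f
  deg : ∀ i, charDegree (f i).1 = degs i
  one : (f 0).1 = 1
  conj6 : ∀ g, (f 6).1 g = conj ((f 5).1 g)
  real16 : ∀ g, orderOf g ≠ 11 → conj ((f 5).1 g) = (f 5).1 g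
  sum_a : (f 5).1 a + (f 6).1 a = -1
  at_a : ∀ i, i ≠ 5 → i ≠ 6 → (f i).1 a = valsA i
  at_x : ∀ i, (f i).1 x = valsX i

theorem exists_triple {ι : Type*} {s : Finset ι} (h : s.card = 3) :
    ∃ a b c, a ∈ s ∧ b ∈ s ∧ c ∈ s ∧ a ≠ b ∧ a ≠ c ∧ b ≠ c ∧ ∀ y ∈ s, y = a ∨ y = b ∨ y = c := by
  classical
  obtain ⟨a, b, c, h1, h2, h3, rfl⟩ := Finset.card_eq_three.mp h
  exact ⟨a, b, c, by simp, by simp, by simp, h1, h2, h3, fun y hy => by simpa using hy⟩

theorem exists_single {ι : Type*} {s : Finset ι} (h : s.card = 1) :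
    ∃ a, a ∈ s ∧ ∀ y ∈ s, y = a := by
  obtain ⟨a, rfl⟩ := Finset.card_eq_one.mp h
  exact ⟨a, by simp, fun y hy => by simpa using hy⟩

variable [IsSimpleGroup G] [Fact (Nat.Prime 5)] [Fact (Nat.Prime 11)]

theorem exists_table (h : Nat.card G = 7920) {a x : G} (ha : orderOf a = 11) (hx : orderOf x = 5) :
    ∃ f : Fin 10 → IrrCharacter G, Table f a x := by
  classical
  have := Fintype.ofFinite G
  have := Fintype.ofFinite (IrrCharacter G)
  obtain ⟨E, z, R, hR, hne, hs, hE1, hE1', hE, hreal, hz, hclass, hsq, hJ, hK, hC, hconj⟩ :=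
    five_facts h ha hx
  have hp : x ^ 5 = 1 := orderOf_dvd_iff_pow_eq_one.mp (hx ▸ dvd_rfl)
  have hv : ∀ χ : IrrCharacter G, ∃ u : ℤ, χ.1 x = u ∧ (5 : ℤ) ∣ (charDegree χ.1 : ℤ) - u := fun χ =>
    val_rational (isChar χ) (dg_eq χ) (n := 5) (by norm_num) hp fun k hk hk0 =>
      ((Char.isConj_iff_irr _ _).mp (hconj k (Nat.pos_of_ne_zero hk0) (Finset.mem_range.mp hk)) χ).symm
  choose u hu hu5 using hv
  have h0 : ∀ χ : IrrCharacter G, (charDegree χ.1 = 10 ∨ charDegree χ.1 = 45) → u χ = 0 := fun χ hχ => by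
    have e := vanish_five h χ rfl (by omega) (g := x) (by rw [hx])
    rw [hu] at e
    exact_mod_cast e
  have hsplit : ∀ g : IrrCharacter G → ℤ,
      ∑ χ, g χ = g E + g (conjChar E) + g (oneChar G) + ∑ χ ∈ R, g χ := fun g => by
    rw [hR, ← Finset.add_sum_erase _ _ (Finset.mem_univ E),
      ← Finset.add_sum_erase _ _ (Finset.mem_erase.mpr ⟨hne.symm, Finset.mem_univ _⟩),
      ← Finset.add_sum_erase _ _ (Finset.mem_erase.mpr ⟨hE1'.symm,
        Finset.mem_erase.mpr ⟨hE1.symm, Finset.mem_univ _⟩⟩)]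
    ring
  have u1 : u (oneChar G) = 1 := by
    have := hu (oneChar G)
    simp [oneChar] at this
    exact_mod_cast this.symm
  have uE : u (conjChar E) = u E := by
    have : (u (conjChar E) : ℂ) = u E := by
      rw [← hu, ← hu]; exact hreal x (by rw [hx]; norm_num)
    exact_mod_cast this
  have o := Char.column_orth x x
  rw [if_pos (IsConj.refl x), hC, Finset.sum_congr rfl (g := fun χ : IrrCharacter G => ((u χ ^ 2 : ℤ) : ℂ))
    (fun χ _ => by rw [hu]; simp; ring)] at o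
  have o5 : ∑ χ, u χ ^ 2 = 5 := by exact_mod_cast o
  have o' := Char.sum_degree_mul_apply (G := G) x
  rw [if_neg (fun e => by rw [e, orderOf_one] at hx; omega), Finset.sum_congr rfl
    (g := fun χ : IrrCharacter G => (((charDegree χ.1 : ℤ) * u χ : ℤ) : ℂ))
    (fun χ _ => by rw [hu, dg_eq]; push_cast; ring)] at o'
  have olin : ∑ χ, (charDegree χ.1 : ℤ) * u χ = 0 := by exact_mod_cast o'
  rw [hsplit, uE, u1] at o5
  rw [hsplit, uE, u1, dg_one, dg_conjChar, hE] at olin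
  have hR0 : 0 ≤ ∑ χ ∈ R, u χ ^ 2 := Finset.sum_nonneg fun χ _ => sq_nonneg _
  have huE : u E = 1 := by
    have := hu5 E
    rw [hE] at this
    have hb : u E ≤ 1 ∧ -1 ≤ u E := ⟨by nlinarith, by nlinarith⟩
    omega
  rw [huE] at o5 olin
  norm_num at o5 olin
  have hR2 : ∑ χ ∈ R, u χ ^ 2 = 2 := by linarith
  set Z := R.filter fun χ => z χ = 0 with hZdef
  set J := R.filter fun χ => z χ = 1 with hJdef
  set K := R.filter fun χ => z χ = -1 with hKdef
  have hJd : ∀ χ ∈ J, charDegree χ.1 = 45 ∧ u χ = 0 := fun χ hχ => by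
    obtain ⟨hm, e⟩ := Finset.mem_filter.mp hχ
    have : charDegree χ.1 = 45 := by rcases hclass χ hm with f | f | f <;> omega
    exact ⟨this, h0 χ (Or.inr this)⟩
  have hKd : ∀ χ ∈ K, charDegree χ.1 = 10 ∧ u χ = 0 := fun χ hχ => by
    obtain ⟨hm, e⟩ := Finset.mem_filter.mp hχ
    have : charDegree χ.1 = 10 := by rcases hclass χ hm with f | f | f <;> omega
    exact ⟨this, h0 χ (Or.inl this)⟩
  have hpart : ∀ g : IrrCharacter G → ℤ,
      ∑ χ ∈ R, g χ = ∑ χ ∈ Z, g χ + ∑ χ ∈ J, g χ + ∑ χ ∈ K, g χ := fun g => by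
    rw [hZdef, hJdef, hKdef, Finset.sum_filter, Finset.sum_filter, Finset.sum_filter,
      ← Finset.sum_add_distrib, ← Finset.sum_add_distrib]
    refine Finset.sum_congr rfl fun χ hχ => ?_
    rcases hclass χ hχ with f | f | f <;> simp [f.1]
  rw [hpart, Finset.sum_eq_zero (s := J) (fun χ hχ => by rw [(hJd χ hχ).2]; ring),
    Finset.sum_eq_zero (s := K) (fun χ hχ => by rw [(hKd χ hχ).2]; ring), add_zero, add_zero] at hR2
  rw [hpart, Finset.sum_eq_zero (s := J) (fun χ hχ => by rw [(hJd χ hχ).2]; ring),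
    Finset.sum_eq_zero (s := K) (fun χ hχ => by rw [(hKd χ hχ).2]; ring), add_zero, add_zero] at olin
  rw [hpart, Finset.sum_congr rfl (s₁ := J) (g := fun _ => (2025 : ℤ)) (fun χ hχ => by rw [(hJd χ hχ).1]; norm_num),
    Finset.sum_congr rfl (s₁ := K) (g := fun _ => (100 : ℤ)) (fun χ hχ => by rw [(hKd χ hχ).1]; norm_num),
    Finset.sum_const, Finset.sum_const, hJ, hK] at hsq
  norm_num at hsq
  -- the characters vanishing at `a`
  have hm : ∀ χ ∈ Z, ∃ m : ℕ, charDegree χ.1 = 11 * m ∧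
      (m = 1 ∧ u χ = 1 ∨ m = 4 ∧ u χ = -1 ∨ m = 5 ∧ u χ = 0 ∨ m = 6 ∧ u χ = 1) := by
    intro χ hχ
    obtain ⟨hm, hz0⟩ := Finset.mem_filter.mp hχ
    obtain ⟨m, hm'⟩ : 11 ∣ charDegree χ.1 := by
      rcases hclass χ hm with f | f | f
      · exact f.2
      · omega
      · omega
    refine ⟨m, hm', ?_⟩
    have h1 := Finset.single_le_sum (f := fun χ : IrrCharacter G => (charDegree χ.1 : ℤ) ^ 2)
      (fun χ _ => sq_nonneg _) hχ
    have h2 := Finset.single_le_sum (f := fun χ : IrrCharacter G => u χ ^ 2) (fun χ _ => sq_nonneg _) hχ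
    simp only [hR2] at h2
    have hm1 : 0 < m := Nat.pos_of_ne_zero fun e => by
      have := ClassCount.charDegree_pos χ; rw [hm', e] at this; omega
    have hm6 : m ≤ 6 := by
      by_contra hlt
      have : (77 : ℤ) ^ 2 ≤ (charDegree χ.1 : ℤ) ^ 2 := pow_le_pow_left₀ (by norm_num) (by omega) 2
      norm_num at this
      omega
    have hb : u χ ≤ 1 ∧ -1 ≤ u χ := ⟨by nlinarith, by nlinarith⟩
    have h5 := hu5 χ
    rw [hm'] at h5
    push_cast at h5
    obtain ⟨hu1, hu2⟩ := hb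
    interval_cases m <;> interval_cases (u χ) <;> omega
  choose! m hm hmu using hm
  have key : ∀ (g : IrrCharacter G → ℤ) (c1 c4 c5 c6 : ℤ),
      (∀ χ ∈ Z, (m χ = 1 → g χ = c1) ∧ (m χ = 4 → g χ = c4) ∧ (m χ = 5 → g χ = c5) ∧ (m χ = 6 → g χ = c6)) →
      ∑ χ ∈ Z, g χ = c1 * (Z.filter fun χ => m χ = 1).card + c4 * (Z.filter fun χ => m χ = 4).card +
        c5 * (Z.filter fun χ => m χ = 5).card + c6 * (Z.filter fun χ => m χ = 6).card := by
    intro g c1 c4 c5 c6 hg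
    have e : ∀ c : ℤ, ∀ n : ℕ, c * ((Z.filter fun χ => m χ = n).card : ℤ) = ∑ χ ∈ Z, if m χ = n then c else 0 := by
      intro c n
      rw [← Finset.sum_filter, Finset.sum_const, nsmul_eq_mul, mul_comm]
    rw [e, e, e, e, ← Finset.sum_add_distrib, ← Finset.sum_add_distrib, ← Finset.sum_add_distrib]
    refine Finset.sum_congr rfl fun χ hχ => ?_
    obtain ⟨g1, g4, g5, g6⟩ := hg χ hχ
    rcases hmu χ hχ with ⟨f, -⟩ | ⟨f, -⟩ | ⟨f, -⟩ | ⟨f, -⟩
    · simp [f, g1 f]
    · simp [f, g4 f]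
    · simp [f, g5 f]
    · simp [f, g6 f]
  rw [key _ 1 1 0 1 (fun χ hχ => by
    rcases hmu χ hχ with ⟨f, e⟩ | ⟨f, e⟩ | ⟨f, e⟩ | ⟨f, e⟩ <;> simp [f, e])] at hR2
  rw [key _ 11 (-44) 0 66 (fun χ hχ => by
    rcases hmu χ hχ with ⟨f, e⟩ | ⟨f, e⟩ | ⟨f, e⟩ | ⟨f, e⟩ <;> simp [f, e, hm χ hχ])] at olin
  rw [key _ 121 1936 3025 4356 (fun χ hχ => by
    rcases hmu χ hχ with ⟨f, e⟩ | ⟨f, e⟩ | ⟨f, e⟩ | ⟨f, e⟩ <;> simp [f, e, hm χ hχ])] at hsq
  obtain ⟨n1, n4, n5, n6⟩ : (Z.filter fun χ => m χ = 1).card = 1 ∧ (Z.filter fun χ => m χ = 4).card = 1 ∧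
      (Z.filter fun χ => m χ = 5).card = 1 ∧ (Z.filter fun χ => m χ = 6).card = 0 := by omega
  obtain ⟨X1, hX1, hX1'⟩ := exists_single n1
  obtain ⟨X4, hX4, hX4'⟩ := exists_single n4
  obtain ⟨X5, hX5, hX5'⟩ := exists_single n5
  obtain ⟨C, hCm, hC'⟩ := exists_single hJ
  obtain ⟨A1, A2, A3, hA1, hA2, hA3, h12, h13, h23, hA'⟩ := exists_triple hK
  obtain ⟨hX1Z, hX1m⟩ := Finset.mem_filter.mp hX1
  obtain ⟨hX4Z, hX4m⟩ := Finset.mem_filter.mp hX4
  obtain ⟨hX5Z, hX5m⟩ := Finset.mem_filter.mp hX5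
  let f : Fin 10 → IrrCharacter G := ![oneChar G, A1, A2, A3, X1, E, conjChar E, X4, C, X5]
  have hdeg : ∀ i, charDegree (f i).1 = degs i := by
    intro i
    fin_cases i
    · exact dg_one
    · exact (hKd _ hA1).1
    · exact (hKd _ hA2).1
    · exact (hKd _ hA3).1
    · exact (hm _ hX1Z).trans (by rw [hX1m]; rfl)
    · exact hE
    · exact (dg_conjChar E).trans hE
    · exact (hm _ hX4Z).trans (by rw [hX4m]; rfl)
    · exact (hJd _ hCm).1
    · exact (hm _ hX5Z).trans (by rw [hX5m]; rfl)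
  have hinj : Function.Injective f := by
    intro i j e
    have e' := congrArg (fun χ : IrrCharacter G => charDegree χ.1) e
    simp only [hdeg] at e'
    fin_cases i <;> fin_cases j <;> first
      | rfl
      | exact absurd e' (by decide)
      | exact absurd e h12 | exact absurd e h13 | exact absurd e h23 | exact absurd e hne
      | exact absurd e.symm h12 | exact absurd e.symm h13 | exact absurd e.symm h23
      | exact absurd e.symm hne
  have hsurj : Function.Surjective f := by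
    intro χ
    by_cases hc1 : χ = E
    · exact ⟨5, hc1.symm⟩
    by_cases hc2 : χ = conjChar E
    · exact ⟨6, hc2.symm⟩
    by_cases hc3 : χ = oneChar G
    · exact ⟨0, hc3.symm⟩
    have hχ : χ ∈ R := by rw [hR]; simp [hc1, hc2, hc3]
    rcases hclass χ hχ with ⟨e, -⟩ | ⟨e, -⟩ | ⟨e, -⟩
    · have hχZ : χ ∈ Z := Finset.mem_filter.mpr ⟨hχ, e⟩
      rcases hmu χ hχZ with ⟨e', -⟩ | ⟨e', -⟩ | ⟨e', -⟩ | ⟨e', -⟩
      · exact ⟨4, (hX1' χ (Finset.mem_filter.mpr ⟨hχZ, e'⟩)).symm⟩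
      · exact ⟨7, (hX4' χ (Finset.mem_filter.mpr ⟨hχZ, e'⟩)).symm⟩
      · exact ⟨9, (hX5' χ (Finset.mem_filter.mpr ⟨hχZ, e'⟩)).symm⟩
      · exact absurd e' (Finset.filter_eq_empty_iff.mp (Finset.card_eq_zero.mp n6) hχZ)
    · exact ⟨8, (hC' χ (Finset.mem_filter.mpr ⟨hχ, e⟩)).symm⟩
    · rcases hA' χ (Finset.mem_filter.mpr ⟨hχ, e⟩) with r | r | r
      · exact ⟨1, r.symm⟩
      · exact ⟨2, r.symm⟩
      · exact ⟨3, r.symm⟩
  have hza : ∀ {χ : IrrCharacter G} {n : ℤ}, χ ∈ R.filter (fun χ => z χ = n) → χ.1 a = n := fun hχ => by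
    obtain ⟨h1, h2⟩ := Finset.mem_filter.mp hχ
    rw [hz _ h1, h2]
  have hux : ∀ (χ : IrrCharacter G) (n : ℤ), u χ = n → χ.1 x = n := fun χ n e => by rw [hu, e]
  refine ⟨f, ⟨hinj, hsurj⟩, hdeg, rfl, fun g => rfl, hreal, hs, ?_, ?_⟩
  · intro i h5 h6
    fin_cases i
    · simp [f, valsA, oneChar]
    · exact hza hA1
    · exact hza hA2
    · exact hza hA3
    · exact hza hX1Z
    · exact absurd rfl h5
    · exact absurd rfl h6
    · exact hza hX4Z
    · exact hza hCm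
    · exact hza hX5Z
  · intro i
    fin_cases i
    · exact hux _ _ u1
    · exact hux _ _ (hKd _ hA1).2
    · exact hux _ _ (hKd _ hA2).2
    · exact hux _ _ (hKd _ hA3).2
    · exact hux X1 (1) (by rcases hmu _ hX1Z with q | q | q | q <;> omega)
    · exact hux _ _ huE
    · exact hux _ _ (uE.trans huE)
    · exact hux X4 (-1) (by rcases hmu _ hX4Z with q | q | q | q <;> omega)
    · exact hux _ _ (hJd _ hCm).2
    · exact hux X5 (0) (by rcases hmu _ hX5Z with q | q | q | q <;> omega)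

/-- The centraliser of an element of order 5. -/
theorem card_centralizer_five (h : Nat.card G = 7920) {a x : G} (ha : orderOf a = 11) (hx : orderOf x = 5) :
    Nat.card (centralizer ({x} : Set G)) = 5 := by
  classical
  have := Fintype.ofFinite (IrrCharacter G)
  obtain ⟨E, z, R, hR, hne, hs, hE1, hE1', hE, hreal, hz, hclass, hsq, hJ, hK, hC, hconj⟩ :=
    five_facts h ha hx
  exact hC

omit [IsSimpleGroup G] [Fact (Nat.Prime 5)] [Fact (Nat.Prime 11)] in
/-- Sums over all irreducible characters. -/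
theorem Table.sum_eq {f : Fin 10 → IrrCharacter G} {a x : G} (T : Table f a x)
    [Fintype (IrrCharacter G)] {M : Type*} [AddCommMonoid M] (F : IrrCharacter G → M) :
    ∑ χ, F χ = ∑ i, F (f i) :=
  (Equiv.sum_comp (Equiv.ofBijective f T.bij) F).symm

end Cfsg.Agent.Order7920
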