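/-
Involutions in a simple group of order 7920.

Main results (namespace `Cfsg.Agent.Order7920`): `Table.relations`, `Table.count_eq`, `Table.real_unique`,
`Table2`, `exists_table2` (one class of involutions, centralisers of order 48, their character values).
-/
import Cfsg.Agent.Lib.Order7920.Degrees

set_option autoImplicit false

open scoped ComplexConjugate

namespace Cfsg.Agent.Order7920

open Cfsg Subgroup

variable {G : Type*} [Group G] [Finite G] {f : Fin 10 → IrrCharacter G} {a x : G}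

theorem Table.orth (T : Table f a x) (g k : G) [Decidable (IsConj g k)] :
    ∑ i, (f i).1 g * conj ((f i).1 k) =
      if IsConj g k then (Nat.card (centralizer ({g} : Set G)) : ℂ) else 0 := by
  classical
  have := Fintype.ofFinite (IrrCharacter G)
  rw [← T.sum_eq fun χ : IrrCharacter G => χ.1 g * conj (χ.1 k)]
  exact Char.column_orth g k

theorem Table.orth_one (T : Table f a x) {g : G} (hg : g ≠ 1) :
    ∑ i, (degs i : ℂ) * (f i).1 g = 0 := by
  classical
  have := Fintype.ofFinite G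
  have := Fintype.ofFinite (IrrCharacter G)
  have h := Char.sum_degree_mul_apply (G := G) g
  rw [if_neg hg, T.sum_eq] at h
  simpa [dg_eq, T.deg] using h

/-- The linear relations between the values at an element of order not 1, 5 or 11. -/
theorem Table.relations (T : Table f a x) (ha : orderOf a = 11) (hx : orderOf x = 5) {g : G}
    (h1 : orderOf g ≠ 1) (h5 : orderOf g ≠ 5) (h11 : orderOf g ≠ 11) :
    (f 6).1 g = (f 5).1 g ∧ (f 0).1 g = 1 ∧
    1 - ((f 1).1 g + (f 2).1 g + (f 3).1 g) - (f 5).1 g + (f 8).1 g = 0 ∧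
    (f 7).1 g = 1 + (f 4).1 g + 2 * (f 5).1 g ∧
    1 + 10 * ((f 1).1 g + (f 2).1 g + (f 3).1 g) + 11 * (f 4).1 g + 32 * (f 5).1 g +
      44 * (f 7).1 g + 45 * (f 8).1 g + 55 * (f 9).1 g = 0 := by
  classical
  have e6 : (f 6).1 g = (f 5).1 g := by rw [T.conj6, T.real16 g h11]
  have e0 : (f 0).1 g = 1 := by rw [T.one]; rfl
  have oa := T.orth g a
  rw [if_neg (fun hc => h11 ((isConj_orderOf hc).trans ha))] at oa
  have ox := T.orth g x
  rw [if_neg (fun hc => h5 ((isConj_orderOf hc).trans hx))] at ox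
  have o1 := T.orth_one (g := g) (fun e => h1 (by rw [e, orderOf_one]))
  have hc : conj ((f 5).1 a) + conj ((f 6).1 a) = -1 := by rw [← map_add, T.sum_a]; simp
  simp [Fin.sum_univ_succ, T.at_x, valsX, e0, e6] at ox
  simp [Fin.sum_univ_succ, degs, e0, e6] at o1
  simp [Fin.sum_univ_succ, T.at_a, valsA, e0, e6] at oa
  refine ⟨e6, e0, ?_, ?_, ?_⟩
  · linear_combination oa - (f 5).1 g * hc
  · linear_combination -ox
  · linear_combination o1

/-- The number of pairs of conjugates of `s` with product `y`. -/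
theorem Table.count_eq (T : Table f a x) (s y : G) :
    (7920 : ℂ) * (ClassCount.fibreCount s s y : ℂ) * ((Nat.card (centralizer ({s} : Set G)) : ℂ)) ^ 2 =
      (Nat.card G : ℂ) ^ 2 * ∑ i, (f i).1 s ^ 2 * conj ((f i).1 y) / (degs i : ℂ) ∨ Nat.card G ≠ 7920 := by
  classical
  refine (em (Nat.card G = 7920)).imp (fun hG => ?_) id
  have := Fintype.ofFinite (IrrCharacter G)
  have h := ClassCount.card_mul_fibreCount s s y
  rw [hG, T.sum_eq] at h
  have hK := ClassCount.card_class_mul_card_centralizer s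
  rw [show ((7920 : ℂ)) = ((7920 : ℕ) : ℂ) by norm_num, h, Finset.sum_mul, Finset.mul_sum, ← hK]
  refine Finset.sum_congr rfl fun i _ => ?_
  have hd : (degs i : ℂ) ≠ 0 := Nat.cast_ne_zero.mpr (by fin_cases i <;> decide)
  rw [ClassCount.omega, dg_eq, T.deg, Char.IsCharacter.apply_inv (isChar (f i))]
  push_cast
  field_simp

theorem degs_unique : ∀ i j : Fin 10, (i = 0 ∨ i = 4 ∨ i = 7 ∨ i = 8 ∨ i = 9) → degs j = degs i → j = i := by
  decide

theorem Table.real_unique (T : Table f a x) {i : Fin 10} (hi : i = 0 ∨ i = 4 ∨ i = 7 ∨ i = 8 ∨ i = 9)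
    (g : G) : conj ((f i).1 g) = (f i).1 g := by
  obtain ⟨j, hj⟩ := T.bij.2 (conjChar (f i))
  have := degs_unique i j hi (by rw [← T.deg j, hj, dg_conjChar, T.deg i])
  subst this
  exact (congrArg (fun χ : IrrCharacter G => χ.1 g) hj).symm

theorem Table.swap (T : Table f a x) {k : Fin 10} (hk : k = 1 ∨ k = 2 ∨ k = 3) :
    Table (f ∘ Equiv.swap 1 k) a x := by
  have h : ∀ i, degs (Equiv.swap 1 k i) = degs i ∧ valsA (Equiv.swap 1 k i) = valsA i ∧
      valsX (Equiv.swap 1 k i) = valsX i := by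
    rcases hk with rfl | rfl | rfl <;> decide
  have h0 : Equiv.swap 1 k (0 : Fin 10) = 0 ∧ Equiv.swap 1 k (5 : Fin 10) = 5 ∧
      Equiv.swap 1 k (6 : Fin 10) = 6 := by
    rcases hk with rfl | rfl | rfl <;> decide
  refine ⟨T.bij.comp (Equiv.swap 1 k).bijective, fun i => (T.deg _).trans (h i).1, ?_,
    fun g => ?_, fun g hg => ?_, ?_, fun i h5 h6 => ?_, fun i => ?_⟩
  · simp only [Function.comp, h0.1, T.one]
  · simp only [Function.comp, h0.2.1, h0.2.2, T.conj6]
  · simp only [Function.comp, h0.2.1]; exact T.real16 g hg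
  · simp only [Function.comp, h0.2.1, h0.2.2, T.sum_a]
  · simp only [Function.comp]
    rw [T.at_a _ (fun e => h5 ?_) (fun e => h6 ?_), (h i).2.1]
    · exact (Equiv.swap 1 k).injective (e.trans h0.2.1.symm)
    · exact (Equiv.swap 1 k).injective (e.trans h0.2.2.symm)
  · simp only [Function.comp]
    rw [T.at_x, (h i).2.2]

/-- The values at an involution. -/
def valsT : Fin 10 → ℤ := ![1, 2, -2, -2, 3, 0, 0, 4, -3, -1]

/-- The data known about the character table, including the column of involutions. -/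
structure Table2 (f : Fin 10 → IrrCharacter G) (a x : G) : Prop extends Table f a x where
  ord_a : orderOf a = 11
  ord_x : orderOf x = 5
  card_G : Nat.card G = 7920
  cent_a : Nat.card (centralizer ({a} : Set G)) = 11
  cent_x : Nat.card (centralizer ({x} : Set G)) = 5
  cent_t : ∀ t : G, orderOf t = 2 → Nat.card (centralizer ({t} : Set G)) = 48
  conj_t : ∀ s t : G, orderOf s = 2 → orderOf t = 2 → IsConj s t
  at_t : ∀ t : G, orderOf t = 2 → ∀ i, (f i).1 t = valsT i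

theorem solve_cent : ∀ C : Fin 145, ∀ w : Fin 25, (C : ℕ) ∣ 144 →
    ((C : ℕ) : ℤ) ^ 2 = 36 * (3 * ((w : ℤ) - 12) ^ 2 - 2 * ((w : ℤ) - 12) + 43) →
    1 + ((w : ℤ) - 12) ^ 2 + (1 + ((w : ℤ) - 12)) ^ 2 ≤ ((C : ℕ) : ℤ) → (w : ℕ) = 15 ∧ (C : ℕ) = 48 := by
  decide +kernel

set_option synthInstance.maxSize 2000 in
theorem solve_tens : ∀ p q r : Fin 9, ∀ s : Fin 5,
    ((s : ℤ) - 4) % 2 = 1 → ((p : ℤ) - 4) % 2 = 0 → ((q : ℤ) - 4) % 2 = 0 → ((r : ℤ) - 4) % 2 = 0 →
    ((p : ℤ) - 4) + ((q : ℤ) - 4) + ((r : ℤ) - 4) = 1 + ((s : ℤ) - 4) →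
    ((p : ℤ) - 4) ^ 2 + ((q : ℤ) - 4) ^ 2 + ((r : ℤ) - 4) ^ 2 + ((s : ℤ) - 4) ^ 2 + (-4 - ((s : ℤ) - 4)) ^ 2 = 22 →
    (s : ℕ) = 1 ∧ ((p : ℕ) = 6 ∧ (q : ℕ) = 2 ∧ (r : ℕ) = 2 ∨ (p : ℕ) = 2 ∧ (q : ℕ) = 6 ∧ (r : ℕ) = 2 ∨
      (p : ℕ) = 2 ∧ (q : ℕ) = 2 ∧ (r : ℕ) = 6) := by
  decide +kernel

theorem Table.int_two (T : Table f a x) {t : G} (ht : orderOf t = 2) (i : Fin 10) :
    ∃ z : ℤ, (f i).1 t = z ∧ z % 2 = (degs i : ℤ) % 2 := by
  obtain ⟨z, hz, hz'⟩ := val_two (isChar (f i)) (dg_eq (f i)) (t := t)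
    (orderOf_dvd_iff_pow_eq_one.mp (ht ▸ dvd_rfl))
  exact ⟨z, hz, by rw [hz', T.deg]⟩

variable [IsSimpleGroup G] [Fact (Nat.Prime 5)] [Fact (Nat.Prime 11)]

/-- The centraliser of an involution has order 48 and there is one class of involutions. -/
theorem invol_facts (h : Nat.card G = 7920) (T : Table f a x) (ha : orderOf a = 11) (hx : orderOf x = 5)
    (hC5 : Nat.card (centralizer ({x} : Set G)) = 5) {t : G} (ht : orderOf t = 2) :
    Nat.card (centralizer ({t} : Set G)) = 48 ∧ (f 4).1 t = 3 ∧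
      ∃ g : G, orderOf g = 2 ∧ g * x * g⁻¹ = x⁻¹ ∧ IsConj t g := by
  classical
  choose z hz hz2 using T.int_two ht
  obtain ⟨e6, e0, r1, r2, r3⟩ := T.relations ha hx (g := t) (by omega) (by omega) (by omega)
  have h5z : z 5 = 0 := by
    have e := vanish_two h (f 5) (T.deg 5) (g := t) (by rw [ht])
    rw [hz] at e; exact_mod_cast e
  simp only [hz, h5z, Int.cast_zero, mul_zero, add_zero] at e6 r2
  have h7z : z 7 = 1 + z 4 := by exact_mod_cast r2
  set C := Nat.card (centralizer ({t} : Set G)) with hC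
  have hCdvd : C ∣ 7920 := h ▸ card_subgroup_dvd_card _
  have hno : ∀ q : ℕ, q = 5 ∨ q = 11 → ¬ q ∣ C := by
    intro q hq hd
    have : Fact q.Prime := ⟨by rcases hq with rfl | rfl <;> norm_num⟩
    obtain ⟨⟨b, hb⟩, hbo⟩ := exists_prime_orderOf_dvd_card' q hd
    rw [Subgroup.orderOf_mk] at hbo
    have hcomm : t * b = b * t := (mem_centralizer_singleton_iff.mp hb).symm
    rcases hq with rfl | rfl
    · have hC' := card_centralizer_five h ha hbo
      have := SmallOrders.orderOf_dvd_of_centralizer hC' hcomm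
      rw [ht] at this; norm_num at this
    · have := orderOf_dvd_eleven h hbo hcomm
      rw [ht] at this; norm_num at this
  have hC144 : C ∣ 144 := by
    have h5 : Nat.Coprime C 5 := ((Fact.out : Nat.Prime 5).coprime_iff_not_dvd.mpr (hno 5 (Or.inl rfl))).symm
    have h11 : Nat.Coprime C 11 := ((Fact.out : Nat.Prime 11).coprime_iff_not_dvd.mpr (hno 11 (Or.inr rfl))).symm
    exact (h5.mul_right h11).dvd_of_dvd_mul_right (show C ∣ 144 * (5 * 11) from hCdvd)
  -- the norm bound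
  have hn := T.orth t t
  rw [if_pos (IsConj.refl t), ← hC] at hn
  simp only [hz, map_intCast] at hn
  have hn' : ∑ i, z i ^ 2 = (C : ℤ) := by
    have : ((∑ i, z i ^ 2 : ℤ) : ℂ) = ((C : ℤ) : ℂ) := by
      push_cast; rw [← hn]; exact Finset.sum_congr rfl fun i _ => by ring
    exact_mod_cast this
  simp only [Fin.sum_univ_succ, Fin.sum_univ_zero, add_zero] at hn'
  have hn0 : z 0 = 1 := by rw [hz] at e0; exact_mod_cast e0
  have hb1 : 1 + z 4 ^ 2 + (1 + z 4) ^ 2 ≤ (C : ℤ) := by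
    rw [← hn']
    have e : ∀ i : Fin 10, 0 ≤ z i ^ 2 := fun i => sq_nonneg _
    have := e 1; have := e 2; have := e 3; have := e 5; have := e 6; have := e 8; have := e 9
    show 1 + z 4 ^ 2 + (1 + z 4) ^ 2 ≤ z 0 ^ 2 + (z 1 ^ 2 + (z 2 ^ 2 + (z 3 ^ 2 + (z 4 ^ 2 + (z 5 ^ 2 +
      (z 6 ^ 2 + (z 7 ^ 2 + (z 8 ^ 2 + z 9 ^ 2))))))))
    rw [hn0, h7z]
    linarith
  -- inverters of `x`
  have hcount := (T.count_eq t x).resolve_right (fun e => e h)
  simp only [Fin.sum_univ_succ, Fin.sum_univ_zero, add_zero, hz, T.at_x] at hcount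
  rw [show ((Nat.card G : ℕ) : ℂ) = 7920 by rw [h]; norm_num] at hcount
  simp [valsX, degs, hn0, h5z, e6, h7z] at hcount
  set F := ClassCount.fibreCount t t x
  have hF : (F : ℤ) * (C : ℤ) ^ 2 * 44 = 7920 * (3 * z 4 ^ 2 - 2 * z 4 + 43) := by
    have : (((F : ℤ) * (C : ℤ) ^ 2 * 44 : ℤ) : ℂ) = ((7920 * (3 * z 4 ^ 2 - 2 * z 4 + 43) : ℤ) : ℂ) := by
      push_cast
      rw [← hC] at hcount
      linear_combination (44 / 7920 : ℂ) * hcount
    exact_mod_cast this
  have hFpos : 0 < F := by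
    refine Nat.pos_of_ne_zero fun e => ?_
    rw [e] at hF
    simp at hF
    nlinarith [sq_nonneg (z 4 - 1)]
  have hmem : ∀ g : {g : G // IsConj t g ∧ IsConj t (g⁻¹ * x)}, g.1 * x * g.1⁻¹ = x⁻¹ := by
    rintro ⟨g, h1, h2⟩
    have o1 : g * g = 1 := ClassCount.mul_self_eq_one_of_orderOf ((isConj_orderOf h1).symm.trans ht)
    have o2 := ClassCount.mul_self_eq_one_of_orderOf ((isConj_orderOf h2).symm.trans ht)
    have hi : g⁻¹ = g := inv_eq_of_mul_eq_one_right o1
    show g * x * g⁻¹ = x⁻¹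
    rw [hi] at o2 ⊢
    exact eq_inv_of_mul_eq_one_left (by rw [← o2]; group)
  obtain ⟨g0⟩ : Nonempty {g : G // IsConj t g ∧ IsConj t (g⁻¹ * x)} := (Nat.card_pos_iff.mp hFpos).1
  have hg0 : orderOf g0.1 = 2 := (isConj_orderOf g0.2.1).symm.trans ht
  have hcls : ∀ g : G, g * g = 1 → g * x * g⁻¹ = x⁻¹ → IsConj g0.1 g := by
    intro g hg hgx
    refine ClassCount.isConj_of_odd_orderOf_mul (ClassCount.mul_self_eq_one_of_orderOf hg0) hg ?_
    have := ClassCount.mul_mem_centralizer_of_inverts (hmem g0) hgx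
    have hd := SmallOrders.orderOf_dvd_of_centralizer (g := g0.1 * g) hC5
      (mem_centralizer_singleton_iff.mp this)
    rcases (Fact.out : Nat.Prime 5).eq_one_or_self_of_dvd _ hd with e | e <;> rw [e] <;> decide
  have hxc : ∀ c : G, c * x = x * c → g0.1 * c * g0.1⁻¹ = c⁻¹ := by
    intro c hc
    have hmem' : c ∈ zpowers x := by
      rw [eq_of_le_of_card_ge (SmallOrders.zpowers_le_centralizer x) (by rw [hC5, Nat.card_zpowers, hx])]
      exact mem_centralizer_singleton_iff.mpr hc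
    obtain ⟨i, rfl⟩ := mem_zpowers_iff.mp hmem'
    rw [← conj_zpow, hmem g0, inv_zpow]
  have hF5 : F = 5 := by
    rw [← hC5]
    refine Nat.card_congr
      { toFun := fun g => ⟨g0.1⁻¹ * g.1, ?_⟩
        invFun := fun c => ⟨g0.1 * c.1, ?_⟩
        left_inv := fun g => Subtype.ext (mul_inv_cancel_left _ _)
        right_inv := fun c => Subtype.ext (inv_mul_cancel_left _ _) }
    · rw [mem_centralizer_singleton_iff]
      have e1 := hmem g
      have e2 := hmem g0
      have : g.1 * x * g.1⁻¹ = g0.1 * x * g0.1⁻¹ := e1.trans e2.symm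
      calc g0.1⁻¹ * g.1 * x = g0.1⁻¹ * (g.1 * x * g.1⁻¹) * g.1 := by group
        _ = x * (g0.1⁻¹ * g.1) := by rw [this]; group
    · have hc := mem_centralizer_singleton_iff.mp c.2
      have key : ∀ c : G, c * x = x * c → IsConj t (g0.1 * c) := by
        intro c hc
        refine g0.2.1.trans (hcls _ ?_ ?_)
        · have e := hxc c hc
          have o1 := ClassCount.mul_self_eq_one_of_orderOf hg0
          rw [inv_eq_of_mul_eq_one_right o1] at e
          calc g0.1 * c * (g0.1 * c) = g0.1 * c * g0.1 * c := by group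
            _ = 1 := by rw [e, inv_mul_cancel]
        · calc g0.1 * c * x * (g0.1 * c)⁻¹ = g0.1 * (c * x * c⁻¹) * g0.1⁻¹ := by group
            _ = x⁻¹ := by rw [hc, mul_inv_cancel_right, hmem g0]
      refine ⟨key c.1 hc, ?_⟩
      have e := hxc c.1 hc
      have o1 := ClassCount.mul_self_eq_one_of_orderOf hg0
      have h2 : (g0.1 * c.1)⁻¹ * x = g0.1 * (c.1 * x) := by
        rw [mul_inv_rev, inv_eq_of_mul_eq_one_right o1]
        have : c.1⁻¹ * g0.1 = g0.1 * c.1 := by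
          rw [← e]; group
        rw [this, mul_assoc]
      rw [h2]
      exact key _ (by rw [hc, mul_assoc, hc])
  rw [hF5] at hF
  have hv : -12 ≤ z 4 ∧ z 4 ≤ 12 := by
    have : (C : ℤ) ≤ 144 := by exact_mod_cast Nat.le_of_dvd (by norm_num) hC144
    constructor <;> nlinarith
  have := solve_cent ⟨C, by have := Nat.le_of_dvd (by norm_num) hC144; omega⟩
    ⟨(z 4 + 12).toNat, by omega⟩ hC144
  simp only [show (((z 4 + 12).toNat : ℤ) - 12) = z 4 by omega] at this
  obtain ⟨e4, e48⟩ := this (by push_cast at hF; linarith) hb1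
  refine ⟨e48, ?_, g0.1, hg0, hmem g0, g0.2.1⟩
  rw [hz, show z 4 = 3 by omega]; norm_num

theorem exists_table2 (h : Nat.card G = 7920) :
    ∃ (f : Fin 10 → IrrCharacter G) (a x : G), Table2 f a x := by
  classical
  obtain ⟨a, ha⟩ := exists_prime_orderOf_dvd_card' (G := G) 11 (by rw [h]; norm_num)
  obtain ⟨x, hx⟩ := exists_prime_orderOf_dvd_card' (G := G) 5 (by rw [h]; norm_num)
  obtain ⟨f, T⟩ := exists_table h ha hx
  have hC5 := card_centralizer_five h ha hx
  have : Fact (Nat.Prime 2) := ⟨Nat.prime_two⟩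
  obtain ⟨t, ht⟩ := exists_prime_orderOf_dvd_card' (G := G) 2 (by rw [h]; norm_num)
  have hconj : ∀ s t : G, orderOf s = 2 → orderOf t = 2 → IsConj s t := by
    intro s t hs ht
    obtain ⟨-, -, g, hg, hgx, hsg⟩ := invol_facts h T ha hx hC5 hs
    obtain ⟨-, -, k, hk, hkx, htk⟩ := invol_facts h T ha hx hC5 ht
    refine hsg.trans (IsConj.trans ?_ htk.symm)
    refine ClassCount.isConj_of_odd_orderOf_mul (ClassCount.mul_self_eq_one_of_orderOf hg)
      (ClassCount.mul_self_eq_one_of_orderOf hk) ?_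
    have hd := SmallOrders.orderOf_dvd_of_centralizer (g := g * k) hC5
      (mem_centralizer_singleton_iff.mp (ClassCount.mul_mem_centralizer_of_inverts hgx hkx))
    rcases (Fact.out : Nat.Prime 5).eq_one_or_self_of_dvd _ hd with e | e <;> rw [e] <;> decide
  obtain ⟨hC, h4, -⟩ := invol_facts h T ha hx hC5 ht
  choose z hz hz2 using T.int_two ht
  obtain ⟨e6, e0, r1, r2, r3⟩ := T.relations ha hx (g := t) (by omega) (by omega) (by omega)
  have h5z : z 5 = 0 := by
    have e := vanish_two h (f 5) (T.deg 5) (g := t) (by rw [ht])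
    rw [hz] at e; exact_mod_cast e
  have h4z : z 4 = 3 := by rw [hz] at h4; exact_mod_cast h4
  simp only [hz, h5z, h4z] at e6 e0 r1 r2 r3
  have q6 : z 6 = 0 := by exact_mod_cast e6
  have q0 : z 0 = 1 := by exact_mod_cast e0
  have q7 : z 7 = 4 := by norm_num at r2; exact_mod_cast r2
  have q1 : 1 - (z 1 + z 2 + z 3) + z 8 = 0 := by norm_num at r1; exact_mod_cast r1
  have q9 : 1 + 10 * (z 1 + z 2 + z 3) + 33 + 44 * 4 + 45 * z 8 + 55 * z 9 = 0 := by
    rw [q7] at r3; norm_num at r3; exact_mod_cast r3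
  have hn := T.orth t t
  rw [if_pos (IsConj.refl t), hC] at hn
  simp only [hz, map_intCast] at hn
  have hn' : ∑ i, z i ^ 2 = 48 := by
    have : ((∑ i, z i ^ 2 : ℤ) : ℂ) = ((48 : ℤ) : ℂ) := by
      rw [show ((48 : ℤ) : ℂ) = ((48 : ℕ) : ℂ) by norm_num, ← hn]
      push_cast
      exact Finset.sum_congr rfl fun i _ => by ring
    exact_mod_cast this
  have hn22 : z 1 ^ 2 + z 2 ^ 2 + z 3 ^ 2 + z 8 ^ 2 + z 9 ^ 2 = 22 := by
    have e : z 0 ^ 2 + (z 1 ^ 2 + (z 2 ^ 2 + (z 3 ^ 2 + (z 4 ^ 2 + (z 5 ^ 2 +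
        (z 6 ^ 2 + (z 7 ^ 2 + (z 8 ^ 2 + z 9 ^ 2)))))))) = 48 := by
      simpa [Fin.sum_univ_succ] using hn'
    rw [q0, h4z, h5z, q6, q7] at e
    linarith
  have hb : ∀ w : ℤ, w ^ 2 ≤ 22 → -4 ≤ w ∧ w ≤ 4 := fun w hw => ⟨by nlinarith, by nlinarith⟩
  have n1 := sq_nonneg (z 1); have n2 := sq_nonneg (z 2); have n3 := sq_nonneg (z 3)
  have n8 := sq_nonneg (z 8); have n9 := sq_nonneg (z 9)
  obtain ⟨b1, b1'⟩ := hb (z 1) (by linarith)
  obtain ⟨b2, b2'⟩ := hb (z 2) (by linarith)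
  obtain ⟨b3, b3'⟩ := hb (z 3) (by linarith)
  obtain ⟨b8, b8'⟩ := hb (z 8) (by linarith)
  obtain ⟨b9, b9'⟩ := hb (z 9) (by linarith)
  have g9 : z 9 = -4 - z 8 := by omega
  have h80 : z 8 ≤ 0 := by omega
  have sol := solve_tens ⟨(z 1 + 4).toNat, by omega⟩ ⟨(z 2 + 4).toNat, by omega⟩
    ⟨(z 3 + 4).toNat, by omega⟩ ⟨(z 8 + 4).toNat, by omega⟩
  simp only [show (((z 1 + 4).toNat : ℤ) - 4) = z 1 by omega, show (((z 2 + 4).toNat : ℤ) - 4) = z 2 by omega,
    show (((z 3 + 4).toNat : ℤ) - 4) = z 3 by omega, show (((z 8 + 4).toNat : ℤ) - 4) = z 8 by omega] at sol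
  have p1 := hz2 1; have p2 := hz2 2; have p3 := hz2 3; have p8 := hz2 8
  simp [degs] at p1 p2 p3 p8
  obtain ⟨s8, s123⟩ := sol (by omega) (by omega) (by omega) (by omega) (by omega) (by rw [← g9]; exact hn22)
  obtain ⟨k, hk, hzk⟩ : ∃ k : Fin 10, (k = 1 ∨ k = 2 ∨ k = 3) ∧ ∀ i, z (Equiv.swap 1 k i) = valsT i := by
    have q8 : z 8 = -3 := by omega
    have q9' : z 9 = -1 := by omega
    rcases s123 with ⟨u1, u2, u3⟩ | ⟨u1, u2, u3⟩ | ⟨u1, u2, u3⟩
    · refine ⟨1, Or.inl rfl, fun i => ?_⟩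
      fin_cases i <;> simp [valsT] <;> omega
    · refine ⟨2, Or.inr (Or.inl rfl), fun i => ?_⟩
      fin_cases i <;> simp [valsT, Equiv.swap_apply_def] <;> omega
    · refine ⟨3, Or.inr (Or.inr rfl), fun i => ?_⟩
      fin_cases i <;> simp [valsT, Equiv.swap_apply_def] <;> omega
  refine ⟨f ∘ Equiv.swap 1 k, a, x, T.swap hk, ha, hx, h, card_centralizer_eleven h ha, hC5,
    fun s hs => (invol_facts h T ha hx hC5 hs).1, hconj, fun s hs i => ?_⟩
  rw [← (Char.isConj_iff_irr t s).mp (hconj t s ht hs)]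
  simp only [Function.comp, hz, hzk]

end Cfsg.Agent.Order7920
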