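/-
The columns at elements of order 3 and 6.

Main results (namespace `Cfsg.Agent.Order7920`): `Table2.orth_t`, `Table2.real_one`, `Table2.col_three`,
`Table2.col_six`.
-/
import Cfsg.Agent.Lib.Order7920.Invol

set_option autoImplicit false

open scoped ComplexConjugate

namespace Cfsg.Agent.Order7920

open Cfsg Subgroup

variable {G : Type*} [Group G] [Finite G] {f : Fin 10 → IrrCharacter G} {a x : G}

theorem Table2.exists_involution (T : Table2 f a x) : ∃ t : G, orderOf t = 2 := by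
  have : Fact (Nat.Prime 2) := ⟨Nat.prime_two⟩
  exact exists_prime_orderOf_dvd_card' 2 (by rw [T.card_G]; norm_num)

theorem Table2.orth_t (T : Table2 f a x) {g : G} (hg : orderOf g ≠ 2) :
    (f 0).1 g + 2 * (f 1).1 g - 2 * ((f 2).1 g + (f 3).1 g) + 3 * (f 4).1 g + 4 * (f 7).1 g
      - 3 * (f 8).1 g - (f 9).1 g = 0 := by
  classical
  obtain ⟨t, ht⟩ := T.exists_involution
  have o := T.toTable.orth g t
  rw [if_neg (fun hc => hg ((isConj_orderOf hc).trans ht))] at o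
  simp [Fin.sum_univ_succ, T.at_t t ht, valsT, map_intCast] at o
  linear_combination o

theorem degs_ten : ∀ j : Fin 10, degs j = 10 → j = 1 ∨ j = 2 ∨ j = 3 := by decide

theorem Table.exists_conj_ten (T : Table f a x) {i : Fin 10} (hi : degs i = 10) :
    ∃ j, (j = 1 ∨ j = 2 ∨ j = 3) ∧ ∀ g, (f j).1 g = conj ((f i).1 g) := by
  obtain ⟨j, hj⟩ := T.bij.2 (conjChar (f i))
  refine ⟨j, degs_ten j (by rw [← T.deg j, hj, dg_conjChar, T.deg i, hi]), fun g => ?_⟩
  rw [hj]; rfl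

/-- The character of degree 10 with value 2 at involutions is real. -/
theorem Table2.real_one (T : Table2 f a x) (g : G) : conj ((f 1).1 g) = (f 1).1 g := by
  obtain ⟨j, hj, hjv⟩ := T.toTable.exists_conj_ten (i := 1) rfl
  obtain ⟨t, ht⟩ := T.exists_involution
  have e := hjv t
  rw [T.at_t t ht, T.at_t t ht, map_intCast] at e
  have e' : valsT j = valsT 1 := by exact_mod_cast e
  rcases hj with rfl | rfl | rfl
  · exact (hjv g).symm
  · simp [valsT] at e'
  · simp [valsT] at e'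

theorem Table2.real_or (T : Table2 f a x) :
    (∀ g, conj ((f 2).1 g) = (f 2).1 g ∧ conj ((f 3).1 g) = (f 3).1 g) ∨
      ∀ g, (f 3).1 g = conj ((f 2).1 g) := by
  obtain ⟨j, hj, hjv⟩ := T.toTable.exists_conj_ten (i := 2) rfl
  obtain ⟨k, hk, hkv⟩ := T.toTable.exists_conj_ten (i := 3) rfl
  have hne : ∀ i, (∀ g, (f 1).1 g = conj ((f i).1 g)) → i = 1 := fun i hi => by
    refine T.bij.1 (Subtype.ext (funext fun g => ?_))
    rw [← Complex.conj_conj ((f i).1 g), ← hi, T.real_one]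
  rcases hj with rfl | rfl | rfl
  · exact absurd (hne 2 hjv) (by decide)
  · refine Or.inl fun g => ⟨(hjv g).symm, ?_⟩
    rcases hk with rfl | rfl | rfl
    · exact absurd (hne 3 hkv) (by decide)
    · have : (f 3) = f 2 := Subtype.ext (funext fun g => by
        rw [← Complex.conj_conj ((f 3).1 g), ← hkv, ← hjv])
      exact absurd (T.bij.1 this) (by decide)
    · exact (hkv g).symm
  · exact Or.inr hjv

theorem int_val_three (χ : IrrCharacter G) {u : G} (hu : orderOf u = 3) (hreal : conj (χ.1 u) = χ.1 u) :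
    ∃ z : ℤ, χ.1 u = z ∧ (3 : ℤ) ∣ (charDegree χ.1 : ℤ) - z := by
  have h3 : u ^ 3 = 1 := orderOf_dvd_iff_pow_eq_one.mp (hu ▸ dvd_rfl)
  refine val_rational (isChar χ) (dg_eq χ) (n := 3) (by norm_num) h3 fun k hk hk0 => ?_
  rw [Finset.mem_range] at hk
  interval_cases k
  · omega
  · rw [pow_one]
  · rw [conj_pow_two_of_three (isChar χ) h3, hreal]

theorem normSq_nonneg_int {v : ℂ} {q : ℤ} (hq : v * conj v = q) : 0 ≤ q := by
  have h2 := congrArg Complex.re hq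
  simp at h2
  have : (0 : ℝ) ≤ (q : ℝ) := by rw [← h2]; nlinarith [mul_self_nonneg v.re, mul_self_nonneg v.im]
  exact_mod_cast this

theorem sum_sq_bound {v v' : ℂ} {R q q' : ℤ} (hR : v + v' = R) (hq : v * conj v = q)
    (hq' : v' * conj v' = q') : R ^ 2 ≤ 2 * (q + q') := by
  obtain h : ((2 * (q + q') - R ^ 2 : ℤ) : ℂ) = (v - v') * conj (v - v') := by
    push_cast
    rw [← hq, ← hq', ← hR, map_sub]
    have e : conj v + conj v' = v + v' := by rw [← map_add, hR, map_intCast]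
    linear_combination (v + v') * e
  have := normSq_nonneg_int h.symm
  omega

theorem vanish_three (h : Nat.card G = 7920) (χ : IrrCharacter G) (hd : charDegree χ.1 = 45) {g : G}
    (hg : 3 ∣ orderOf g) : χ.1 g = 0 := by
  refine Char.vanishes_of_defect_zero Nat.prime_three χ.2 (dg_eq χ) ?_ g hg
  rw [h, hd, factorization_eq (a := 2) (b := 880) Nat.prime_three (by norm_num) (by norm_num),
    factorization_eq (a := 2) (b := 5) Nat.prime_three (by norm_num) (by norm_num)]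

/-- The column at an element of order 3. -/
theorem Table2.col_three (T : Table2 f a x) {u : G} (hu : orderOf u = 3) :
    ∃ w v q2 q3 : ℤ, (f 1).1 u = ((-1 - 3 * w - 2 * v : ℤ) : ℂ) ∧
      (f 2).1 u + (f 3).1 u = ((2 + 2 * w + 2 * v : ℤ) : ℂ) ∧
      (f 2).1 u * conj ((f 2).1 u) = q2 ∧ (f 3).1 u * conj ((f 3).1 u) = q3 ∧
      (f 4).1 u = v ∧ (f 5).1 u = w ∧ (f 6).1 u = w ∧ (f 7).1 u = ((1 + 2 * w + v : ℤ) : ℂ) ∧
      (f 8).1 u = 0 ∧ (f 9).1 u = ((-(1 + 2 * w + v) : ℤ) : ℂ) ∧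
      w % 3 = 1 ∧ v % 3 = 2 ∧ 1 ≤ q2 ∧ 1 ≤ q3 ∧ (2 + 2 * w + 2 * v) ^ 2 ≤ 2 * (q2 + q3) ∧
      (Nat.card (centralizer ({u} : Set G)) : ℤ) = 1 + (-1 - 3 * w - 2 * v) ^ 2 + (q2 + q3) +
        2 * w ^ 2 + v ^ 2 + 2 * (1 + 2 * w + v) ^ 2 := by
  classical
  obtain ⟨e6, e0, r1, r2, r3⟩ := T.toTable.relations T.ord_a T.ord_x (g := u) (by omega) (by omega) (by omega)
  have rt := T.orth_t (g := u) (by omega)
  have e8 := vanish_three T.card_G (f 8) (T.deg 8) (g := u) (by rw [hu])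
  obtain ⟨al, hal, -⟩ := int_val_three (f 1) hu (T.real_one u)
  obtain ⟨v, hv, hv3⟩ := int_val_three (f 4) hu (T.real_unique (Or.inr (Or.inl rfl)) u)
  obtain ⟨w, hw, hw3⟩ := int_val_three (f 5) hu (T.real16 u (by omega))
  rw [T.deg] at hv3 hw3
  simp [degs] at hv3 hw3
  have h3 : u ^ 3 = 1 := orderOf_dvd_iff_pow_eq_one.mp (hu ▸ dvd_rfl)
  obtain ⟨s2, q2, -, hq2, -, hq2'⟩ := val_three (isChar (f 2)) (dg_eq (f 2)) h3
  obtain ⟨s3, q3, -, hq3, -, hq3'⟩ := val_three (isChar (f 3)) (dg_eq (f 3)) h3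
  rw [T.deg] at hq2' hq3'
  simp [degs] at hq2' hq3'
  have hR : (f 2).1 u + (f 3).1 u = ((1 - w - al : ℤ) : ℂ) := by
    push_cast
    linear_combination -r1 + e8 - hal - hw
  have h7 : (f 7).1 u = ((1 + 2 * w + v : ℤ) : ℂ) := by
    push_cast; rw [r2, hv, hw]; ring
  have h9 : (f 9).1 u = ((-(1 + 2 * w + v) : ℤ) : ℂ) := by
    rw [hal, add_assoc (al : ℂ), hR, hv, hw, h7, e8] at r3
    push_cast at r3 ⊢
    linear_combination r3 / 55
  have hal' : al = -1 - 3 * w - 2 * v := by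
    have : ((4 * al + 4 + 12 * w + 8 * v : ℤ) : ℂ) = ((0 : ℤ) : ℂ) := by
      rw [e0, hal, hR, hv, h7, e8, h9] at rt
      push_cast at rt ⊢
      linear_combination rt
    have : 4 * al + 4 + 12 * w + 8 * v = 0 := by exact_mod_cast this
    omega
  subst hal'
  have hR' : (f 2).1 u + (f 3).1 u = ((2 + 2 * w + 2 * v : ℤ) : ℂ) := by rw [hR]; push_cast; ring
  have hn := T.toTable.orth u u
  rw [if_pos (IsConj.refl u)] at hn
  simp [Fin.sum_univ_succ, e0, hal, hv, hw, e6, h7, e8, h9, map_intCast, map_ofNat] at hn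
  have hC : (Nat.card (centralizer ({u} : Set G)) : ℤ) = 1 + (-1 - 3 * w - 2 * v) ^ 2 + (q2 + q3) +
      2 * w ^ 2 + v ^ 2 + 2 * (1 + 2 * w + v) ^ 2 := by
    have : (((Nat.card (centralizer ({u} : Set G)) : ℕ) : ℤ) : ℂ) = ((1 + (-1 - 3 * w - 2 * v) ^ 2 + (q2 + q3) +
        2 * w ^ 2 + v ^ 2 + 2 * (1 + 2 * w + v) ^ 2 : ℤ) : ℂ) := by
      push_cast
      linear_combination -hn + hq2 + hq3
    exact_mod_cast this
  have := normSq_nonneg_int hq2
  have := normSq_nonneg_int hq3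
  exact ⟨w, v, q2, q3, hal, hR', hq2, hq3, hv, hw, e6.trans hw, h7, e8, h9, by omega, by omega,
    by omega, by omega, sum_sq_bound hR' hq2 hq3, hC⟩

theorem two_dvd_sub_of_sq {r s : ℤ} (h : (2 : ℤ) ∣ r ^ 2 - s ^ 2) : (2 : ℤ) ∣ r - s := by
  rw [← even_iff_two_dvd] at h ⊢
  simpa [Int.even_sub, Int.even_pow] using h

/-- The column at a product of commuting elements of orders 2 and 3. -/
theorem Table2.col_six (T : Table2 f a x) {t u : G} (ht : orderOf t = 2) (hu : orderOf u = 3)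
    (htu : Commute t u) :
    ∃ v k2 k3 : ℤ, (f 1).1 (t * u) = ((-1 - 2 * v : ℤ) : ℂ) ∧
      (f 2).1 (t * u) + (f 3).1 (t * u) = ((2 + 2 * v : ℤ) : ℂ) ∧
      (f 2).1 (t * u) * conj ((f 2).1 (t * u)) = k2 ∧ (f 3).1 (t * u) * conj ((f 3).1 (t * u)) = k3 ∧
      (3 : ℤ) ∣ v ∧ 1 ≤ k2 ∧ 1 ≤ k3 ∧
      (Nat.card (centralizer ({t * u} : Set G)) : ℤ) = 1 + (-1 - 2 * v) ^ 2 + (k2 + k3) +
        v ^ 2 + 2 * (1 + v) ^ 2 ∧
      (∀ al : ℤ, (f 1).1 u = al → (2 : ℤ) ∣ (-1 - 2 * v) - al) ∧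
      (∀ v' : ℤ, (f 4).1 u = v' → (2 : ℤ) ∣ v - v') ∧
      (∀ q : ℤ, (f 2).1 u * conj ((f 2).1 u) = q → (2 : ℤ) ∣ k2 - q) ∧
      (∀ q : ℤ, (f 3).1 u * conj ((f 3).1 u) = q → (2 : ℤ) ∣ k3 - q) := by
  classical
  have hg : orderOf (t * u) = 6 := by
    rw [htu.orderOf_mul_eq_mul_orderOf_of_coprime (by rw [ht, hu]; norm_num), ht, hu]
  obtain ⟨e6, e0, r1, r2, r3⟩ := T.toTable.relations T.ord_a T.ord_x (g := t * u) (by omega) (by omega) (by omega)
  have rt := T.orth_t (g := t * u) (by omega)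
  have e8 := vanish_three T.card_G (f 8) (T.deg 8) (g := t * u) (by rw [hg]; norm_num)
  have e5 := vanish_two T.card_G (f 5) (T.deg 5) (g := t * u) (by rw [hg]; norm_num)
  have t2 : t ^ 2 = 1 := orderOf_dvd_iff_pow_eq_one.mp (ht ▸ dvd_rfl)
  have u3 : u ^ 3 = 1 := orderOf_dvd_iff_pow_eq_one.mp (hu ▸ dvd_rfl)
  have real : ∀ i, conj ((f i).1 (t * u)) = (f i).1 (t * u) → conj ((f i).1 u) = (f i).1 u →
      ∃ b c : ℤ, (f i).1 (t * u) = b ∧ (f i).1 u = c ∧ (3 : ℤ) ∣ b - valsT i ∧ (2 : ℤ) ∣ b - c := by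
    intro i h1 h2
    obtain ⟨k, q, z, s, qu, hk, hq, hz, hs, hqu, d1, -, d3⟩ := val_six (isChar (f i)) (dg_eq (f i)) t2 u3 htu
    rw [h1] at hk hq
    rw [h2] at hs hqu
    obtain ⟨b, hb, hb2⟩ := int_of_rat (k := 2) (a := k) (by norm_num) (isIntegral_apply (isChar (f i)) (t * u))
      (by push_cast; linear_combination hk)
    obtain ⟨c, hc, -⟩ := int_of_rat (k := 2) (a := s) (by norm_num) (isIntegral_apply (isChar (f i)) u)
      (by push_cast; linear_combination hs)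
    have ez : z = valsT i := by
      have := hz.symm.trans (T.at_t t ht i)
      exact_mod_cast this
    have eq' : q = b ^ 2 := by
      have : ((b ^ 2 : ℤ) : ℂ) = q := by rw [← hq, hb]; push_cast; ring
      exact_mod_cast this.symm
    have equ : qu = c ^ 2 := by
      have : ((c ^ 2 : ℤ) : ℂ) = qu := by rw [← hqu, hc]; push_cast; ring
      exact_mod_cast this.symm
    rw [eq', equ] at d3
    exact ⟨b, c, hb, hc, by push_cast at hb2; omega, two_dvd_sub_of_sq d3⟩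
  obtain ⟨a6, au, ha6, hau, -, pa⟩ := real 1 (T.real_one _) (T.real_one _)
  obtain ⟨v, vu, hv, hvu, hv3, pv⟩ := real 4 (T.real_unique (Or.inr (Or.inl rfl)) _)
    (T.real_unique (Or.inr (Or.inl rfl)) _)
  simp [valsT] at hv3
  obtain ⟨-, k2, z2, -, qu2, -, hk2, hz2, -, hqu2, -, d22, d23⟩ :=
    val_six (isChar (f 2)) (dg_eq (f 2)) t2 u3 htu
  obtain ⟨-, k3, z3, -, qu3, -, hk3, hz3, -, hqu3, -, d32, d33⟩ :=
    val_six (isChar (f 3)) (dg_eq (f 3)) t2 u3 htu
  have ez2 : z2 = -2 := by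
    have := hz2.symm.trans (T.at_t t ht 2)
    exact_mod_cast this
  have ez3 : z3 = -2 := by
    have := hz3.symm.trans (T.at_t t ht 3)
    exact_mod_cast this
  rw [ez2] at d22; rw [ez3] at d32
  norm_num at d22 d32
  have hR : (f 2).1 (t * u) + (f 3).1 (t * u) = ((1 - a6 : ℤ) : ℂ) := by
    push_cast
    linear_combination -r1 + e8 - ha6 - e5
  have h7 : (f 7).1 (t * u) = ((1 + v : ℤ) : ℂ) := by
    push_cast; rw [r2, hv, e5]; ring
  have h9 : (f 9).1 (t * u) = ((-(1 + v) : ℤ) : ℂ) := by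
    rw [ha6, add_assoc (a6 : ℂ), hR, hv, e5, h7, e8] at r3
    push_cast at r3 ⊢
    linear_combination r3 / 55
  have ha6' : a6 = -1 - 2 * v := by
    have : ((4 * a6 + 4 + 8 * v : ℤ) : ℂ) = ((0 : ℤ) : ℂ) := by
      rw [e0, ha6, hR, hv, h7, e8, h9] at rt
      push_cast at rt ⊢
      linear_combination rt
    have : 4 * a6 + 4 + 8 * v = 0 := by exact_mod_cast this
    omega
  subst ha6'
  have hn := T.toTable.orth (t * u) (t * u)
  rw [if_pos (IsConj.refl _)] at hn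
  simp [Fin.sum_univ_succ, e0, ha6, hv, e5, e6, h7, e8, h9, map_intCast, map_ofNat] at hn
  have hC : (Nat.card (centralizer ({t * u} : Set G)) : ℤ) = 1 + (-1 - 2 * v) ^ 2 + (k2 + k3) +
      v ^ 2 + 2 * (1 + v) ^ 2 := by
    have : (((Nat.card (centralizer ({t * u} : Set G)) : ℕ) : ℤ) : ℂ) = ((1 + (-1 - 2 * v) ^ 2 + (k2 + k3) +
        v ^ 2 + 2 * (1 + v) ^ 2 : ℤ) : ℂ) := by
      push_cast
      linear_combination -hn + hk2 + hk3
    exact_mod_cast this
  have := normSq_nonneg_int hk2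
  have := normSq_nonneg_int hk3
  refine ⟨v, k2, k3, ha6, by rw [hR]; push_cast; ring, hk2, hk3, hv3, by omega, by omega, hC,
    fun al hl => ?_, fun v' hl => ?_, fun q hl => ?_, fun q hl => ?_⟩
  · have : au = al := by exact_mod_cast hau.symm.trans hl
    omega
  · have : vu = v' := by exact_mod_cast hvu.symm.trans hl
    omega
  · have : qu2 = q := by exact_mod_cast hqu2.symm.trans hl
    omega
  · have : qu3 = q := by exact_mod_cast hqu3.symm.trans hl
    omega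

end Cfsg.Agent.Order7920
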