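/-
Elements of order 3 in a simple group of order 7920.

Main results (namespace `Cfsg.Agent.Order7920`): `Table2.pow_three`, `Table3`, `exists_table3`
(one class of elements of order 3 with centralisers of order 18, their values, 55 Sylow 3-subgroups).
-/
import Cfsg.Agent.Lib.Order7920.ThreeCols
import Cfsg.Agent.Lib.ClassCount.PElementSum
import Cfsg.Agent.Lib.SmallOrders.TwoPoint.SylowTI

set_option autoImplicit false

open scoped ComplexConjugate

namespace Cfsg.Agent.Order7920

open Cfsg Subgroup SmallOrders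

variable {G : Type*} [Group G] [Finite G] {f : Fin 10 → IrrCharacter G} {a x : G}

theorem nine_not_dvd_invol (T : Table2 f a x) {t : G} (ht : orderOf t = 2) {H : Subgroup G}
    (hH : H ≤ centralizer ({t} : Set G)) : ¬ 9 ∣ Nat.card H := fun h9 => by
  have := h9.trans (card_dvd_of_le hH)
  rw [T.cent_t t ht] at this
  norm_num at this

theorem card_class_three (T : Table2 f a x) {u : G} {C : ℕ}
    (hC : Nat.card (centralizer ({u} : Set G)) = C) :
    Nat.card {g : G // IsConj u g} * C = 7920 := by
  rw [← hC, ← T.card_G]; exact card_isConj_class u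

variable [IsSimpleGroup G] [Fact (Nat.Prime 5)] [Fact (Nat.Prime 11)] [Fact (Nat.Prime 3)]

theorem card_sylow_three_subgroup (T : Table2 f a x) (P : Sylow 3 G) :
    Nat.card (P : Subgroup G) = 9 := by
  rw [card_sylow_subgroup (p := 3) (e := 2) (m := 880) (by rw [T.card_G]; norm_num) (by norm_num) P]
  norm_num

theorem cent_three_cases (T : Table2 f a x) {u : G} (hu : orderOf u = 3) :
    Nat.card (centralizer ({u} : Set G)) = 18 ∨ Nat.card (centralizer ({u} : Set G)) = 36 ∨
      Nat.card (centralizer ({u} : Set G)) = 72 ∨ Nat.card (centralizer ({u} : Set G)) = 144 := by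
  obtain ⟨w, v, q2, q3, -, -, -, -, -, -, -, -, -, -, hw, hv, hq2, hq3, hR, hC⟩ := T.col_three hu
  set C := Nat.card (centralizer ({u} : Set G))
  have hCdvd : C ∣ 7920 := T.card_G ▸ card_subgroup_dvd_card _
  have hno : ∀ q : ℕ, q = 5 ∨ q = 11 → ¬ q ∣ C := by
    intro q hq hd
    have : Fact q.Prime := ⟨by rcases hq with rfl | rfl <;> norm_num⟩
    obtain ⟨⟨b, hb⟩, hbo⟩ := exists_prime_orderOf_dvd_card' q hd
    rw [Subgroup.orderOf_mk] at hbo
    have hcomm : u * b = b * u := (mem_centralizer_singleton_iff.mp hb).symm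
    rcases hq with rfl | rfl
    · have := orderOf_dvd_of_centralizer (card_centralizer_five T.card_G T.ord_a hbo) hcomm
      rw [hu] at this; norm_num at this
    · have := orderOf_dvd_eleven T.card_G hbo hcomm
      rw [hu] at this; norm_num at this
  have hC144 : C ∣ 144 := by
    have h5 : Nat.Coprime C 5 := ((Fact.out : Nat.Prime 5).coprime_iff_not_dvd.mpr (hno 5 (Or.inl rfl))).symm
    have h11 : Nat.Coprime C 11 := ((Fact.out : Nat.Prime 11).coprime_iff_not_dvd.mpr (hno 11 (Or.inr rfl))).symm
    exact (h5.mul_right h11).dvd_of_dvd_mul_right (show C ∣ 144 * (5 * 11) from hCdvd)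
  have h9 : 9 ∣ C := by
    obtain ⟨P, hP⟩ := (IsPGroup.of_card (n := 1) (show Nat.card (zpowers u) = 3 ^ 1 by
      rw [Nat.card_zpowers, hu, pow_one])).exists_le_sylow
    have hab : IsMulCommutative (P : Subgroup G) :=
      IsPGroup.isMulCommutative_of_card_eq_prime_sq (p := 3) (by rw [card_sylow_three_subgroup T P]; norm_num)
    rw [← card_sylow_three_subgroup T P]
    exact card_dvd_of_le fun g hg => mem_centralizer_singleton_iff.mpr
      (congrArg Subtype.val (mul_comm' (⟨g, hg⟩ : (P : Subgroup G)) ⟨u, hP (mem_zpowers u)⟩))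
  have hne : C ≠ 9 := by
    intro e
    rw [e] at hC
    push_cast at hC
    have h1 := sq_nonneg (-1 - 3 * w - 2 * v)
    have h2 := sq_nonneg v
    have h3 := sq_nonneg (1 + 2 * w + v)
    have : w ≤ 2 ∧ -2 ≤ w := ⟨by nlinarith, by nlinarith⟩
    have : v ≤ 2 ∧ -2 ≤ v := ⟨by nlinarith, by nlinarith⟩
    obtain ⟨hw1, hw2⟩ : w ≤ 2 ∧ -2 ≤ w := by omega
    obtain ⟨hv1, hv2⟩ : v ≤ 2 ∧ -2 ≤ v := by omega
    interval_cases w <;> interval_cases v <;> omega
  obtain ⟨m, hm⟩ := h9
  rw [hm] at hC144 hne ⊢
  have : m ∣ 16 := Nat.dvd_of_mul_dvd_mul_left (by norm_num : 0 < 9) (show 9 * m ∣ 9 * 16 from hC144)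
  have := Nat.le_of_dvd (by norm_num) this
  interval_cases m <;> omega

theorem exists_invol_commute (T : Table2 f a x) {u : G} (hu : orderOf u = 3) :
    ∃ t : G, orderOf t = 2 ∧ Commute t u := by
  have : Fact (Nat.Prime 2) := ⟨Nat.prime_two⟩
  obtain ⟨⟨t, ht⟩, hto⟩ := exists_prime_orderOf_dvd_card' (G := centralizer ({u} : Set G)) 2
    (by rcases cent_three_cases T hu with e | e | e | e <;> rw [e] <;> norm_num)
  rw [Subgroup.orderOf_mk] at hto
  exact ⟨t, hto, mem_centralizer_singleton_iff.mp ht⟩

open Classical in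
theorem nine_dvd_card_pow_nine [Fintype G] (h : Nat.card G = 7920) :
    9 ∣ (Finset.univ.filter fun g : G => g ^ 9 = 1).card := by
  obtain ⟨k, hk⟩ := ClassCount.sum_pElements (G := G) (Nat.prime_three)
    (Char.isCharacter_one (G := G))
  rw [h, factorization_eq (a := 2) (b := 880) Nat.prime_three (by norm_num) (by norm_num)] at hk
  have e : ∀ g : G, ClassCount.pElt 3 g * (1 : G → ℂ) g = if g ^ 9 = 1 then 1 else 0 := by
    intro g
    simp only [ClassCount.pElt, h, Pi.one_apply, mul_one,
      factorization_eq (n := 7920) (a := 2) (b := 880) Nat.prime_three (by norm_num) (by norm_num)]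
    rfl
  rw [Finset.sum_congr rfl (fun g _ => e g), Finset.sum_boole] at hk
  have hk' : ((Finset.univ.filter fun g : G => g ^ 9 = 1).card : ℤ) = 9 * k := by exact_mod_cast hk
  omega

open Classical in
theorem card_pow_nine [Fintype G] :
    (Finset.univ.filter fun g : G => g ^ 9 = 1).card =
      1 + (Finset.univ.filter fun g : G => orderOf g = 3).card +
        (Finset.univ.filter fun g : G => orderOf g = 9).card := by
  rw [show (Finset.univ.filter fun g : G => g ^ 9 = 1) =
      ({1} ∪ (Finset.univ.filter fun g : G => orderOf g = 3)) ∪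
        (Finset.univ.filter fun g : G => orderOf g = 9) from ?_]
  · rw [Finset.card_union_of_disjoint, Finset.card_union_of_disjoint, Finset.card_singleton]
    · rw [Finset.disjoint_singleton_left]; simp
    · rw [Finset.disjoint_left]
      intro g hg hg'
      simp at hg hg'
      rcases hg with rfl | hg
      · simp at hg'
      · omega
  · ext g
    simp only [Finset.mem_filter, Finset.mem_univ, true_and, Finset.mem_union, Finset.mem_singleton]
    rw [← orderOf_dvd_iff_pow_eq_one, show (9 : ℕ) = 3 ^ 2 from rfl, Nat.dvd_prime_pow Nat.prime_three]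
    constructor
    · rintro ⟨i, hi, he⟩
      interval_cases i <;> simp_all
    · rintro ((rfl | e) | e)
      · exact ⟨0, by norm_num, by simp⟩
      · exact ⟨1, by norm_num, by simpa using e⟩
      · exact ⟨2, le_rfl, e⟩

/-- There are no elements of order 9. -/
theorem Table2.pow_three (T : Table2 f a x) {y : G} : orderOf y ≠ 9 := by
  classical
  have := Fintype.ofFinite G
  intro hy
  have hG := not_comm T.card_G
  set u := y ^ 3 with hu'
  have hu : orderOf u = 3 := by
    rw [hu', orderOf_pow y, hy]; norm_num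
  have hle : centralizer ({y} : Set G) ≤ centralizer ({u} : Set G) := fun g hg => by
    rw [mem_centralizer_singleton_iff] at hg ⊢
    exact (Commute.pow_right (show Commute g y from hg) 3).eq
  have hCy : Nat.card (centralizer ({y} : Set G)) = 9 := by
    have h9 : 9 ∣ Nat.card (centralizer ({y} : Set G)) := by
      have := card_dvd_of_le (zpowers_le_centralizer y)
      rwa [Nat.card_zpowers, hy] at this
    have h2 : ¬ 2 ∣ Nat.card (centralizer ({y} : Set G)) := by
      intro h2
      have : Fact (Nat.Prime 2) := ⟨Nat.prime_two⟩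
      obtain ⟨⟨t, ht⟩, hto⟩ := exists_prime_orderOf_dvd_card' 2 h2
      rw [Subgroup.orderOf_mk] at hto
      refine nine_not_dvd_invol T hto (H := zpowers y) (zpowers_le.mpr ?_) (by rw [Nat.card_zpowers, hy])
      exact mem_centralizer_singleton_iff.mpr (mem_centralizer_singleton_iff.mp ht).symm
    have h144 : Nat.card (centralizer ({y} : Set G)) ∣ 144 :=
      (card_dvd_of_le hle).trans (by rcases cent_three_cases T hu with e | e | e | e <;> rw [e] <;> norm_num)
    have hco : Nat.Coprime (Nat.card (centralizer ({y} : Set G))) 16 :=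
      Nat.Coprime.pow_right 4 ((Nat.prime_two.coprime_iff_not_dvd.mpr h2).symm)
    exact Nat.dvd_antisymm (hco.dvd_of_dvd_mul_right (show _ ∣ 9 * 16 from h144)) h9
  have hyc : Nat.card (zpowers y) = 3 ^ 2 := by rw [Nat.card_zpowers, hy]; norm_num
  obtain ⟨P, hP⟩ := (IsPGroup.of_card hyc).exists_le_sylow
  have hPy : (P : Subgroup G) = zpowers y :=
    (eq_of_le_of_card_ge hP (by rw [card_sylow_three_subgroup T P, hyc]; norm_num)).symm
  set N := normalizer ((P : Subgroup G) : Set G) with hNdef
  have hCP : centralizer ((P : Subgroup G) : Set G) = centralizer ({y} : Set G) := by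
    rw [hPy, centralizer_zpowers]
  have hleN : centralizer ({y} : Set G) ≤ N := hCP ▸ centralizer_le_normalizer _
  let θ : N →* MulAut (P : Subgroup G) := (P : Subgroup G).normalizerMonoidHom
  have hk : θ.ker = (centralizer ({y} : Set G)).subgroupOf N := by
    rw [← hCP]; exact (P : Subgroup G).normalizerMonoidHom_ker
  have hcard := θ.ker.card_mul_index
  rw [Subgroup.index_ker, hk, Nat.card_congr (subgroupOfEquivOfLe hleN).toEquiv, hCy] at hcard
  have hN := card_normalizer_mul_card_sylow P
  rw [← hNdef, ← hcard, T.card_G] at hN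
  have hcyc : IsCyclic (P : Subgroup G) := hPy ▸ Subgroup.isCyclic_zpowers y
  have h6 : Nat.card θ.range ∣ 6 := by
    refine (card_subgroup_dvd_card _).trans (dvd_of_eq ?_)
    rw [IsCyclic.card_mulAut, hPy, hyc, Nat.totient_prime_pow Nat.prime_three (by norm_num)]
    norm_num
  have h1 : Nat.card θ.range ≠ 1 := by
    intro e
    apply normalizer_not_le_centralizer hG (by rw [T.card_G]; norm_num) P
    rw [hCP]
    exact (eq_of_le_of_card_ge hleN (by rw [← hcard, e, hCy])).ge
  have hn : Nat.card (Sylow 3 G) = 440 := by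
    have hle6 := Nat.le_of_dvd (by norm_num) h6
    generalize Nat.card θ.range = r at *
    interval_cases r <;> omega
  have hQc : ∀ Q : Sylow 3 G, IsCyclic (Q : Subgroup G) := fun Q =>
    isCyclic_of_surjective (P.equiv Q).toMonoidHom (P.equiv Q).surjective
  have h9 : (Finset.univ.filter fun g : G => orderOf g = 9).card = 2640 := by
    rw [← Fintype.card_subtype, ← Nat.card_eq_fintype_card]
    let F : (Σ Q : Sylow 3 G, {g : (Q : Subgroup G) // orderOf g = 9}) → {g : G // orderOf g = 9} :=
      fun s => ⟨(s.2.1 : G), by rw [Subgroup.orderOf_coe]; exact s.2.2⟩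
    have hF : Function.Bijective F := by
      constructor
      · rintro ⟨Q₁, x₁, h₁⟩ ⟨Q₂, x₂, h₂⟩ e
        have hx : (x₁ : G) = x₂ := congrArg Subtype.val e
        have hc : Nat.card (zpowers (x₁ : G)) = 9 := by rw [Nat.card_zpowers, Subgroup.orderOf_coe, h₁]
        have e₁ : zpowers (x₁ : G) = (Q₁ : Subgroup G) :=
          eq_of_le_of_card_ge (zpowers_le.mpr x₁.2) (by rw [hc, card_sylow_three_subgroup T])
        have e₂ : zpowers (x₁ : G) = (Q₂ : Subgroup G) :=
          eq_of_le_of_card_ge (zpowers_le.mpr (hx ▸ x₂.2)) (by rw [hc, card_sylow_three_subgroup T])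
        obtain rfl : Q₁ = Q₂ := Sylow.ext (e₁.symm.trans e₂)
        obtain rfl : x₁ = x₂ := Subtype.ext hx
        rfl
      · rintro ⟨g, hg⟩
        obtain ⟨Q, hQ⟩ := (IsPGroup.of_card (show Nat.card (zpowers g) = 3 ^ 2 by
          rw [Nat.card_zpowers, hg]; norm_num)).exists_le_sylow
        exact ⟨⟨Q, ⟨g, hQ (mem_zpowers g)⟩, by rw [Subgroup.orderOf_mk]; exact hg⟩, rfl⟩
    rw [← Nat.card_congr (Equiv.ofBijective F hF)]
    have : Fintype (Sylow 3 G) := Fintype.ofFinite _
    rw [Nat.card_sigma, Finset.sum_congr rfl (g := fun _ => 6) (fun Q _ => ?_), Finset.sum_const,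
      Finset.card_univ, ← Nat.card_eq_fintype_card, hn]
    · rfl
    · have := hQc Q
      rw [Nat.card_eq_fintype_card, Fintype.card_subtype,
        IsCyclic.card_orderOf_eq_totient (by rw [← Nat.card_eq_fintype_card, card_sylow_three_subgroup T]),
        show (9 : ℕ) = 3 ^ 2 from rfl, Nat.totient_prime_pow Nat.prime_three (by norm_num)]
      norm_num
  set A := Finset.univ.filter fun g : G => IsConj u g
  set B := Finset.univ.filter fun g : G => IsConj u⁻¹ g
  have h3 : (Finset.univ.filter fun g : G => orderOf g = 3) = A ∪ B := by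
    ext g
    simp only [A, B, Finset.mem_filter, Finset.mem_univ, true_and, Finset.mem_union]
    constructor
    · intro hg
      obtain ⟨Q, hQ⟩ := (IsPGroup.of_card (show Nat.card (zpowers g) = 3 ^ 1 by
        rw [Nat.card_zpowers, hg, pow_one])).exists_le_sylow
      obtain ⟨c, hc⟩ := MulAction.exists_smul_eq G Q P
      have hmem : c * g * c⁻¹ ∈ zpowers y := by
        rw [← hPy, ← hc, Sylow.coe_subgroup_smul, Subgroup.mem_pointwise_smul_iff_inv_smul_mem,
          ← map_inv, MulAut.smul_def, MulAut.conj_apply, inv_inv]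
        simpa [mul_assoc] using hQ (mem_zpowers g)
      rw [← mem_powers_iff_mem_zpowers, mem_powers_iff_mem_range_orderOf, hy, Finset.mem_image] at hmem
      obtain ⟨k, hk, hk'⟩ := hmem
      have hgc : IsConj g (c * g * c⁻¹) := isConj_iff.mpr ⟨c, rfl⟩
      have ho : orderOf (y ^ k) = 3 := by rw [hk', ← isConj_orderOf hgc, hg]
      rw [Finset.mem_range] at hk
      rcases (show k = 3 ∨ k = 6 by
        rw [orderOf_pow y, hy] at ho
        interval_cases k <;> simp at ho ⊢) with rfl | rfl
      · exact Or.inl (by rw [hu', hk']; exact hgc.symm)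
      · refine Or.inr ?_
        have : u⁻¹ = y ^ 6 := by
          rw [hu', inv_eq_iff_mul_eq_one, ← pow_add, show 3 + 6 = orderOf y from hy.symm, pow_orderOf_eq_one]
        rw [this, hk']; exact hgc.symm
    · rintro (e | e)
      · rw [← isConj_orderOf e, hu]
      · rw [← isConj_orderOf e, orderOf_inv, hu]
  have hA : A.card * Nat.card (centralizer ({u} : Set G)) = 7920 := by
    rw [← Fintype.card_subtype, ← Nat.card_eq_fintype_card]; exact card_class_three T rfl
  have hB : B.card * Nat.card (centralizer ({u} : Set G)) = 7920 := by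
    rw [← Fintype.card_subtype, ← Nat.card_eq_fintype_card]
    refine card_class_three T ?_
    rw [← centralizer_zpowers, ← centralizer_zpowers u, zpowers_inv]
  have hAB : (A ∪ B).card = A.card ∨ (A ∪ B).card = A.card + B.card := by
    by_cases hc : IsConj u u⁻¹
    · left
      rw [show B = A from Finset.filter_congr fun g _ => ⟨hc.trans, hc.symm.trans⟩, Finset.union_self]
    · right
      exact Finset.card_union_of_disjoint (Finset.disjoint_filter.mpr fun g _ e e' => hc (e.trans e'.symm))
  have hd := nine_dvd_card_pow_nine T.card_G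
  rw [card_pow_nine, h3, h9] at hd
  rcases cent_three_cases T hu with e | e | e | e <;> rw [e] at hA hB <;>
    rcases hAB with e' | e' <;> rw [e'] at hd <;> omega

open Classical in
/-- Elements of order 3 in the centraliser of an involution. -/
theorem inner_three [Fintype G] (T : Table2 f a x) {t : G} (ht : orderOf t = 2) :
    (Finset.univ.filter fun u : G => orderOf u = 3 ∧ Commute t u).card ≤ 8 ∧
      ((Finset.univ.filter fun u : G => orderOf u = 3 ∧ Commute t u).card = 8 →
        ∀ u, orderOf u = 3 → Commute t u → Nat.card (centralizer ({t * u} : Set G)) ∣ 12) := by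
  set H := centralizer ({t} : Set G) with hH
  have hfac : Nat.card H = 3 ^ 1 * 16 := by rw [hH, T.cent_t t ht]; norm_num
  have hQ : ∀ Q : Sylow 3 H, Nat.card (Q : Subgroup H) = 3 := fun Q => by
    rw [card_sylow_subgroup hfac (by norm_num) Q, pow_one]
  have hcnt : (Finset.univ.filter fun u : G => orderOf u = 3 ∧ Commute t u).card =
      Nat.card (Sylow 3 H) * 2 := by
    rw [← Fintype.card_subtype, ← Nat.card_eq_fintype_card, ← card_orderOf_eq_prime hQ]
    exact Nat.card_congr
      { toFun := fun u => ⟨⟨u.1, mem_centralizer_singleton_iff.mpr u.2.2.symm.eq⟩,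
          by rw [Subgroup.orderOf_mk]; exact u.2.1⟩
        invFun := fun h => ⟨h.1.1, by rw [Subgroup.orderOf_coe]; exact h.2,
          (mem_centralizer_singleton_iff.mp h.1.2).symm⟩
        left_inv := fun u => rfl
        right_inv := fun h => rfl }
  obtain ⟨Q0⟩ := (inferInstance : Nonempty (Sylow 3 H))
  have hdvd : Nat.card (Sylow 3 H) ∣ 16 := index_sylow hfac (by norm_num) Q0 ▸ Q0.card_dvd_index
  have hmod : Nat.card (Sylow 3 H) % 3 = 1 := card_sylow_modEq_one 3 H
  have key : ∀ u, orderOf u = 3 → Commute t u →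
      Nat.card (centralizer ({t * u} : Set G)) * Nat.card (Sylow 3 H) ∣ 48 ∧
        6 ∣ Nat.card (centralizer ({t * u} : Set G)) := by
    intro u hu htu
    set g := t * u with hg
    have hgo : orderOf g = 6 := by
      rw [hg, htu.orderOf_mul_eq_mul_orderOf_of_coprime (by rw [ht, hu]; norm_num), ht, hu]
    have t2 : t ^ 2 = 1 := orderOf_dvd_iff_pow_eq_one.mp (ht ▸ dvd_rfl)
    have u3 : u ^ 3 = 1 := orderOf_dvd_iff_pow_eq_one.mp (hu ▸ dvd_rfl)
    have g3 : g ^ 3 = t := by rw [hg, htu.mul_pow, u3, mul_one, pow_succ, t2, one_mul]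
    have g4 : g ^ 4 = u := by
      rw [show (4 : ℕ) = 3 + 1 from rfl, pow_succ, g3, hg, ← mul_assoc, ← pow_two, t2, one_mul]
    refine ⟨?_, hgo ▸ Nat.card_zpowers g ▸ card_dvd_of_le (zpowers_le_centralizer g)⟩
    have hle : centralizer ({g} : Set G) ≤ H := fun c hc => by
      rw [hH, mem_centralizer_singleton_iff, ← g3]
      exact (Commute.pow_right (show Commute c g from mem_centralizer_singleton_iff.mp hc) 3).eq
    obtain ⟨Q, hQu⟩ := exists_sylow_eq_zpowers hQ
      (g := (⟨u, mem_centralizer_singleton_iff.mpr htu.symm.eq⟩ : H)) (by rw [Subgroup.orderOf_mk, hu])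
    have hN := card_normalizer_mul_card_sylow Q
    rw [hfac] at hN
    have hsub : (centralizer ({g} : Set G)).subgroupOf H ≤ normalizer ((Q : Subgroup H) : Set H) := by
      intro c hc
      rw [hQu]
      refine centralizer_le_normalizer _ ?_
      rw [centralizer_zpowers, mem_centralizer_singleton_iff]
      apply Subtype.ext
      show (c : G) * u = u * c
      rw [← g4]
      exact (Commute.pow_right (show Commute (c : G) g from
        mem_centralizer_singleton_iff.mp (mem_subgroupOf.mp hc)) 4).eq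
    have := card_dvd_of_le hsub
    rw [Nat.card_congr (subgroupOfEquivOfLe hle).toEquiv] at this
    exact (Nat.mul_dvd_mul_right this _).trans (dvd_of_eq (hN.trans (by norm_num)))
  rw [hcnt]
  have h14 : Nat.card (Sylow 3 H) = 1 ∨ Nat.card (Sylow 3 H) = 4 := by
    have hle := Nat.le_of_dvd (by norm_num) hdvd
    by_contra hcon
    have h16 : Nat.card (Sylow 3 H) = 16 := by
      generalize Nat.card (Sylow 3 H) = n at *
      interval_cases n <;> omega
    obtain ⟨h, ho⟩ := exists_prime_orderOf_dvd_card' (G := H) 3 (by rw [hfac]; norm_num)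
    obtain ⟨k1, k2⟩ := key h.1 (by rw [Subgroup.orderOf_coe, ho]) (mem_centralizer_singleton_iff.mp h.2).symm
    have h3 := Nat.le_of_dvd (by norm_num) k1
    rw [h16] at h3
    obtain ⟨r, hr⟩ := k2
    rcases Nat.eq_zero_or_pos r with rfl | hr0
    · exact (Nat.card_pos (α := centralizer ({t * (h : G)} : Set G))).ne' (by simpa using hr)
    · omega
  refine ⟨by omega, fun h8 u hu htu => ?_⟩
  have h := (key u hu htu).1
  rw [show Nat.card (Sylow 3 H) = 4 by omega] at h
  exact Nat.dvd_of_mul_dvd_mul_right (by norm_num : 0 < 4) (show _ * 4 ∣ 12 * 4 from h)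

open Classical in
/-- The number of involutions centralising an element of order 3 is a nonzero multiple of 3. -/
theorem three_dvd_invols [Fintype G] (T : Table2 f a x) {u : G} (hu : orderOf u = 3) :
    3 ∣ (Finset.univ.filter fun t : G => orderOf t = 2 ∧ Commute t u).card ∧
      0 < (Finset.univ.filter fun t : G => orderOf t = 2 ∧ Commute t u).card := by
  obtain ⟨t, ht, htu⟩ := exists_invol_commute T hu
  refine ⟨?_, Finset.card_pos.mpr ⟨t, by simp [ht, htu]⟩⟩
  obtain ⟨P, hP⟩ := (IsPGroup.of_card (n := 1) (show Nat.card (zpowers u) = 3 ^ 1 by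
    rw [Nat.card_zpowers, hu, pow_one])).exists_le_sylow
  have hab : IsMulCommutative (P : Subgroup G) :=
    IsPGroup.isMulCommutative_of_card_eq_prime_sq (p := 3) (by rw [card_sylow_three_subgroup T P]; norm_num)
  have hcomm : ∀ p : (P : Subgroup G), Commute (p : G) u := fun p =>
    congrArg Subtype.val (mul_comm' p ⟨u, hP (mem_zpowers u)⟩)
  let S := {t : G // orderOf t = 2 ∧ Commute t u}
  let : MulAction (P : Subgroup G) S :=
    { smul := fun p t => ⟨(p : G) * t.1 * (p : G)⁻¹,
        by rw [← isConj_orderOf (isConj_iff.mpr ⟨(p : G), rfl⟩)]; exact t.2.1,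
        ((hcomm p).mul_left t.2.2).mul_left (hcomm p).inv_left⟩
      one_smul := fun t => Subtype.ext (by show ((1 : (P : Subgroup G)) : G) * t.1 * _ = t.1; simp)
      mul_smul := fun p q t => Subtype.ext (by
        show ((p * q : (P : Subgroup G)) : G) * t.1 * _ = (p : G) * ((q : G) * t.1 * (q : G)⁻¹) * _
        push_cast; group) }
  have hfix : IsEmpty (MulAction.fixedPoints (P : Subgroup G) S) := ⟨fun ⟨s, hs⟩ => by
    refine nine_not_dvd_invol T s.2.1 (H := (P : Subgroup G)) (fun p hp => ?_)
      (by rw [card_sylow_three_subgroup T P])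
    rw [mem_centralizer_singleton_iff]
    have := congrArg Subtype.val (hs ⟨p, hp⟩)
    exact mul_inv_eq_iff_eq_mul.mp this⟩
  have h := P.isPGroup'.card_modEq_card_fixedPoints S
  rw [Nat.card_of_isEmpty (α := MulAction.fixedPoints (P : Subgroup G) S)] at h
  rw [← Fintype.card_subtype, ← Nat.card_eq_fintype_card]
  exact Nat.modEq_zero_iff_dvd.mp h

open Classical in
theorem fifty_five_dvd [Fintype G] (T : Table2 f a x) :
    55 ∣ (Finset.univ.filter fun g : G => orderOf g = 3).card := by
  rw [Finset.card_eq_sum_card_fiberwise (f := ConjClasses.mk) (t := Finset.univ) (fun _ _ => Finset.mem_coe.mpr (Finset.mem_univ _))]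
  refine Finset.dvd_sum fun c _ => ?_
  obtain ⟨g, rfl⟩ := ConjClasses.mk_surjective c
  by_cases hg : orderOf g = 3
  · rw [show ((Finset.univ.filter fun g : G => orderOf g = 3).filter fun k => ConjClasses.mk k = ConjClasses.mk g) =
        Finset.univ.filter fun k => IsConj g k from ?_, ← Fintype.card_subtype, ← Nat.card_eq_fintype_card]
    · rcases cent_three_cases T hg with e | e | e | e <;> have := card_class_three T e <;> omega
    · ext k
      simp only [Finset.mem_filter, Finset.mem_univ, true_and, ConjClasses.mk_eq_mk_iff_isConj]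
      exact ⟨fun e => e.2.symm, fun e => ⟨(isConj_orderOf e).symm.trans hg, e.symm⟩⟩
  · rw [show ((Finset.univ.filter fun g : G => orderOf g = 3).filter fun k => ConjClasses.mk k = ConjClasses.mk g) = ∅ from ?_]
    · simp
    · refine Finset.filter_eq_empty_iff.mpr fun k hk e => hg ?_
      simp only [Finset.mem_filter, Finset.mem_univ, true_and] at hk
      rw [← isConj_orderOf (ConjClasses.mk_eq_mk_iff_isConj.mp e), hk]

open Classical in
/-- There are 440 elements of order 3, each commuting with three involutions. -/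
theorem card_three [Fintype G] (T : Table2 f a x) :
    (Finset.univ.filter fun g : G => orderOf g = 3).card = 440 ∧
      (∀ u, orderOf u = 3 → (Finset.univ.filter fun t : G => orderOf t = 2 ∧ Commute t u).card = 3) ∧
      ∀ t u, orderOf t = 2 → orderOf u = 3 → Commute t u →
        Nat.card (centralizer ({t * u} : Set G)) ∣ 12 := by
  set S2 := Finset.univ.filter fun g : G => orderOf g = 2 with hS2
  set S3 := Finset.univ.filter fun g : G => orderOf g = 3 with hS3
  have h165 : S2.card = 165 := by
    obtain ⟨t, ht⟩ := T.exists_involution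
    have h := card_isConj_class t
    rw [T.cent_t t ht, T.card_G, Nat.card_eq_fintype_card, Fintype.card_subtype] at h
    rw [hS2, show (Finset.univ.filter fun g : G => orderOf g = 2) = Finset.univ.filter fun g => IsConj t g from
      Finset.filter_congr fun g _ => ⟨T.conj_t t g ht, fun e => (isConj_orderOf e).symm.trans ht⟩]
    omega
  have hd : ∑ t ∈ S2, (S3.filter fun u => Commute t u).card = ∑ u ∈ S3, (S2.filter fun t => Commute t u).card :=
    Finset.sum_card_bipartiteAbove_eq_sum_card_bipartiteBelow (fun t u => Commute t u)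
  have e3 : ∀ t, (S3.filter fun u => Commute t u) = Finset.univ.filter fun u => orderOf u = 3 ∧ Commute t u :=
    fun t => by rw [hS3, Finset.filter_filter]
  have e2 : ∀ u, (S2.filter fun t => Commute t u) = Finset.univ.filter fun t => orderOf t = 2 ∧ Commute t u :=
    fun u => by rw [hS2, Finset.filter_filter]
  simp only [e3, e2] at hd
  have hub : ∀ t ∈ S2, (Finset.univ.filter fun u : G => orderOf u = 3 ∧ Commute t u).card ≤ 8 :=
    fun t ht => (inner_three T (Finset.mem_filter.mp ht).2).1
  have hlb : ∀ u ∈ S3, 3 ≤ (Finset.univ.filter fun t : G => orderOf t = 2 ∧ Commute t u).card := fun u hu => by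
    obtain ⟨h1, h2⟩ := three_dvd_invols T (Finset.mem_filter.mp hu).2
    exact Nat.le_of_dvd h2 h1
  have hs1 := Finset.sum_le_card_nsmul S2 _ 8 hub
  have hs2 := Finset.card_nsmul_le_sum S3 _ 3 hlb
  rw [smul_eq_mul] at hs1 hs2
  have h55 : 55 ∣ S3.card := fifty_five_dvd T
  have h9 := nine_dvd_card_pow_nine T.card_G
  rw [card_pow_nine, ← hS3, show (Finset.univ.filter fun g : G => orderOf g = 9) = ∅ from
    Finset.filter_eq_empty_iff.mpr fun g _ => T.pow_three, Finset.card_empty] at h9
  have h440 : S3.card = 440 := by omega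
  have hc8 : ∀ t ∈ S2, (Finset.univ.filter fun u : G => orderOf u = 3 ∧ Commute t u).card = 8 := by
    refine (Finset.sum_eq_sum_iff_of_le hub).mp ?_
    rw [Finset.sum_const, smul_eq_mul]
    omega
  refine ⟨h440, fun u hu => ?_, fun t u ht hu htu =>
    (inner_three T ht).2 (hc8 t (by simp [hS2, ht])) u hu htu⟩
  refine ((Finset.sum_eq_sum_iff_of_le hlb).mp ?_ u (by simp [hS3, hu])).symm
  rw [Finset.sum_const, smul_eq_mul]
  omega

/-- The values at an element of order 3. -/
def valsU : Fin 10 → ℤ := ![1, 1, 1, 1, 2, -2, -2, -1, 0, 1]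

theorem even_of_sq {r : ℤ} (h : (2 : ℤ) ∣ r) : ∃ k, r = 2 * k := h

/-- The centraliser of an element of order 3 has order 18. -/
theorem three_col_final (T : Table2 f a x) {u : G} (hu : orderOf u = 3) :
    Nat.card (centralizer ({u} : Set G)) = 18 ∧ ∀ i, (f i).1 u = valsU i := by
  classical
  have := Fintype.ofFinite G
  obtain ⟨-, hi, h12⟩ := card_three T
  obtain ⟨t, ht, htu⟩ := exists_invol_commute T hu
  set g := t * u with hg
  have hgo : orderOf g = 6 := by
    rw [hg, htu.orderOf_mul_eq_mul_orderOf_of_coprime (by rw [ht, hu]; norm_num), ht, hu]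
  have t2 : t ^ 2 = 1 := orderOf_dvd_iff_pow_eq_one.mp (ht ▸ dvd_rfl)
  have u3 : u ^ 3 = 1 := orderOf_dvd_iff_pow_eq_one.mp (hu ▸ dvd_rfl)
  have g3 : g ^ 3 = t := by rw [hg, htu.mul_pow, u3, mul_one, pow_succ, t2, one_mul]
  have g4 : g ^ 4 = u := by
    rw [show (4 : ℕ) = 3 + 1 from rfl, pow_succ, g3, hg, ← mul_assoc, ← pow_two, t2, one_mul]
  set C := centralizer ({u} : Set G) with hC'
  have hle : centralizer ({g} : Set G) ≤ C := fun c hc => by
    rw [hC', mem_centralizer_singleton_iff, ← g4]
    exact (Commute.pow_right (show Commute c g from mem_centralizer_singleton_iff.mp hc) 4).eq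
  -- the index of `C(t u)` in `C(u)` is at most three
  have hidx : Nat.card C ≤ 3 * Nat.card (centralizer ({g} : Set G)) := by
    have h := ((centralizer ({g} : Set G)).subgroupOf C).card_mul_index
    rw [Nat.card_congr (subgroupOfEquivOfLe hle).toEquiv] at h
    rw [← h, mul_comm 3]
    refine Nat.mul_le_mul_left _ ?_
    have h3 : Nat.card {s : G // orderOf s = 2 ∧ Commute s u} = 3 := by
      rw [Nat.card_eq_fintype_card, Fintype.card_subtype]; exact hi u hu
    rw [← h3, Subgroup.index_eq_card]
    have hmem : ∀ c : C, Commute (c : G) u := fun c => mem_centralizer_singleton_iff.mp c.2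
    let F : C ⧸ (centralizer ({g} : Set G)).subgroupOf C → {s : G // orderOf s = 2 ∧ Commute s u} :=
      fun q => ⟨(q.out : G) * t * (q.out : G)⁻¹,
        by rw [← isConj_orderOf (isConj_iff.mpr ⟨(q.out : G), rfl⟩)]; exact ht,
        ((hmem _).mul_left htu).mul_left (hmem _).inv_left⟩
    refine Nat.card_le_card_of_injective F fun q r e => ?_
    have e' : (q.out : G) * t * (q.out : G)⁻¹ = (r.out : G) * t * (r.out : G)⁻¹ := congrArg Subtype.val e
    rw [← q.out_eq, ← r.out_eq]
    refine QuotientGroup.eq.mpr (mem_subgroupOf.mpr (mem_centralizer_singleton_iff.mpr ?_))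
    push_cast
    have c1 : Commute ((q.out : G)⁻¹ * r.out) t := by
      show (q.out : G)⁻¹ * r.out * t = t * ((q.out : G)⁻¹ * r.out)
      calc (q.out : G)⁻¹ * r.out * t = (q.out : G)⁻¹ * (r.out * t * (r.out : G)⁻¹) * r.out := by group
        _ = t * ((q.out : G)⁻¹ * r.out) := by rw [← e']; group
    exact (c1.mul_right ((hmem _).inv_left.mul_left (hmem _))).eq
  have h6 : 6 ∣ Nat.card (centralizer ({g} : Set G)) :=
    hgo ▸ Nat.card_zpowers g ▸ card_dvd_of_le (zpowers_le_centralizer g)
  have hd12 : Nat.card (centralizer ({g} : Set G)) ∣ 12 := h12 t u ht hu htu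
  have hdC : Nat.card (centralizer ({g} : Set G)) ∣ Nat.card C := card_dvd_of_le hle
  obtain ⟨w, v, q2, q3, hal, hR, hq2, hq3, hv, hw, hw6, h7, h8, h9, hw3, hv3, hq2', hq3', hRQ, hCu⟩ :=
    T.col_three hu
  obtain ⟨v6, k2, k3, hal6, hR6, hk2, hk3, hv6, hk2', hk3', hC6, pa, pv, pq2, pq3⟩ := T.col_six ht hu htu
  rw [← hg] at hC6 hR6 hk2 hk3
  have pa := pa _ hal
  have pv := pv _ hv
  have pq2 := pq2 _ hq2
  have pq3 := pq3 _ hq3
  have hle12 := Nat.le_of_dvd (by norm_num) hd12
  have hv60 : v6 = 0 := by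
    have : (Nat.card (centralizer ({g} : Set G)) : ℤ) ≤ 12 := by exact_mod_cast hle12
    have h1 : v6 ≤ 2 ∧ -2 ≤ v6 := ⟨by nlinarith, by nlinarith⟩
    omega
  subst hv60
  have hKpos : 0 < Nat.card (centralizer ({g} : Set G)) := Nat.card_pos
  obtain ⟨K, hK⟩ : ∃ K, Nat.card (centralizer ({g} : Set G)) = K := ⟨_, rfl⟩
  rw [hK] at hC6 hdC hidx h6 hd12 hle12 hKpos
  norm_num at hC6
  have hKs : K = 6 ∨ K = 12 := by
    obtain ⟨m, hm⟩ := h6
    omega
  have hCs : Nat.card C = 18 ∧ K = 6 ∨ Nat.card C = 36 ∧ K = 12 := by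
    rcases cent_three_cases T hu with e | e | e | e <;> rw [← hC'] at e <;> rw [e] at hdC hidx ⊢ <;>
      rcases hKs with k | k <;> rw [k] at hdC hidx ⊢ <;> simp at hdC ⊢ <;> omega
  obtain ⟨Cn, hCn⟩ : ∃ n, Nat.card C = n := ⟨_, rfl⟩
  rw [hCn] at hCs
  rw [← hC', hCn] at hCu
  have hwv : w = -2 ∧ v = 2 := by
    have hC36 : (Cn : ℤ) ≤ 36 := by rcases hCs with ⟨e, -⟩ | ⟨e, -⟩ <;> rw [e] <;> norm_num
    have hb : w ≤ 4 ∧ -4 ≤ w ∧ v ≤ 5 ∧ -5 ≤ v := ⟨by nlinarith, by nlinarith, by nlinarith, by nlinarith⟩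
    obtain ⟨b1, b2, b3, b4⟩ := hb
    have w2 : w % 2 = 0 := by omega
    have v2 : v % 2 = 0 := by omega
    rcases (show w = -2 ∨ w = 4 by omega) with rfl | rfl <;>
      rcases (show v = -4 ∨ v = 2 by omega) with rfl | rfl <;> norm_num at hCu ⊢ <;> omega
  obtain ⟨rfl, rfl⟩ := hwv
  norm_num at hal hR hCu hRQ h7 h9 hv hw hw6
  have e0 : (f 0).1 u = 1 := by rw [T.one]; rfl
  rcases hCs with ⟨eC, eK⟩ | ⟨eC, eK⟩
  · rw [eC] at hCu
    rw [eK] at hC6
    push_cast at hCu hC6
    refine ⟨hCn.trans eC, ?_⟩
    have e1 : q2 = 1 := by omega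
    have e1' : q3 = 1 := by omega
    rw [e1] at hq2
    rw [e1'] at hq3
    have hd : ((f 2).1 u - (f 3).1 u) * conj ((f 2).1 u - (f 3).1 u) = 0 := by
      have e : conj ((f 2).1 u) + conj ((f 3).1 u) = 2 := by rw [← map_add, hR]; exact map_ofNat _ 2
      rw [map_sub]
      push_cast at hq2 hq3
      linear_combination -((f 2).1 u + (f 3).1 u) * e - 2 * hR + 2 * hq2 + 2 * hq3
    rw [Complex.mul_conj, Complex.ofReal_eq_zero, Complex.normSq_eq_zero, sub_eq_zero] at hd
    have e3 : (f 3).1 u = 1 := by linear_combination (hR - hd) / 2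
    have e2 : (f 2).1 u = 1 := by rw [hd, e3]
    intro i
    fin_cases i <;> simp [valsU, e0, hal, e2, e3, hv, hw, hw6, h7, h8, h9]
  · exfalso
    rw [eC] at hCu
    rw [eK] at hC6
    push_cast at hCu hC6
    -- an involution inverts `u`
    have hcount := (T.toTable.count_eq t u).resolve_right (fun e => e T.card_G)
    have hRc : conj ((f 2).1 u) + conj ((f 3).1 u) = 2 := by rw [← map_add, hR]; exact map_ofNat _ 2
    rw [show ((Nat.card G : ℕ) : ℂ) = 7920 by rw [T.card_G]; norm_num, T.cent_t t ht] at hcount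
    simp [Fin.sum_univ_succ, T.at_t t ht, valsT, degs, e0, hal, hv, hw, hw6, h7, h8, h9, map_ofNat] at hcount
    have hF : ClassCount.fibreCount t t u ≠ 0 := by
      intro e
      rw [e] at hcount
      push_cast at hcount
      have hc2 : (7920 : ℂ) ^ 2 * (768 / 220) = 0 := by linear_combination -hcount - (7920 : ℂ) ^ 2 * (4 / 10) * hRc
      norm_num at hc2
    obtain ⟨⟨s, hs1, hs2⟩⟩ : Nonempty {s : G // IsConj t s ∧ IsConj t (s⁻¹ * u)} :=
      (Nat.card_pos_iff.mp (Nat.pos_of_ne_zero hF)).1
    have o1 : s * s = 1 := ClassCount.mul_self_eq_one_of_orderOf ((isConj_orderOf hs1).symm.trans ht)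
    have o2 := ClassCount.mul_self_eq_one_of_orderOf ((isConj_orderOf hs2).symm.trans ht)
    have hsi : s⁻¹ = s := inv_eq_of_mul_eq_one_right o1
    have hinv : s * u * s⁻¹ = u⁻¹ := by
      rw [hsi] at o2 ⊢
      exact eq_inv_of_mul_eq_one_left (by rw [← o2]; group)
    have hreal : ∀ i, conj ((f i).1 u) = (f i).1 u := fun i => by
      rw [← Char.IsCharacter.apply_inv (isChar (f i))]
      exact ((Char.isConj_iff_irr _ _).mp (isConj_iff.mpr ⟨s, hinv⟩) (f i)).symm
    rcases T.real_or with hr | hr
    · obtain ⟨b, hb⟩ : ∃ b : ℤ, (f 2).1 g = b := by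
        obtain ⟨k, q, z, r, qu, hk, -⟩ := val_six (isChar (f 2)) (dg_eq (f 2)) t2 u3 htu
        rw [← hg, (hr g).1] at hk
        obtain ⟨b, hb, -⟩ := int_of_rat (k := 2) (a := k) (by norm_num) (isIntegral_apply (isChar (f 2)) g)
          (by push_cast; linear_combination hk)
        exact ⟨b, hb⟩
      have e3 : (f 3).1 g = ((2 - b : ℤ) : ℂ) := by push_cast; rw [← hb]; norm_num at hR6; linear_combination hR6
      rw [(hr g).1, hb] at hk2
      rw [(hr g).2, e3] at hk3
      have k2' : k2 = b * b := by exact_mod_cast hk2.symm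
      have k3' : k3 = (2 - b) * (2 - b) := by exact_mod_cast hk3.symm
      have hb8 : b ≤ 3 ∧ -3 ≤ b := ⟨by nlinarith, by nlinarith⟩
      obtain ⟨b1, b2⟩ := hb8
      interval_cases b <;> omega
    · have e3 : (f 3).1 u = (f 2).1 u := (hr u).trans (hreal 2)
      have e2 : (f 2).1 u = 1 := by linear_combination (hR - e3) / 2
      rw [e2] at hq2
      rw [e3, e2] at hq3
      simp at hq2 hq3
      have k2' : q2 = 1 := by exact_mod_cast hq2.symm
      have k3' : q3 = 1 := by exact_mod_cast hq3.symm
      omega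

/-- The character table data including elements of order 3. -/
structure Table3 (f : Fin 10 → IrrCharacter G) (a x : G) : Prop extends Table2 f a x where
  cent_u : ∀ u : G, orderOf u = 3 → Nat.card (centralizer ({u} : Set G)) = 18
  conj_u : ∀ u v : G, orderOf u = 3 → orderOf v = 3 → IsConj u v
  at_u : ∀ u : G, orderOf u = 3 → ∀ i, (f i).1 u = valsU i
  card_sylow : Nat.card (Sylow 3 G) = 55

theorem exists_table3 (h : Nat.card G = 7920) :
    ∃ (f : Fin 10 → IrrCharacter G) (a x : G), Table3 f a x := by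
  classical
  have := Fintype.ofFinite G
  obtain ⟨f, a, x, T⟩ := exists_table2 h
  have hC : ∀ u : G, orderOf u = 3 → Nat.card (centralizer ({u} : Set G)) = 18 :=
    fun u hu => (three_col_final T hu).1
  obtain ⟨h440, -, -⟩ := card_three T
  have hconj : ∀ u v : G, orderOf u = 3 → orderOf v = 3 → IsConj u v := by
    intro u v hu hv
    have hsub : (Finset.univ.filter fun g : G => IsConj u g) ⊆ Finset.univ.filter fun g : G => orderOf g = 3 := by
      intro g hg
      simp only [Finset.mem_filter, Finset.mem_univ, true_and] at hg ⊢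
      rw [← isConj_orderOf hg, hu]
    have hcl := card_class_three T (hC u hu)
    rw [Nat.card_eq_fintype_card, Fintype.card_subtype] at hcl
    have e := Finset.eq_of_subset_of_card_le hsub (by omega)
    have : v ∈ Finset.univ.filter fun g : G => IsConj u g := by rw [e]; simp [hv]
    exact (Finset.mem_filter.mp this).2
  refine ⟨f, a, x, T, hC, hconj, fun u hu => (three_col_final T hu).2, ?_⟩
  have hP := card_sylow_three_subgroup T
  have h3 : ∀ g : G, g ≠ 1 → (∃ k, g ^ 3 ^ k = 1) → orderOf g = 3 := by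
    rintro g hg ⟨k, hk⟩
    obtain ⟨i, -, hi⟩ := (Nat.dvd_prime_pow Nat.prime_three).mp (orderOf_dvd_of_pow_eq_one hk)
    have hd : 3 ^ i ∣ 7920 := hi ▸ h ▸ orderOf_dvd_natCard g
    have hi2 : i ≤ 2 := by
      by_contra hlt
      have := (pow_dvd_pow 3 (show 3 ≤ i by omega)).trans hd
      norm_num at this
    interval_cases i
    · exact absurd (orderOf_eq_one_iff.mp (by simpa using hi)) hg
    · simpa using hi
    · exact absurd (by simpa using hi) (T.pow_three (y := g))
  have hTI : ∀ P Q : Sylow 3 G, P ≠ Q → (P : Subgroup G) ⊓ (Q : Subgroup G) = ⊥ := by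
    intro P Q hPQ
    by_contra hne
    obtain ⟨⟨u, huPQ⟩, hu1'⟩ := (Subgroup.ne_bot_iff_exists_ne_one).mp hne
    have hu1 : u ≠ 1 := fun e => hu1' (Subtype.ext e)
    obtain ⟨k, hk⟩ := P.isPGroup' ⟨u, huPQ.1⟩
    have hu := h3 u hu1 ⟨k, congrArg Subtype.val hk⟩
    have hle : ∀ R : Sylow 3 G, u ∈ (R : Subgroup G) → (R : Subgroup G) ≤ centralizer ({u} : Set G) := by
      intro R hR g hg
      have hab : IsMulCommutative (R : Subgroup G) :=
        IsPGroup.isMulCommutative_of_card_eq_prime_sq (p := 3) (by rw [hP R]; norm_num)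
      exact mem_centralizer_singleton_iff.mpr
        (congrArg Subtype.val (mul_comm' (⟨g, hg⟩ : (R : Subgroup G)) ⟨u, hR⟩))
    have hidx : ((P : Subgroup G).subgroupOf (centralizer ({u} : Set G))).index = 2 := by
      have := ((P : Subgroup G).subgroupOf (centralizer ({u} : Set G))).card_mul_index
      rw [Nat.card_congr (subgroupOfEquivOfLe (hle P huPQ.1)).toEquiv, hP, hC u hu] at this
      omega
    refine hPQ (Sylow.ext (eq_of_le_of_card_ge (fun q hq => ?_) (by rw [hP, hP])).symm)
    have hsq : q * q ∈ (P : Subgroup G) := mem_subgroupOf.mp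
      (Subgroup.mul_self_mem_of_index_two hidx (⟨q, hle Q huPQ.2 hq⟩ : centralizer ({u} : Set G)))
    by_cases hq1 : q = 1
    · rw [hq1]; exact one_mem _
    obtain ⟨k, hk⟩ := Q.isPGroup' ⟨q, hq⟩
    have hqo := h3 q hq1 ⟨k, congrArg Subtype.val hk⟩
    have hq3 : q ^ 3 = 1 := orderOf_dvd_iff_pow_eq_one.mp (hqo ▸ dvd_rfl)
    have : q = (q * q) * (q * q) := by
      calc q = q ^ 3 * q := by rw [hq3, one_mul]
        _ = (q * q) * (q * q) := by simp [pow_succ, mul_assoc]
    rw [this]; exact mul_mem hsq hsq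
  have hcount := TwoPoint.card_nontrivial_pElements (G := G) (p := 3) hP hTI
  rw [Nat.card_eq_fintype_card, Fintype.card_subtype, show (Finset.univ.filter fun g : G => g ≠ 1 ∧ ∃ k, g ^ 3 ^ k = 1) =
      Finset.univ.filter fun g : G => orderOf g = 3 from Finset.filter_congr fun g _ => ⟨fun e => h3 g e.1 e.2,
        fun e => ⟨fun e1 => by rw [e1, orderOf_one] at e; omega,
          1, orderOf_dvd_iff_pow_eq_one.mp (by rw [e]; norm_num)⟩⟩, h440] at hcount
  omega

end Cfsg.Agent.Order7920
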