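/-
A subgroup of index 12 in a simple group of order 7920.

Main results (namespace `Cfsg.Agent.Order7920`): `exists_pair_generating_proper`, `exists_index_twelve`.
-/
import Cfsg.Agent.Lib.Order7920.Three
import Cfsg.Agent.Lib.Order7920.Scott
import Cfsg.Agent.Lib.SmallOrders.SqSylow

set_option autoImplicit false

open scoped ComplexConjugate

namespace Cfsg.Agent.Order7920

open Cfsg Subgroup SmallOrders

variable {G : Type*} [Group G] [Finite G] {f : Fin 10 → IrrCharacter G} {a x : G}
variable [IsSimpleGroup G] [Fact (Nat.Prime 5)] [Fact (Nat.Prime 11)] [Fact (Nat.Prime 3)]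

/-- An involution and an element of order 3 with product of order 11 generating a proper subgroup. -/
theorem exists_pair_generating_proper (T : Table3 f a x) :
    ∃ t u : G, orderOf t = 2 ∧ orderOf u = 3 ∧ t * u = a ∧ closure ({t, u} : Set G) ≠ ⊤ := by
  classical
  have := Fintype.ofFinite (IrrCharacter G)
  obtain ⟨t, ht⟩ := T.toTable2.exists_involution
  obtain ⟨u, hu⟩ := exists_prime_orderOf_dvd_card' (G := G) 3 (by rw [T.card_G]; norm_num)
  have hcount := ClassCount.card_mul_fibreCount t u a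
  rw [T.toTable.sum_eq] at hcount
  have hc : conj ((f 5).1 a) + conj ((f 6).1 a) = -1 := by rw [← map_add, T.sum_a]; simp
  have hF : ClassCount.fibreCount t u a ≠ 0 := by
    intro e
    rw [e, Nat.cast_zero, mul_zero] at hcount
    simp only [ClassCount.omega, Char.IsCharacter.apply_inv (isChar _), T.at_t t ht, T.at_u u hu] at hcount
    have hK1 : (Nat.card {g : G // IsConj t g} : ℂ) ≠ 0 :=
      Nat.cast_ne_zero.mpr (Nat.card_pos_iff.mpr ⟨⟨⟨t, IsConj.refl t⟩⟩, inferInstance⟩).ne'
    have hK2 : (Nat.card {g : G // IsConj u g} : ℂ) ≠ 0 :=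
      Nat.cast_ne_zero.mpr (Nat.card_pos_iff.mpr ⟨⟨⟨u, IsConj.refl u⟩⟩, inferInstance⟩).ne'
    generalize Nat.card {g : G // IsConj t g} = K1 at *
    generalize Nat.card {g : G // IsConj u g} = K2 at *
    simp [Fin.sum_univ_succ, dg_eq, T.deg, degs, valsT, valsU, valsA, T.at_a, map_ofNat] at hcount
    have : (6 / 5 : ℂ) * ((K1 : ℂ) * K2) = 0 := by
      have hc' := hc
      field_simp at hcount ⊢
      linear_combination (-1 / 2 : ℂ) * hcount
    exact mul_ne_zero (by norm_num) (mul_ne_zero hK1 hK2) this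
  obtain ⟨⟨t', h1, h2⟩⟩ : Nonempty {g : G // IsConj t g ∧ IsConj u (g⁻¹ * a)} :=
    (Nat.card_pos_iff.mp (Nat.pos_of_ne_zero hF)).1
  have ht' : orderOf t' = 2 := (isConj_orderOf h1).symm.trans ht
  have hu' : orderOf (t'⁻¹ * a) = 3 := (isConj_orderOf h2).symm.trans hu
  refine ⟨t', t'⁻¹ * a, ht', hu', mul_inv_cancel_left _ _, ?_⟩
  obtain ⟨d, ρ, hirr, hρ⟩ := (f 4).2
  have hd : d = 11 := by
    have h := dg_eq (f 4)
    rw [T.deg, ← hρ, Representation.char_one, Module.finrank_fin_fun] at h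
    exact_mod_cast h
  have t2 : t' ^ 2 = 1 := orderOf_dvd_iff_pow_eq_one.mp (ht' ▸ dvd_rfl)
  have u3 : (t'⁻¹ * a) ^ 3 = 1 := orderOf_dvd_iff_pow_eq_one.mp (hu' ▸ dvd_rfl)
  have a11 : a⁻¹ ^ 11 = 1 := orderOf_dvd_iff_pow_eq_one.mp (by rw [orderOf_inv, T.ord_a])
  have v1 : (f 4).1 1 = 11 := by rw [dg_eq, T.deg]; simp [degs]
  have r1 := rank_le_of_sum ρ (by norm_num : 0 < 2) t2 (m := 7) (by
    rw [hρ]
    simp [Finset.sum_range_succ, v1, T.at_t t' ht' 4, valsT]; norm_num)
  have r2 := rank_le_of_sum ρ (by norm_num : 0 < 3) u3 (m := 5) (by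
    rw [hρ]
    have e2 : (f 4).1 ((t'⁻¹ * a) ^ 2) = valsU 4 :=
      T.at_u _ (by rw [orderOf_pow (t'⁻¹ * a), hu']; norm_num) 4
    simp [Finset.sum_range_succ, v1, T.at_u _ hu' 4, e2, valsU]; norm_num)
  have r3 := rank_le_of_sum ρ (by norm_num : 0 < 11) a11 (m := 1) (by
    rw [hρ]
    have key : ∀ k, k < 11 → k ≠ 0 → (f 4).1 (a⁻¹ ^ k) = 0 := by
      intro k hk hk0
      obtain ⟨h2, h3, h4, h5, h6, h7, h8, h9, h10⟩ := class_eleven T.card_G (a := a⁻¹)
        (by rw [orderOf_inv, T.ord_a]) (f 4)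
      have h1 : (f 4).1 a⁻¹ = 0 := by
        rw [Char.IsCharacter.apply_inv (isChar (f 4)), T.at_a 4 (by decide) (by decide)]; simp [valsA]
      interval_cases k <;> simp_all
    rw [Finset.sum_eq_single 0 (fun k hk hk0 => key k (Finset.mem_range.mp hk) hk0)
      (fun h => absurd (Finset.mem_range.mpr (by norm_num)) h), pow_zero, v1]
    norm_num)
  refine closure_ne_top_of_rank ρ (z := a⁻¹) (by group) (fun e => ?_) (by omega)
  have hne : (f 4) ≠ oneChar G := fun e => by
    have := T.deg 4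
    rw [e, dg_one] at this
    simp [degs] at this
  have : t' = 1 := eq_one_of_apply_eq (not_comm T.card_G) (f 4).2 (val_ne_one_of_ne T.card_G hne) (by
    rw [← hρ, Representation.character, Representation.character, e, map_one ρ])
  rw [this, orderOf_one] at ht'
  omega

/-- A subgroup of index 12 containing an element of order 11. -/
theorem exists_index_twelve (T : Table3 f a x) :
    ∃ H : Subgroup G, a ∈ H ∧ H.index = 12 ∧ Nat.card H = 660 := by
  classical
  have hG := not_comm T.card_G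
  obtain ⟨t, u, ht, hu, htu, hne⟩ := exists_pair_generating_proper T
  set H := closure ({t, u} : Set G) with hH
  have htH : t ∈ H := subset_closure (by simp)
  have huH : u ∈ H := subset_closure (by simp)
  have haH : a ∈ H := htu ▸ mul_mem htH huH
  refine ⟨H, haH, ?_⟩
  have h2 : 2 ∣ Nat.card H := ht ▸ H.orderOf_dvd_natCard htH
  have h3 : 3 ∣ Nat.card H := hu ▸ H.orderOf_dvd_natCard huH
  have h11 : 11 ∣ Nat.card H := T.ord_a ▸ H.orderOf_dvd_natCard haH
  have hmul := H.card_mul_index
  rw [T.card_G] at hmul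
  have hfac := two_mul_card_dvd_factorial_index hG hne
  rw [T.card_G] at hfac
  have h66 : 66 ∣ Nat.card H :=
    Nat.Coprime.mul_dvd_of_dvd_of_dvd (m := 6) (n := 11) (by norm_num)
      (Nat.Coprime.mul_dvd_of_dvd_of_dvd (m := 2) (n := 3) (by norm_num) h2 h3) h11
  obtain ⟨m, hm⟩ := h66
  have hidx : 12 ≤ H.index := by
    by_contra hlt
    have hlt' : H.index < 12 := by omega
    generalize H.index = i at *
    interval_cases i <;> first | omega | (revert hfac; decide +kernel)
  have hm10 : m ≤ 10 := by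
    by_contra hlt
    have : 726 * 12 ≤ Nat.card H * H.index := Nat.mul_le_mul (by omega) hidx
    omega
  -- Sylow 11-subgroups of `H`
  have hfacH : Nat.card H = 11 ^ 1 * (6 * m) := by rw [hm]; ring
  have hnd : ¬ 11 ∣ 6 * m := by
    intro hd
    have h0 : 0 < m := Nat.pos_of_ne_zero fun e => (Nat.card_pos (α := H)).ne' (by rw [hm, e])
    omega
  have hQ : ∀ Q : Sylow 11 H, Nat.card (Q : Subgroup H) = 11 := fun Q => by
    rw [card_sylow_subgroup hfacH hnd Q, pow_one]
  obtain ⟨Q, hQa⟩ := exists_sylow_eq_zpowers hQ (g := (⟨a, haH⟩ : H)) (by rw [Subgroup.orderOf_mk, T.ord_a])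
  have hN := card_normalizer_mul_card_sylow Q
  have hn : Nat.card (Sylow 11 H) % 11 = 1 := card_sylow_modEq_one 11 H
  obtain ⟨-, N, hN55, -, -, hmem⟩ := eleven_aux T.card_G T.ord_a
  have hNle : (normalizer ((Q : Subgroup H) : Set H)).map H.subtype ≤ N := by
    rintro _ ⟨g, hg, rfl⟩
    refine hmem _ ?_
    have h1 := (mem_normalizer_iff.mp hg (⟨a, haH⟩ : H)).mp (by rw [hQa]; exact mem_zpowers _)
    rw [hQa] at h1
    obtain ⟨i, hi⟩ := mem_zpowers_iff.mp h1
    exact mem_zpowers_iff.mpr ⟨i, congrArg Subtype.val hi⟩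
  have hNd := card_dvd_of_le hNle
  rw [card_map_of_injective H.subtype_injective, hN55] at hNd
  have h11N : 11 ∣ Nat.card (normalizer ((Q : Subgroup H) : Set H)) :=
    (hQ Q).symm.dvd.trans (card_dvd_of_le le_normalizer)
  have hN11 : Nat.card (normalizer ((Q : Subgroup H) : Set H)) = 11 ∨
      Nat.card (normalizer ((Q : Subgroup H) : Set H)) = 55 := by
    obtain ⟨r, hr⟩ := h11N
    rw [hr] at hNd ⊢
    have := Nat.le_of_dvd (by norm_num) (Nat.dvd_of_mul_dvd_mul_left (by norm_num) (show 11 * r ∣ 11 * 5 from hNd))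
    interval_cases r <;> omega
  rw [hm] at hN hmul ⊢
  have hm' : m = 2 ∨ m = 10 := by
    rcases hN11 with e | e <;> rw [e] at hN <;> interval_cases m <;> omega
  rcases hm' with rfl | rfl
  · exfalso
    have e : Nat.card (normalizer ((Q : Subgroup H) : Set H)) = 11 := by
      rcases hN11 with e | e
      · exact e
      · rw [e] at hN; omega
    have hn12 : Nat.card (Sylow 11 H) = 12 := by rw [e] at hN; omega
    have hab : IsMulCommutative (Q : Subgroup H) := by rw [hQa]; infer_instance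
    obtain ⟨K, hKn, hK⟩ := exists_normal_complement Q hab (by
      rw [hn12, index_sylow hfacH hnd Q])
    rw [index_sylow hfacH hnd Q] at hK
    have : Fact (Nat.Prime 2) := ⟨Nat.prime_two⟩
    obtain ⟨w, hw⟩ := exists_prime_orderOf_dvd_card' (G := K) 3 (by rw [hK]; norm_num)
    obtain ⟨v, hv⟩ := exists_prime_orderOf_dvd_card' (G := K) 2 (by rw [hK]; norm_num)
    set A : H := ⟨a, haH⟩
    let F : Fin 11 → {k : K // orderOf k = 3} := fun i =>
      ⟨⟨A ^ (i : ℕ) * (w : H) * (A ^ (i : ℕ))⁻¹, hKn.conj_mem _ w.2 _⟩, by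
        rw [← Subgroup.orderOf_coe, ← isConj_orderOf (isConj_iff.mpr ⟨A ^ (i : ℕ), rfl⟩), Subgroup.orderOf_coe, hw]⟩
    have hA : orderOf A = 11 := by rw [Subgroup.orderOf_mk, T.ord_a]
    have hF : Function.Injective F := by
      intro i j e
      by_contra hij
      have e' : A ^ (i : ℕ) * (w : H) * (A ^ (i : ℕ))⁻¹ = A ^ (j : ℕ) * (w : H) * (A ^ (j : ℕ))⁻¹ :=
        congrArg (fun z => ((z.1 : K) : H)) e
      set c := (A ^ (j : ℕ))⁻¹ * A ^ (i : ℕ) with hc
      have hcw : c * (w : H) = (w : H) * c := by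
        calc c * (w : H) = (A ^ (j : ℕ))⁻¹ * (A ^ (i : ℕ) * (w : H) * (A ^ (i : ℕ))⁻¹) * A ^ (i : ℕ) := by
              rw [hc]; group
          _ = (w : H) * c := by rw [e', hc]; group
      have hco : orderOf c = 11 := by
        refine orderOf_eq_prime ?_ ?_
        · have hAc : Commute ((A ^ (j : ℕ))⁻¹) (A ^ (i : ℕ)) :=
            ((Commute.refl A).pow_pow _ _).inv_left
          have hA11 : A ^ 11 = 1 := orderOf_dvd_iff_pow_eq_one.mp (hA ▸ dvd_rfl)
          rw [hc, hAc.mul_pow, inv_pow, ← pow_mul, ← pow_mul, mul_comm (j : ℕ), mul_comm (i : ℕ), pow_mul,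
            pow_mul, hA11]
          simp
        · intro hc1
          rw [hc, inv_mul_eq_one] at hc1
          exact hij (Fin.ext (pow_injOn_Iio_orderOf (Set.mem_Iio.mpr (by rw [hA]; exact i.isLt))
            (Set.mem_Iio.mpr (by rw [hA]; exact j.isLt)) hc1.symm))
      have := orderOf_dvd_eleven T.card_G (a := (c : G)) (g := ((w : H) : G))
        (by rw [Subgroup.orderOf_coe, hco]) (congrArg Subtype.val hcw).symm
      rw [Subgroup.orderOf_coe, Subgroup.orderOf_coe, hw] at this
      norm_num at this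
    have := Fintype.ofFinite K
    have h1 := Nat.card_le_card_of_injective F hF
    rw [Nat.card_fin, Nat.card_eq_fintype_card, Fintype.card_subtype] at h1
    have h2 : (Finset.univ.filter fun k : K => orderOf k = 3) ⊆ (Finset.univ.erase v).erase 1 := by
      intro k hk
      simp only [Finset.mem_filter, Finset.mem_univ, true_and] at hk
      refine Finset.mem_erase.mpr ⟨fun e => ?_, Finset.mem_erase.mpr ⟨fun e => ?_, Finset.mem_univ _⟩⟩
      · rw [e, orderOf_one] at hk; omega
      · rw [e, hv] at hk; omega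
    have h3 := Finset.card_le_card h2
    rw [Finset.card_erase_of_mem (Finset.mem_erase.mpr ⟨fun e => by rw [← e, orderOf_one] at hv; omega,
      Finset.mem_univ _⟩), Finset.card_erase_of_mem (Finset.mem_univ _), Finset.card_univ,
      ← Nat.card_eq_fintype_card, hK] at h3
    omega
  · constructor <;> omega

end Cfsg.Agent.Order7920
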