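/-
A simple group of order 7920 as a permutation group of degree 12 with normalised generators.

Main results (namespace `Cfsg.Agent.Order7920`): `aP`, `xP`, `cand`, `exists_embedding`, `order_exclusion`.
-/
import Cfsg.Agent.Lib.Order7920.Subgroup12

set_option autoImplicit false

namespace Cfsg.Agent.Order7920

open Cfsg Subgroup SmallOrders

/-- The translation on the first eleven points. -/
def aP : Equiv.Perm (Fin 12) :=
  ⟨![1, 2, 3, 4, 5, 6, 7, 8, 9, 10, 0, 11], ![10, 0, 1, 2, 3, 4, 5, 6, 7, 8, 9, 11],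
    by decide +kernel, by decide +kernel⟩

/-- Multiplication by four on the first eleven points. -/
def xP : Equiv.Perm (Fin 12) :=
  ⟨![0, 4, 8, 1, 5, 9, 2, 6, 10, 3, 7, 11], ![0, 3, 6, 9, 1, 4, 7, 10, 2, 5, 8, 11],
    by decide +kernel, by decide +kernel⟩

/-- The candidates for an element interchanging the two fixed points of `xP`. -/
def tP : Fin 10 → Fin 12 → Fin 12 :=
  ![![11, 1, 2, 9, 5, 3, 7, 8, 10, 4, 6, 0], ![11, 1, 8, 9, 5, 3, 6, 10, 7, 4, 2, 0],
    ![11, 1, 10, 9, 5, 3, 2, 7, 6, 4, 8, 0], ![11, 1, 7, 9, 5, 3, 8, 6, 2, 4, 10, 0],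
    ![11, 1, 6, 9, 5, 3, 10, 2, 8, 4, 7, 0], ![11, 2, 1, 7, 10, 6, 9, 4, 5, 8, 3, 0],
    ![11, 2, 4, 7, 10, 6, 3, 5, 9, 8, 1, 0], ![11, 2, 5, 7, 10, 6, 1, 9, 3, 8, 4, 0],
    ![11, 2, 9, 7, 10, 6, 4, 3, 1, 8, 5, 0], ![11, 2, 3, 7, 10, 6, 5, 1, 4, 8, 9, 0]]

/-- The inverses of the candidates. -/
def tI : Fin 10 → Fin 12 → Fin 12 :=
  ![![11, 1, 2, 5, 9, 4, 10, 6, 7, 3, 8, 0], ![11, 1, 10, 5, 9, 4, 6, 8, 2, 3, 7, 0],
    ![11, 1, 6, 5, 9, 4, 8, 7, 10, 3, 2, 0], ![11, 1, 8, 5, 9, 4, 7, 2, 6, 3, 10, 0],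
    ![11, 1, 7, 5, 9, 4, 2, 10, 8, 3, 6, 0], ![11, 2, 1, 10, 7, 8, 5, 3, 9, 6, 4, 0],
    ![11, 10, 1, 6, 2, 7, 5, 3, 9, 8, 4, 0], ![11, 6, 1, 8, 10, 2, 5, 3, 9, 7, 4, 0],
    ![11, 8, 1, 7, 6, 10, 5, 3, 9, 2, 4, 0], ![11, 7, 1, 2, 8, 6, 5, 3, 9, 10, 4, 0]]

theorem tI_tP : ∀ k i, tI k (tP k i) = i := by decide +kernel

theorem tP_tI : ∀ k i, tP k (tI k i) = i := by decide +kernel

/-- The candidates as permutations. -/
def cand (k : Fin 10) : Equiv.Perm (Fin 12) := ⟨tP k, tI k, tI_tP k, tP_tI k⟩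

/-- The map determined by the images of `1` and `2`. -/
def build (u v : Fin 12) : Fin 12 → Fin 12 :=
  ![11, (⟨(1 * u.val) % 11, by omega⟩), ⟨(1 * v.val) % 11, by omega⟩, ⟨(9 * u.val) % 11, by omega⟩,
    ⟨(5 * u.val) % 11, by omega⟩, ⟨(3 * u.val) % 11, by omega⟩, ⟨(9 * v.val) % 11, by omega⟩,
    ⟨(4 * v.val) % 11, by omega⟩, ⟨(5 * v.val) % 11, by omega⟩, ⟨(4 * u.val) % 11, by omega⟩,
    ⟨(3 * v.val) % 11, by omega⟩, 0]

theorem build_cases : ∀ u v : Fin 12, (u = 1 ∨ u = 2) → (∀ i j, build u v i = build u v j → i = j) →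
    ∃ k, ∀ i, build u v i = tP k i := by
  decide +kernel

theorem pow_fix {K X : Type*} [Group K] [MulAction K X] {s : K} {p : X} (hp : s • p = p) (i : ℕ) :
    s ^ i • p = p :=
  MulAction.mem_stabilizer_iff.mp (Subgroup.pow_mem _ (MulAction.mem_stabilizer_iff.mpr hp) i)

theorem zpow_fix {K X : Type*} [Group K] [MulAction K X] {s : K} {p : X} (hp : s • p = p) (i : ℤ) :
    s ^ i • p = p :=
  MulAction.mem_stabilizer_iff.mp (Subgroup.zpow_mem _ (MulAction.mem_stabilizer_iff.mpr hp) i)

theorem fixed_of_conj {K X : Type*} [Group K] [MulAction K X] {g s : K} {p : X} {i : ℕ}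
    (h : g * s ^ i = s * g) (hp : s • p = p) : s • (g • p) = g • p := by
  rw [← mul_smul, ← h, mul_smul, pow_fix hp]

theorem xP_twice : ∀ w : Fin 12, w ≠ 11 → (xP (xP w)).val = (5 * w.val) % 11 := by decide +kernel

variable {G : Type*} [Group G] [Finite G] [IsSimpleGroup G] [Fact (Nat.Prime 5)] [Fact (Nat.Prime 11)]
  [Fact (Nat.Prime 3)] {f : Fin 10 → IrrCharacter G} {a x : G}

/-- Restrictions on orders of elements. -/
theorem order_exclusion (T : Table3 f a x) (g : G) :
    orderOf g ∣ 7920 ∧ ¬ 9 ∣ orderOf g ∧ orderOf g ≠ 10 ∧ orderOf g ≠ 12 := by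
  refine ⟨T.card_G ▸ orderOf_dvd_natCard g, fun h9 => ?_, fun h10 => ?_, fun h12 => ?_⟩
  · exact T.toTable2.pow_three (orderOf_pow_orderOf_div (orderOf_pos g).ne' h9)
  · have hy : orderOf (g ^ 2) = 5 := by rw [orderOf_pow g, h10]; norm_num
    have := orderOf_dvd_of_centralizer (card_centralizer_five T.card_G T.ord_a hy)
      ((Commute.refl g).pow_right 2).eq
    rw [h10] at this
    norm_num at this
  · have hy : orderOf (g ^ 4) = 3 := by rw [orderOf_pow g, h12]; norm_num
    have := orderOf_dvd_of_centralizer (T.cent_u _ hy) ((Commute.refl g).pow_right 4).eq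
    rw [h12] at this
    norm_num at this

/-- A faithful action of degree 12 in which `a`, `x` and some `g` act by normalised permutations. -/
theorem exists_embedding (T : Table3 f a x) :
    ∃ (φ : G →* Equiv.Perm (Fin 12)) (x' g : G) (k : Fin 10), Function.Injective φ ∧
      orderOf x' = 5 ∧ φ a = aP ∧ φ x' = xP ∧ φ g = cand k := by
  classical
  have hG := not_comm T.card_G
  obtain ⟨H, haH, hidx, hH⟩ := exists_index_twelve T
  have hcard : Nat.card (G ⧸ H) = 12 := hidx ▸ (Subgroup.index_eq_card H).symm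
  have hfaith : ∀ w : G, (∀ p : G ⧸ H, w • p = p) → w = 1 := by
    intro w hw
    have hker : (MulAction.toPermHom G (G ⧸ H)).ker = ⊥ := by
      rw [← Subgroup.normalCore_eq_ker]
      exact normalCore_eq_bot fun e => by rw [e, index_top] at hidx; omega
    have : w ∈ (MulAction.toPermHom G (G ⧸ H)).ker := Equiv.Perm.ext hw
    rwa [hker, mem_bot] at this
  have := Fintype.ofFinite (G ⧸ H)
  -- the fixed point of `a`
  set o : G ⧸ H := ((1 : G) : G ⧸ H) with ho
  have hao : a • o = o := by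
    rw [ho, MulAction.Quotient.smul_coe, smul_eq_mul, mul_one]
    exact QuotientGroup.eq.mpr (by simpa using H.inv_mem haH)
  have hafix : ∀ p : G ⧸ H, a • p = p → p = o := by
    intro p hp
    by_contra hpo
    have hz : Nat.card (zpowers a) = 11 ^ 1 := by rw [Nat.card_zpowers, T.ord_a, pow_one]
    have hm := (IsPGroup.of_card (p := 11) hz).card_modEq_card_fixedPoints (G ⧸ H)
    rw [hcard] at hm
    have hfix : ∀ q : G ⧸ H, q ∈ MulAction.fixedPoints (zpowers a) (G ⧸ H) ↔ a • q = q := by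
      intro q
      refine ⟨fun hq => hq ⟨a, mem_zpowers a⟩, fun hq w => ?_⟩
      obtain ⟨i, hi⟩ := mem_zpowers_iff.mp w.2
      show (w : G) • q = q
      rw [← hi]
      exact zpow_fix hq i
    rw [Nat.card_eq_fintype_card, Fintype.card_subtype] at hm
    set S := Finset.univ.filter fun q => q ∈ MulAction.fixedPoints (zpowers a) (G ⧸ H)
    have h2 : 2 ≤ S.card := Finset.one_lt_card.mpr
      ⟨p, by simp [S, hfix, hp], o, by simp [S, hfix, hao], hpo⟩
    have h12 : S.card ≤ 12 := hcard ▸ Nat.card_eq_fintype_card (α := G ⧸ H) ▸ Finset.card_le_univ S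
    have hall : S = Finset.univ := Finset.eq_univ_of_card _ (by
      rw [← Nat.card_eq_fintype_card, hcard]
      unfold Nat.ModEq at hm
      omega)
    have := hfaith a fun q => (hfix q).mp (by
      have := hall ▸ Finset.mem_univ q
      simpa [S] using this)
    have ha := T.ord_a
    rw [this, orderOf_one] at ha
    omega
  -- an element of order 5 normalising `a`
  have ha11 : a ^ 11 = 1 := orderOf_dvd_iff_pow_eq_one.mp (T.ord_a.symm ▸ dvd_rfl)
  obtain ⟨c, hc⟩ := isConj_iff.mp (isConj_pow_eleven T.card_G T.ord_a (k := 4) (Or.inr (Or.inr (Or.inl rfl))))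
  obtain ⟨-, N, hN55, -, -, hmem⟩ := eleven_aux T.card_G T.ord_a
  have hcN : c ∈ N := hmem c (by rw [hc]; exact pow_mem (mem_zpowers a) 4)
  set x' := c ^ 11 with hx'
  have hx5 : x' ^ 5 = 1 := by
    rw [hx', ← pow_mul]
    exact orderOf_dvd_iff_pow_eq_one.mp ((N.orderOf_dvd_natCard hcN).trans (dvd_of_eq hN55))
  have hxa : x' * a * x'⁻¹ = a ^ 4 := by
    rw [hx', conj_pow_iterate hc, pow_eq_pow_iff_modEq, T.ord_a]
    decide +kernel
  have hxne : x' ≠ 1 := fun e => by
    rw [e] at hxa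
    simp only [one_mul, inv_one, mul_one] at hxa
    have h' : a ^ 1 = a ^ 4 := by rw [pow_one]; exact hxa
    rw [pow_eq_pow_iff_modEq, T.ord_a] at h'
    exact absurd h' (by decide)
  have hxo : orderOf x' = 5 := orderOf_eq_prime hx5 hxne
  have hxo' : x' • o = o := by
    refine hafix _ (fixed_of_conj (i := 3) ?_ hao)
    have e : x' * a ^ 3 * x'⁻¹ = a := by
      rw [← conj_pow, hxa, ← pow_mul, pow_eq_pow_mod (4 * 3) ha11]; simp
    exact mul_inv_eq_iff_eq_mul.mp e
  -- another fixed point of `x'`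
  obtain ⟨p, hp, hpo⟩ : ∃ p : G ⧸ H, x' • p = p ∧ p ≠ o := by
    have hz : Nat.card (zpowers x') = 5 ^ 1 := by rw [Nat.card_zpowers, hxo, pow_one]
    have hm := (IsPGroup.of_card (p := 5) hz).card_modEq_card_fixedPoints (G ⧸ H)
    rw [hcard] at hm
    by_contra hno
    push Not at hno
    have : MulAction.fixedPoints (zpowers x') (G ⧸ H) = {o} := by
      ext q
      refine ⟨fun hq => hno q (hq ⟨x', mem_zpowers x'⟩), fun hq w => ?_⟩
      obtain ⟨i, hi⟩ := mem_zpowers_iff.mp w.2
      show (w : G) • q = q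
      rw [← hi, show q = o from hq]
      exact zpow_fix hxo' i
    rw [this, Nat.card_coe_set_eq, Set.ncard_singleton] at hm
    exact absurd hm (by decide)
  -- labels
  let lab : Fin 12 → G ⧸ H := fun i => if i.val = 11 then o else a ^ i.val • p
  have hinj : Function.Injective lab := by
    have hpa : ∀ n : ℕ, a ^ n • p = p → 11 ∣ n := fun n hn => by
      by_contra hnd
      refine hpo (hafix p ?_)
      have hmem : a ∈ zpowers (a ^ n) := by
        obtain ⟨m, hm⟩ := exists_pow_eq_self_of_coprime (x := a) (n := n)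
          (by rw [T.ord_a]; exact ((Fact.out : Nat.Prime 11).coprime_iff_not_dvd.mpr hnd).symm)
        exact mem_zpowers_iff.mpr ⟨(m : ℤ), by rw [zpow_natCast]; exact hm⟩
      obtain ⟨i, hi⟩ := mem_zpowers_iff.mp hmem
      rw [← hi]
      exact zpow_fix hn i
    have hne : ∀ n : ℕ, a ^ n • p ≠ o := fun n hn => hpo (by
      have : p = (a ^ n)⁻¹ • o := eq_inv_smul_iff.mpr hn
      rw [this, inv_smul_eq_iff]
      exact (pow_fix hao n).symm)
    intro i j hij
    simp only [lab] at hij
    apply Fin.ext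
    split_ifs at hij with h1 h2 h2
    · omega
    · exact absurd hij.symm (hne _)
    · exact absurd hij (hne _)
    · rcases le_total i.val j.val with hle | hle
      · have := hpa (j.val - i.val) (MulAction.injective (a ^ i.val) (by
          show a ^ i.val • (a ^ (j.val - i.val) • p) = a ^ i.val • p
          rw [← mul_smul, ← pow_add, Nat.add_sub_cancel' hle, ← hij]))
        omega
      · have := hpa (i.val - j.val) (MulAction.injective (a ^ j.val) (by
          show a ^ j.val • (a ^ (i.val - j.val) • p) = a ^ j.val • p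
          rw [← mul_smul, ← pow_add, Nat.add_sub_cancel' hle, hij]))
        omega
  have hbij : Function.Bijective lab := (Nat.bijective_iff_injective_and_card lab).mpr
    ⟨hinj, by rw [hcard, Nat.card_fin]⟩
  let e : (G ⧸ H) ≃ Fin 12 := (Equiv.ofBijective lab hbij).symm
  let φ : G →* Equiv.Perm (Fin 12) :=
    (e.permCongrHom).toMonoidHom.comp (MulAction.toPermHom G (G ⧸ H))
  have hφ : ∀ (w : G) (i j : Fin 12), w • lab i = lab j → φ w i = j := fun w i j h => by
    show e (w • e.symm i) = j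
    rw [show e.symm i = lab i from rfl, h]
    exact e.apply_symm_apply j
  have hφ' : ∀ (w : G) (i : Fin 12), w • lab i = lab (φ w i) := fun w i => by
    obtain ⟨j, hj⟩ := hbij.2 (w • lab i)
    rw [hφ w i j hj.symm, hj]
  have hφinj : Function.Injective φ := by
    refine (injective_iff_map_eq_one φ).mpr fun w hw => hfaith w fun q => ?_
    obtain ⟨i, rfl⟩ := hbij.2 q
    rw [hφ', hw]
    rfl
  have hlab11 : lab 11 = o := if_pos rfl
  have hlab : ∀ i : Fin 12, i.val ≠ 11 → lab i = a ^ i.val • p := fun i hi => if_neg hi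
  have hφa : φ a = aP := by
    refine Equiv.ext fun i => hφ a i _ ?_
    by_cases hi : i.val = 11
    · rw [show i = 11 from Fin.ext hi, show aP 11 = 11 from by decide, hlab11, hao]
    · have hv : ∀ i : Fin 12, i.val ≠ 11 → (aP i).val = (i.val + 1) % 11 ∧ (aP i).val ≠ 11 := by decide +kernel
      obtain ⟨h1, h2⟩ := hv i hi
      rw [hlab i hi, hlab _ h2, h1, ← mul_smul, ← pow_succ', pow_eq_pow_mod (i.val + 1) ha11]
  have hφx : φ x' = xP := by
    refine Equiv.ext fun i => hφ x' i _ ?_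
    by_cases hi : i.val = 11
    · rw [show i = 11 from Fin.ext hi, show xP 11 = 11 from by decide, hlab11, hxo']
    · have hv : ∀ i : Fin 12, i.val ≠ 11 → (xP i).val = (4 * i.val) % 11 ∧ (xP i).val ≠ 11 := by decide +kernel
      obtain ⟨h1, h2⟩ := hv i hi
      have e1 : x' * a ^ i.val = a ^ (4 * i.val) * x' := by
        rw [← mul_inv_eq_iff_eq_mul, ← conj_pow, hxa, pow_mul]
      rw [hlab i hi, hlab _ h2, h1, ← mul_smul, e1, mul_smul, hp, pow_eq_pow_mod (4 * i.val) ha11]
  have hxfix : ∀ i, φ x' i = i → i = 0 ∨ i = 11 := by rw [hφx]; decide +kernel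
  -- an element squaring `x'` under conjugation
  have hC5 := card_centralizer_five T.card_G T.ord_a hxo
  obtain ⟨g, hg⟩ : ∃ g, g * x' * g⁻¹ = x' ^ 2 :=
    isConj_iff.mp (((card_centralizer_five_aux T.card_G hxo).resolve_left (by rw [hC5]; norm_num)).2 2
      (by norm_num) (by norm_num))
  have hgfix : ∀ i, φ x' i = i → φ x' (φ g i) = φ g i := by
    intro i hi
    have e : g * x' ^ 3 * g⁻¹ = x' := by
      rw [← conj_pow, hg, ← pow_mul, pow_eq_pow_mod (2 * 3) hx5]; simp
    have hh : φ g * φ x' ^ 3 = φ x' * φ g := by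
      rw [← map_pow, ← map_mul, ← map_mul, mul_inv_eq_iff_eq_mul.mp e]
    exact fixed_of_conj (K := Equiv.Perm (Fin 12)) (X := Fin 12) (i := 3) hh hi
  have h11 : φ x' 11 = 11 := by rw [hφx]; rfl
  have h00 : φ x' 0 = 0 := by rw [hφx]; rfl
  have hg11 : φ g 11 = 0 := by
    refine (hxfix _ (hgfix 11 h11)).resolve_right fun e => ?_
    have hgo : g • o = o := by rw [← hlab11, hφ' g 11, e]
    have hmemH : ∀ w : G, w • o = o → w ∈ H := fun w hw => by
      rw [ho, MulAction.Quotient.smul_coe, smul_eq_mul, mul_one, QuotientGroup.eq, mul_one] at hw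
      exact inv_inv w ▸ H.inv_mem hw
    have hgH := hmemH g hgo
    have hxH := hmemH x' hxo'
    have hg4c : g ^ 4 * x' = x' * g ^ 4 := by
      have := conj_pow_iterate hg 4
      rw [pow_eq_pow_mod (2 ^ 4) hx5, show 2 ^ 4 % 5 = 1 from rfl, pow_one] at this
      exact mul_inv_eq_iff_eq_mul.mp this
    -- a Sylow 5-normaliser in `H` of order divisible by 20
    have hfacH : Nat.card H = 5 ^ 1 * 132 := by rw [hH]; norm_num
    have hQ : ∀ Q : Sylow 5 H, Nat.card (Q : Subgroup H) = 5 := fun Q => by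
      rw [card_sylow_subgroup hfacH (by norm_num) Q, pow_one]
    obtain ⟨Q, hQx⟩ := exists_sylow_eq_zpowers hQ (g := (⟨x', hxH⟩ : H)) (by rw [Subgroup.orderOf_mk, hxo])
    have hn : Nat.card (Sylow 5 H) % 5 = 1 := card_sylow_modEq_one 5 H
    have hN := card_normalizer_mul_card_sylow Q
    have hgN : (⟨g, hgH⟩ : H) ∈ normalizer ((Q : Subgroup H) : Set H) := by
      rw [hQx]
      refine mem_normalizer_fintype fun y hy => ?_
      obtain ⟨i, rfl⟩ := mem_zpowers_iff.mp hy
      rw [← conj_zpow]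
      refine zpow_mem ?_ i
      rw [show (⟨g, hgH⟩ : H) * ⟨x', hxH⟩ * (⟨g, hgH⟩ : H)⁻¹ = (⟨x', hxH⟩ : H) ^ 2 from
        Subtype.ext (by simpa using hg)]
      exact pow_mem (mem_zpowers _) 2
    have h5N : 5 ∣ Nat.card (normalizer ((Q : Subgroup H) : Set H)) :=
      (hQ Q).symm.dvd.trans (card_dvd_of_le le_normalizer)
    have h4N : 4 ∣ orderOf g := by
      by_contra h4
      have hdvd : orderOf g ∣ 4 * 5 := by
        have hg20 : (g ^ 4) ^ 5 = 1 := orderOf_dvd_iff_pow_eq_one.mp
          (orderOf_dvd_of_centralizer hC5 hg4c)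
        exact orderOf_dvd_of_pow_eq_one (by rw [pow_mul]; exact hg20)
      have h10 : orderOf g ∣ 10 := by
        have := Nat.le_of_dvd (by norm_num) hdvd
        generalize orderOf g = n at *
        interval_cases n <;> omega
      have := conj_pow_iterate hg 10
      rw [orderOf_dvd_iff_pow_eq_one.mp h10, one_mul, inv_one, mul_one, pow_eq_pow_mod (2 ^ 10) hx5,
        show 2 ^ 10 % 5 = 4 from rfl] at this
      have h' : x' ^ 1 = x' ^ 4 := by rw [pow_one]; exact this
      rw [pow_eq_pow_iff_modEq, hxo] at h'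
      exact absurd h' (by decide)
    have h20 : 20 ∣ Nat.card (normalizer ((Q : Subgroup H) : Set H)) := by
      refine Nat.Coprime.mul_dvd_of_dvd_of_dvd (m := 4) (n := 5) (by norm_num) ?_ h5N
      have := Subgroup.orderOf_dvd_natCard _ hgN
      rw [Subgroup.orderOf_mk] at this
      exact h4N.trans this
    obtain ⟨P, hPx⟩ := exists_sylow_eq_zpowers (G := G) (q := 5) (fun P => by
      rw [card_sylow_subgroup (p := 5) (e := 1) (m := 1584) (by rw [T.card_G]; norm_num) (by norm_num) P,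
        pow_one]) hxo
    obtain ⟨j, -, hj4, hCj, -, -⟩ := exists_card_centralizer_mul hG hxo P hPx
    have hle : (normalizer ((Q : Subgroup H) : Set H)).map H.subtype ≤
        normalizer ((P : Subgroup G) : Set G) := by
      have hmap : (Q : Subgroup H).map H.subtype = (P : Subgroup G) := by
        rw [hQx, hPx, MonoidHom.map_zpowers]; rfl
      exact hmap ▸ le_normalizer_map _
    have hd := card_dvd_of_le hle
    rw [card_map_of_injective H.subtype_injective, ← hCj, hC5] at hd
    have hj := Nat.le_of_dvd (by norm_num) hj4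
    have hle20 : Nat.card (normalizer ((Q : Subgroup H) : Set H)) ≤ 20 := by
      have := Nat.le_of_dvd (by
        rcases Nat.eq_zero_or_pos j with rfl | hj0
        · simp at hj4
        · omega) hd
      omega
    have h20' : Nat.card (normalizer ((Q : Subgroup H) : Set H)) = 20 := by
      have := Nat.le_of_dvd Nat.card_pos h20
      omega
    rw [h20', hH] at hN
    omega
  have hg0 : φ g 0 = 11 := by
    refine (hxfix _ (hgfix 0 h00)).resolve_left fun e => ?_
    have := (φ g).injective (e.trans hg11.symm)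
    simp at this
  -- normalisation of the image of `1`
  have hg1 : φ g 1 ≠ 0 ∧ φ g 1 ≠ 11 := by
    refine ⟨fun e => ?_, fun e => ?_⟩
    · have := (φ g).injective (e.trans hg11.symm); simp at this
    · have := (φ g).injective (e.trans hg0.symm); simp at this
  obtain ⟨n, hn⟩ : ∃ n : Fin 5, (xP ^ n.val) (φ g 1) = 1 ∨ (xP ^ n.val) (φ g 1) = 2 := by
    revert hg1
    generalize φ g 1 = i
    revert i
    decide +kernel
  set g' := x' ^ n.val * g with hg'
  have hφg' : φ g' = xP ^ n.val * φ g := by rw [hg', map_mul, map_pow, hφx]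
  have hrel : φ g' * xP = xP ^ 2 * φ g' := by
    rw [← hφx, ← map_pow, ← map_mul, ← map_mul]
    congr 1
    rw [hg', mul_assoc, mul_inv_eq_iff_eq_mul.mp hg, ← mul_assoc, ← mul_assoc, ← pow_add, ← pow_add,
      add_comm]
  have hrel' : ∀ i, φ g' (xP i) = xP (xP (φ g' i)) := fun i => by
    have := Equiv.congr_fun hrel i
    simpa [pow_two] using this
  have hu : φ g' 1 = 1 ∨ φ g' 1 = 2 := by rw [hφg']; exact hn
  have e0 : φ g' 0 = 11 := by
    rw [hφg', Equiv.Perm.mul_apply, hg0]
    exact (show ∀ k : Fin 5, (xP ^ k.val) 11 = 11 by decide +kernel) n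
  have e11 : φ g' 11 = 0 := by
    rw [hφg', Equiv.Perm.mul_apply, hg11]
    exact (show ∀ k : Fin 5, (xP ^ k.val) 0 = 0 by decide +kernel) n
  have hne : ∀ i, i ≠ 0 → i ≠ 11 → (φ g' i) ≠ 0 ∧ (φ g' i) ≠ 11 := fun i h0 h1 =>
    ⟨fun e => h1 ((φ g').injective (e.trans e11.symm)), fun e => h0 ((φ g').injective (e.trans e0.symm))⟩
  have hstep : ∀ i, i ≠ 0 → i ≠ 11 → (φ g' (xP i)).val = (5 * (φ g' i).val) % 11 := by
    intro i h0 h1
    rw [hrel']
    exact xP_twice _ (hne i h0 h1).2
  have hbuild : ∀ i, φ g' i = build (φ g' 1) (φ g' 2) i := by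
    have a1 := hstep 1 (by decide) (by decide)
    have a4 := hstep 4 (by decide) (by decide)
    have a5 := hstep 5 (by decide) (by decide)
    have a9 := hstep 9 (by decide) (by decide)
    have b2 := hstep 2 (by decide) (by decide)
    have b8 := hstep 8 (by decide) (by decide)
    have b10 := hstep 10 (by decide) (by decide)
    have b7 := hstep 7 (by decide) (by decide)
    rw [show xP 1 = 4 by decide] at a1
    rw [show xP 4 = 5 by decide] at a4
    rw [show xP 5 = 9 by decide] at a5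
    rw [show xP 9 = 3 by decide] at a9
    rw [show xP 2 = 8 by decide] at b2
    rw [show xP 8 = 10 by decide] at b8
    rw [show xP 10 = 7 by decide] at b10
    rw [show xP 7 = 6 by decide] at b7
    have h1b := Fin.val_lt_last (n := 11) (hne 1 (by decide) (by decide)).2
    have h2b := Fin.val_lt_last (n := 11) (hne 2 (by decide) (by decide)).2
    intro i
    fin_cases i
    · exact e0
    · exact Fin.ext (show (φ g' 1).val = (1 * (φ g' 1).val) % 11 by omega)
    · exact Fin.ext (show (φ g' 2).val = (1 * (φ g' 2).val) % 11 by omega)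
    · exact Fin.ext (show (φ g' 3).val = (9 * (φ g' 1).val) % 11 by omega)
    · exact Fin.ext (show (φ g' 4).val = (5 * (φ g' 1).val) % 11 by omega)
    · exact Fin.ext (show (φ g' 5).val = (3 * (φ g' 1).val) % 11 by omega)
    · exact Fin.ext (show (φ g' 6).val = (9 * (φ g' 2).val) % 11 by omega)
    · exact Fin.ext (show (φ g' 7).val = (4 * (φ g' 2).val) % 11 by omega)
    · exact Fin.ext (show (φ g' 8).val = (5 * (φ g' 2).val) % 11 by omega)
    · exact Fin.ext (show (φ g' 9).val = (4 * (φ g' 1).val) % 11 by omega)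
    · exact Fin.ext (show (φ g' 10).val = (3 * (φ g' 2).val) % 11 by omega)
    · exact e11
  obtain ⟨k, hk⟩ := build_cases (φ g' 1) (φ g' 2) hu
    (fun i j hij => (φ g').injective (by rw [hbuild i, hbuild j, hij]))
  exact ⟨φ, x', g', k, hφinj, hxo, hφa, hφx, Equiv.ext fun i => (hbuild i).trans (hk i)⟩

end Cfsg.Agent.Order7920
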