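/-
The Mathieu group M11 acting on the twelve points outside the dodecad of squares.

Main results (namespace `Cfsg.Agent.Order7920`): `rHom`, `rHom_apply_el`, `rHom_injective`,
`closure_model`.
-/
import Cfsg.Agent.Lib.MathieuEleven.Basic
import Cfsg.Agent.Lib.Order7920.Embed

set_option autoImplicit false
open scoped Pointwise
open Cfsg Cfsg.Agent.Golay Cfsg.Agent.MathieuEleven

namespace Cfsg.Agent.Order7920

/-- A third generator, interchanging the two labelled points fixed by an element of order 5. -/
def cT : ℕ := 0xa56cb899ed3dc64716089b15248820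

/-- The labels of the twelve points. -/
def lab12 : Fin 12 → ℕ := ![22, 7, 19, 11, 10, 17, 15, 14, 20, 23, 5, 21]

/-- The label of a bit index. -/
def pos12 (i : ℕ) : Fin 12 :=
  ([0, 0, 0, 0, 0, 10, 0, 1, 0, 0, 4, 3, 0, 0, 7, 6, 0, 5, 0, 2, 8, 11, 0, 9] : List (Fin 12)).getD i 0

/-- The twelve points outside the dodecad of squares. -/
abbrev Outside : Type := {p : GolayPt // p ∉ pts dodecad0}

theorem lab12_mem : ∀ i, pt (lab12 i) ∉ pts dodecad0 := by decide +kernel

theorem pos12_lab12 : ∀ i, pos12 (idx (pt (lab12 i))) = i := by decide +kernel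

theorem lab12_pos12 : ∀ p : GolayPt, p ∉ pts dodecad0 → pt (lab12 (pos12 (idx p))) = p := by
  decide +kernel

/-- The labelling. -/
def outEquiv : Fin 12 ≃ Outside where
  toFun i := ⟨pt (lab12 i), lab12_mem i⟩
  invFun p := pos12 (idx p.1)
  left_inv := pos12_lab12
  right_inv p := Subtype.ext (lab12_pos12 p.1 p.2)

theorem apply_mem_iff (m : ↥Spor.M11) (p : GolayPt) :
    (m : Equiv.Perm GolayPt) p ∉ pts dodecad0 ↔ p ∉ pts dodecad0 := by
  rw [not_iff_not, pts_dodecad0]
  have h : (m : Equiv.Perm GolayPt) • Spor.squareDodecad = Spor.squareDodecad :=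
    MulAction.mem_stabilizer_iff.mp m.2.1.2
  constructor
  · intro hp
    rw [← h, smul_eq_image, Finset.mem_image] at hp
    obtain ⟨q, hq, e⟩ := hp
    exact (m : Equiv.Perm GolayPt).injective e ▸ hq
  · intro hp
    rw [← h, smul_eq_image]
    exact Finset.mem_image_of_mem _ hp

/-- M11 on the twelve labelled points. -/
def rHom : ↥Spor.M11 →* Equiv.Perm (Fin 12) where
  toFun m := (outEquiv.trans ((m : Equiv.Perm GolayPt).subtypePerm (apply_mem_iff m))).trans outEquiv.symm
  map_one' := by
    refine Equiv.ext fun i => ?_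
    rw [Equiv.trans_apply, Equiv.trans_apply, Equiv.Perm.one_apply]
    exact (congrArg outEquiv.symm (Subtype.ext rfl)).trans (outEquiv.symm_apply_apply i)
  map_mul' m n := by
    refine Equiv.ext fun i => ?_
    simp only [Equiv.trans_apply, Equiv.Perm.mul_apply, Equiv.apply_symm_apply]
    exact congrArg outEquiv.symm (Subtype.ext rfl)

theorem rHom_apply_el {w : List ℕ} (hw : okW w = true) (i : Fin 12) :
    rHom (el w) i = pos12 (evalW w (idx (pt (lab12 i)))) := by
  rw [← idx_el hw]
  rfl

theorem rHom_eA : rHom eA = aP := Equiv.ext fun i => by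
  rw [eA, ← el_one, rHom_apply_el (by decide +kernel)]
  revert i
  decide +kernel

theorem rHom_cT : rHom (mk cT) = cand 7 := Equiv.ext fun i => by
  rw [← el_one, rHom_apply_el (by decide +kernel)]
  revert i
  decide +kernel

theorem closure_model : Subgroup.closure {eA, mk cT} = ⊤ := by
  set H := Subgroup.closure {eA, mk cT}
  have ha : eA ∈ H := Subgroup.subset_closure (Set.mem_insert _ _)
  have ht : mk cT ∈ H := Subgroup.subset_closure (Set.mem_insert_of_mem _ rfl)
  have hb : eB ∈ H := by
    rw [eB, ← el_one, eq_el (w := [cb]) (v := [ca, cT, ca, cT, ca, cT]) (by decide +kernel)]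
    simp only [el_cons]
    exact mul_mem ha (mul_mem ht (mul_mem ha (mul_mem ht (mul_mem ha (mul_mem ht (by simp [el]))))))
  refine top_le_iff.mp ?_
  rw [← closure_eA_eB, Subgroup.closure_le]
  rintro z (rfl | rfl)
  · exact ha
  · exact hb

theorem rHom_injective : Function.Injective rHom := by
  have := MathieuEleven.isSimpleGroup_m11
  rw [← MonoidHom.ker_eq_bot_iff]
  refine (MonoidHom.normal_ker rHom).eq_bot_or_eq_top.resolve_right fun h => ?_
  have : rHom eA = 1 := MonoidHom.mem_ker.mp (h ▸ Subgroup.mem_top _)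
  rw [rHom_eA] at this
  exact absurd this (by decide +kernel)

end Cfsg.Agent.Order7920
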