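/-
Uniqueness of the simple group of order 7920.

Main results (namespace `Cfsg.Agent.Order7920`):
* `nonempty_mulEquiv_m11` : a simple group of order 7920 is isomorphic to `Spor.M11`.
-/
import Cfsg.Agent.Lib.Order7920.Model

set_option autoImplicit false
open Cfsg Cfsg.Agent.MathieuEleven

namespace Cfsg.Agent.Order7920

/-- The scaling relating the two surviving candidates. -/
def sP : Equiv.Perm (Fin 12) :=
  ⟨![0, 2, 4, 6, 8, 10, 1, 3, 5, 7, 9, 11], ![0, 6, 1, 7, 2, 8, 3, 9, 4, 10, 5, 11],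
    by decide +kernel, by decide +kernel⟩

theorem scale_a : sP * aP ^ 6 * sP⁻¹ = aP := by decide +kernel

theorem scale_t : xP * (sP * cand 6 * sP⁻¹) = cand 7 := by decide +kernel

theorem scale_x : sP * xP * sP⁻¹ = xP := by decide +kernel

variable {G : Type*} [Group G]

theorem orderOf_cert {φ : G →* Equiv.Perm (Fin 12)} (hφ : Function.Injective φ) {w : G}
    {P : Equiv.Perm (Fin 12)} (hw : φ w = P) (n : ℕ) (hn : 0 < n) (h1 : P ^ n = 1)
    (h2 : ∀ m : Fin n, 0 < m.val → P ^ m.val ≠ 1) : orderOf w = n := by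
  rw [← orderOf_injective φ hφ, hw]
  exact (orderOf_eq_iff hn).mpr ⟨h1, fun m hm hm0 => h2 ⟨m, hm⟩ hm0⟩

/-- From the good candidate to the isomorphism. -/
theorem nonempty_equiv_of_good [Finite G] (h : Nat.card G = 7920) {φ : G →* Equiv.Perm (Fin 12)}
    (hφ : Function.Injective φ) {a g : G} (ha : φ a = aP) (hg : φ g = cand 7) :
    Nonempty (G ≃* ↥Spor.M11) := by
  have hle : rHom.range ≤ φ.range := by
    rw [MonoidHom.range_eq_map, ← closure_model, MonoidHom.map_closure, Subgroup.closure_le]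
    rintro _ ⟨z, (rfl | rfl), rfl⟩
    · exact ⟨a, by rw [ha, rHom_eA]⟩
    · exact ⟨g, by rw [hg, rHom_cT]⟩
  have e1 := MonoidHom.ofInjective hφ
  have e2 := MonoidHom.ofInjective rHom_injective
  have heq : rHom.range = φ.range := Subgroup.eq_of_le_of_card_ge hle (by
    rw [← Nat.card_congr e1.toEquiv, ← Nat.card_congr e2.toEquiv, h, natCard_m11])
  exact ⟨(e1.trans (MulEquiv.subgroupCongr heq.symm)).trans e2.symm⟩

/-- **Uniqueness of the simple group of order 7920.** -/
theorem nonempty_mulEquiv_m11 [Finite G] [IsSimpleGroup G] (h : Nat.card G = 7920) :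
    Nonempty (G ≃* ↥Spor.M11) := by
  have : Fact (Nat.Prime 11) := ⟨by norm_num⟩
  have : Fact (Nat.Prime 5) := ⟨by norm_num⟩
  have : Fact (Nat.Prime 3) := ⟨Nat.prime_three⟩
  obtain ⟨f, a, x₀, T⟩ := exists_table3 h
  obtain ⟨φ, x, g, k, hφ, -, ha, hx, hg⟩ := exists_embedding T
  have bad : ∀ (w : G) (P : Equiv.Perm (Fin 12)) (n : ℕ), φ w = P → P ^ n = 1 →
      (∀ m : Fin n, 0 < m.val → P ^ m.val ≠ 1) → 0 < n →
      (¬ n ∣ 7920 ∨ 9 ∣ n ∨ n = 10 ∨ n = 12) → False := by
    intro w P n hw h1 h2 hn hb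
    obtain ⟨o1, o2, o3, o4⟩ := order_exclusion T w
    rw [orderOf_cert hφ hw n hn h1 h2] at o1 o2 o3 o4
    tauto
  have hga : φ (g * a) = cand k * aP := by rw [map_mul, hg, ha]
  have hgaa : φ (g * a * a) = cand k * aP * aP := by rw [map_mul, map_mul, hg, ha]
  have hgxa : φ (g * x * a) = cand k * xP * aP := by rw [map_mul, map_mul, hg, ha, hx]
  fin_cases k
  · exact (bad _ _ 12 hga (by decide +kernel) (by decide +kernel) (by norm_num) (by norm_num)).elim
  · exact (bad _ _ 18 hga (by decide +kernel) (by decide +kernel) (by norm_num) (by norm_num)).elim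
  · exact (bad _ _ 12 hga (by decide +kernel) (by decide +kernel) (by norm_num) (by norm_num)).elim
  · exact (bad _ _ 28 hga (by decide +kernel) (by decide +kernel) (by norm_num) (by norm_num)).elim
  · exact (bad _ _ 12 hga (by decide +kernel) (by decide +kernel) (by norm_num) (by norm_num)).elim
  · exact (bad _ _ 10 hgaa (by decide +kernel) (by decide +kernel) (by norm_num) (by norm_num)).elim
  · refine nonempty_equiv_of_good h (φ := (MulAut.conj sP).toMonoidHom.comp φ)
      ((MulAut.conj sP).injective.comp hφ) (a := a ^ 6) (g := x * g) ?_ ?_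
    · show sP * φ (a ^ 6) * sP⁻¹ = aP
      rw [map_pow, ha, scale_a]
    · show sP * φ (x * g) * sP⁻¹ = cand 7
      rw [map_mul, hx, hg, ← scale_t]
      show sP * (xP * cand 6) * sP⁻¹ = xP * (sP * cand 6 * sP⁻¹)
      conv_rhs => rw [← scale_x]
      simp [mul_assoc]
  · exact nonempty_equiv_of_good h hφ ha hg
  · exact (bad _ _ 21 hgxa (by decide +kernel) (by decide +kernel) (by norm_num) (by norm_num)).elim
  · exact (bad _ _ 9 hga (by decide +kernel) (by decide +kernel) (by norm_num) (by norm_num)).elim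

end Cfsg.Agent.Order7920
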