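/-
Numbers of elements of each order determine simplicity at order 7920.

Main results (namespace `Cfsg.Agent.Order7920`):
* `count_cases` : in a simple group of order 7920 each such number is 1 or divisible by 720, 1584 or 55;
* `isSimpleGroup_of_counts` : a group of order 7920 with the same numbers is simple.
-/
import Cfsg.Agent.Lib.Order7920.Degrees

set_option autoImplicit false

namespace Cfsg.Agent.Order7920

open Subgroup SmallOrders
open scoped Pointwise

/-- The count of elements of order `m` is divisible by any common divisor of their class sizes. -/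
theorem dvd_count {G : Type*} [Group G] [Finite G] {m d : ℕ}
    (h : ∀ g : G, orderOf g = m → d ∣ Nat.card {x : G // IsConj g x}) :
    d ∣ Nat.card {g : G // orderOf g = m} := by
  classical
  have := Fintype.ofFinite G
  rw [Nat.card_eq_fintype_card, Fintype.card_subtype,
    Finset.card_eq_sum_card_fiberwise (f := ConjClasses.mk) (t := Finset.univ) (fun _ _ => Finset.mem_univ _)]
  refine Finset.dvd_sum fun c _ => ?_
  induction c using ConjClasses.mk_surjective.forall.2 with | _ g => ?_
  by_cases hg : orderOf g = m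
  · refine (h g hg).trans (dvd_of_eq ?_)
    rw [Nat.card_eq_fintype_card, Fintype.card_subtype]
    congr 1
    ext x
    simp only [Finset.mem_filter, Finset.mem_univ, true_and, ConjClasses.mk_eq_mk_iff_isConj]
    exact ⟨fun hx => ⟨by rw [← hg]; exact (isConj_orderOf hx).symm, hx.symm⟩, fun hx => hx.2.symm⟩
  · refine (dvd_zero d).trans (dvd_of_eq (Eq.symm ?_))
    rw [Finset.card_eq_zero, Finset.filter_eq_empty_iff]
    intro x hx hxc
    rw [Finset.mem_filter] at hx
    exact hg ((isConj_orderOf (ConjClasses.mk_eq_mk_iff_isConj.1 hxc)).symm.trans hx.2)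

/-- Every number of elements of one order is 1 or divisible by 720, 1584 or 55. -/
theorem count_cases {M : Type*} [Group M] [Finite M] [IsSimpleGroup M] (h : Nat.card M = 7920) (m : ℕ) :
    Nat.card {g : M // orderOf g = m} = 1 ∨ 720 ∣ Nat.card {g : M // orderOf g = m} ∨
      1584 ∣ Nat.card {g : M // orderOf g = m} ∨ 55 ∣ Nat.card {g : M // orderOf g = m} := by
  have : Fact (Nat.Prime 11) := ⟨by norm_num⟩
  have : Fact (Nat.Prime 5) := ⟨by norm_num⟩
  by_cases hm1 : m = 1
  · left
    subst hm1
    exact (Nat.card_congr (Equiv.subtypeEquivRight fun _ => orderOf_eq_one_iff)).trans Nat.card_unique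
  obtain ⟨a, ha⟩ := exists_prime_orderOf_dvd_card' (G := M) 11 (by rw [h]; norm_num)
  have size : ∀ g : M, ∀ c : ℕ, Nat.card (centralizer ({g} : Set M)) = c →
      Nat.card {x : M // IsConj g x} * c = 7920 := fun g c hc => by
    rw [← hc, ← h]; exact card_isConj_class g
  by_cases h11 : m = 11
  · refine Or.inr (Or.inl (dvd_count fun g hg => ?_))
    have := size g 11 (card_centralizer_eleven h (hg.trans h11))
    omega
  by_cases h5 : m = 5
  · refine Or.inr (Or.inr (Or.inl (dvd_count fun g hg => ?_)))
    have := size g 5 (card_centralizer_five h ha (hg.trans h5))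
    omega
  refine Or.inr (Or.inr (Or.inr (dvd_count fun g hg => ?_)))
  have hp : ∀ q : ℕ, q.Prime → q = 5 ∨ q = 11 → ¬ q ∣ Nat.card (centralizer ({g} : Set M)) := by
    intro q hq hq' hdvd
    have := Fact.mk hq
    obtain ⟨⟨b, hb⟩, hbo⟩ := exists_prime_orderOf_dvd_card' q hdvd
    rw [Subgroup.orderOf_mk] at hbo
    have hC : Nat.card (centralizer ({b} : Set M)) = q := by
      rcases hq' with rfl | rfl
      exacts [card_centralizer_five h ha hbo, card_centralizer_eleven h hbo]
    have := (Nat.dvd_prime hq).1 (orderOf_dvd_of_centralizer hC (mem_centralizer_singleton_iff.1 hb).symm)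
    rw [hg] at this
    omega
  have hc : Nat.card {x : M // IsConj g x} * Nat.card (centralizer ({g} : Set M)) = 7920 := size g _ rfl
  refine Nat.Coprime.mul_dvd_of_dvd_of_dvd (m := 5) (n := 11) (by norm_num) ?_ ?_
  · exact ((Nat.Prime.dvd_mul (by norm_num)).1 (hc ▸ by norm_num)).resolve_right (hp 5 (by norm_num) (Or.inl rfl))
  · exact ((Nat.Prime.dvd_mul (by norm_num)).1 (hc ▸ by norm_num)).resolve_right (hp 11 (by norm_num) (Or.inr rfl))

/-- A group of order 7920 with the counts of a simple one is simple. -/
theorem isSimpleGroup_of_counts {G M : Type*} [Group G] [Finite G] [Group M] [Finite M] [IsSimpleGroup M]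
    (hG : Nat.card G = 7920) (hM : Nat.card M = 7920)
    (hc : ∀ m : ℕ, 0 < Nat.card {g : G // orderOf g = m} →
      ∃ n : ℕ, Nat.card {g : G // orderOf g = m} = Nat.card {g : M // orderOf g = n}) :
    IsSimpleGroup G := by
  classical
  have : Fact (Nat.Prime 11) := ⟨by norm_num⟩
  have : Fact (Nat.Prime 5) := ⟨by norm_num⟩
  have hfac : Nat.card G = 11 ^ 1 * 720 := by rw [hG]; norm_num
  have hfac5 : Nat.card G = 5 ^ 1 * 1584 := by rw [hG]; norm_num
  have hP : ∀ P : Sylow 11 G, Nat.card (P : Subgroup G) = 11 := fun P => by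
    rw [card_sylow_subgroup hfac (by norm_num) P, pow_one]
  have hQ : ∀ P : Sylow 5 G, Nat.card (P : Subgroup G) = 5 := fun P => by
    rw [card_sylow_subgroup hfac5 (by norm_num) P, pow_one]
  have cases_of : ∀ v m, Nat.card {g : G // orderOf g = m} = v → 0 < v →
      v = 1 ∨ 720 ∣ v ∨ 1584 ∣ v ∨ 55 ∣ v := by
    intro v m hv h0
    obtain ⟨n, hn⟩ := hc m (hv ▸ h0)
    rw [← hv, hn]
    exact count_cases hM n
  obtain ⟨P⟩ := (inferInstance : Nonempty (Sylow 11 G))
  obtain ⟨Q⟩ := (inferInstance : Nonempty (Sylow 5 G))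
  have n11 : Nat.card (Sylow 11 G) = 144 := by
    have hdm : Nat.card (Sylow 11 G) ∣ 720 := index_sylow hfac (by norm_num) P ▸ P.card_dvd_index
    have hd : ∀ d < 721, d ∣ 720 → d % 11 = 1 → d = 1 ∨ d = 12 ∨ d = 45 ∨ d = 144 := by decide +kernel
    have := cases_of _ 11 (card_orderOf_eq_prime hP) (Nat.mul_pos Nat.card_pos (by norm_num))
    rcases hd _ (Nat.lt_succ_of_le (Nat.le_of_dvd (by norm_num) hdm)) hdm (card_sylow_modEq_one 11 G)
      with e | e | e | e <;> first | exact e | (rw [e] at this; norm_num at this)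
  have n5 : Nat.card (Sylow 5 G) = 396 := by
    have hdm : Nat.card (Sylow 5 G) ∣ 1584 := index_sylow hfac5 (by norm_num) Q ▸ Q.card_dvd_index
    have hd : ∀ d < 1585, d ∣ 1584 → d % 5 = 1 → d ∈ [1, 6, 11, 16, 36, 66, 176, 396] := by decide +kernel
    have hmem := hd _ (Nat.lt_succ_of_le (Nat.le_of_dvd (by norm_num) hdm)) hdm (card_sylow_modEq_one 5 G)
    have := cases_of _ 5 (card_orderOf_eq_prime hQ) (Nat.mul_pos Nat.card_pos (by norm_num))
    simp only [List.mem_cons, List.not_mem_nil, or_false] at hmem
    rcases hmem with e | e | e | e | e | e | e | e <;>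
      first | exact e | (rw [e] at this; norm_num at this)
  have hNP : Nat.card (normalizer ((P : Subgroup G) : Set G)) = 55 := by
    have := card_normalizer_mul_card_sylow P
    rw [n11, hG] at this; omega
  -- a normal subgroup of order prime to eleven is trivial
  have small : ∀ N : Subgroup G, N.Normal → ¬ 11 ∣ Nat.card N → N = ⊥ := by
    intro N hN h11
    have h5 : ¬ 5 ∣ Nat.card N := by
      intro h5
      have hall : ∀ g : G, orderOf g = 5 → g ∈ N := by
        obtain ⟨⟨b, hb⟩, hbo⟩ := exists_prime_orderOf_dvd_card' 5 h5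
        rw [Subgroup.orderOf_mk] at hbo
        obtain ⟨R, hR⟩ := exists_sylow_eq_zpowers hQ hbo
        intro g hg
        obtain ⟨R', hR'⟩ := exists_sylow_eq_zpowers hQ hg
        obtain ⟨x, hx⟩ := MulAction.exists_smul_eq G R R'
        have h2 := congrArg Sylow.toSubgroup hx
        rw [Sylow.coe_subgroup_smul, hR, hR'] at h2
        have hmem : g ∈ MulAut.conj x • zpowers b := h2 ▸ mem_zpowers g
        obtain ⟨y, hy, rfl⟩ := hmem
        exact hN.conj_mem y (zpowers_le.2 hb hy) x
      have e : Nat.card {g : N // orderOf g = 5} = Nat.card {g : G // orderOf g = 5} :=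
        Nat.card_congr
          { toFun := fun g => ⟨g.1.1, by rw [Subgroup.orderOf_coe]; exact g.2⟩
            invFun := fun g => ⟨⟨g.1, hall g.1 g.2⟩, by rw [Subgroup.orderOf_mk]; exact g.2⟩
            left_inv := fun g => rfl
            right_inv := fun g => rfl }
      have hQN : ∀ R : Sylow 5 N, Nat.card (R : Subgroup N) = 5 := by
        intro R
        obtain ⟨k, hk⟩ := R.isPGroup'.exists_card_eq
        have h1 : 5 ^ k ∣ 7920 := hG ▸ hk ▸ (card_subgroup_dvd_card _).trans (card_subgroup_dvd_card N)
        have h2 : 5 ∣ Nat.card (R : Subgroup N) := R.dvd_card_of_dvd_card h5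
        rw [hk] at h2 ⊢
        rcases Nat.lt_or_ge k 2 with hk2 | hk2
        · interval_cases k
          · norm_num at h2
          · rfl
        · exact absurd ((pow_dvd_pow 5 hk2).trans h1) (by norm_num)
      rw [card_orderOf_eq_prime hQN, card_orderOf_eq_prime hQ, n5] at e
      have h396 : Nat.card (Sylow 5 N) = 396 := by omega
      obtain ⟨R⟩ := (inferInstance : Nonempty (Sylow 5 N))
      have hd : 396 ∣ Nat.card N := by
        rw [← h396]
        exact R.card_dvd_index.trans (index_dvd_card _)
      exact h11 ((by norm_num : 11 ∣ 396).trans hd)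
    have h144 : Nat.card N ∣ 144 := by
      have h1 : Nat.card N ∣ 55 * 144 := by rw [← show Nat.card G = 55 * 144 from hG]; exact card_subgroup_dvd_card N
      refine Nat.Coprime.dvd_of_dvd_mul_left ?_ h1
      rw [show 55 = 5 * 11 from rfl]
      exact Nat.Coprime.mul_right ((Nat.Prime.coprime_iff_not_dvd (by norm_num)).2 h5).symm
        ((Nat.Prime.coprime_iff_not_dvd (by norm_num)).2 h11).symm
    -- an element of order eleven acts without fixed points
    have fpf : ∀ R : Subgroup G, R ≤ N → ∀ b : G, orderOf b = 11 → b ∈ normalizer (R : Set G) →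
        Nat.card R % 11 = 1 := by
      intro R hR b hb hbR
      obtain ⟨S, hS⟩ := exists_sylow_eq_zpowers hP hb
      have hNS : Nat.card (normalizer ((S : Subgroup G) : Set G)) = 55 := by
        have := card_normalizer_mul_card_sylow S
        rw [n11, hG] at this; omega
      have hfree : ∀ y ∈ R, y * b = b * y → y = 1 := by
        intro y hy hyb
        have hyS : y ∈ normalizer ((S : Subgroup G) : Set G) := by
          rw [hS]
          exact centralizer_le_normalizer _ (by
            rw [centralizer_zpowers]; exact mem_centralizer_singleton_iff.2 hyb)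
        have h1 := hNS ▸ orderOf_dvd_natCard _ hyS
        have h2 := (orderOf_dvd_natCard N (hR hy)).trans h144
        exact orderOf_eq_one_iff.1 (Nat.dvd_one.1 (Nat.dvd_gcd h1 h2))
      let φ : zpowers b →* MulAut R := R.normalizerMonoidHom.comp (inclusion (zpowers_le.2 hbR))
      let := MulAction.compHom R φ
      have hmod := (IsPGroup.of_card (n := 1) (show Nat.card (zpowers b) = 11 ^ 1 by
        rw [Nat.card_zpowers, hb, pow_one])).card_modEq_card_fixedPoints R
      have hfix : MulAction.fixedPoints (zpowers b) R = {1} := by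
        ext y
        refine ⟨fun hy => Subtype.ext (hfree y y.2 ?_), fun hy => ?_⟩
        · have h1 : b * (y : G) * b⁻¹ = y := congrArg Subtype.val (hy ⟨b, mem_zpowers b⟩)
          exact (mul_inv_eq_iff_eq_mul.1 h1).symm
        · rw [Set.mem_singleton_iff] at hy
          subst hy
          intro c
          exact map_one (φ c)
      rw [hfix] at hmod
      simpa [Nat.ModEq] using hmod
    by_contra hne
    obtain ⟨q, hq, hqN⟩ := Nat.exists_prime_and_dvd (mt Subgroup.card_eq_one.1 hne)
    have := Fact.mk hq
    obtain ⟨R⟩ := (inferInstance : Nonempty (Sylow q N))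
    have hfr : normalizer (((R : Subgroup N).map N.subtype) : Set G) ⊔ N = ⊤ :=
      Sylow.normalizer_sup_eq_top R
    have h11R : 11 ∣ Nat.card (normalizer (((R : Subgroup N).map N.subtype) : Set G)) := by
      set K := normalizer (((R : Subgroup N).map N.subtype) : Set G)
      by_contra h
      have hd : N.index ∣ Nat.card K := by
        rw [← relIndex_top_right N, ← hfr, relIndex_sup_right]; exact relIndex_dvd_card _ _
      rcases (Nat.Prime.dvd_mul (by norm_num)).1
        ((by rw [card_mul_index, hG]; norm_num : 11 ∣ Nat.card N * N.index)) with h' | h'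
      exacts [h11 h', h (h'.trans hd)]
    obtain ⟨⟨b, hb⟩, hbo⟩ := exists_prime_orderOf_dvd_card' 11 h11R
    rw [Subgroup.orderOf_mk] at hbo
    have hmod := fpf _ (map_subtype_le _) b hbo hb
    rw [Nat.card_congr (equivMapOfInjective _ N.subtype N.subtype_injective).toEquiv.symm] at hmod
    obtain ⟨k, hk⟩ := R.isPGroup'.exists_card_eq
    have hqR : q ∣ Nat.card (R : Subgroup N) := R.dvd_card_of_dvd_card hqN
    have hd144 : Nat.card (R : Subgroup N) ∣ 144 := (card_subgroup_dvd_card _).trans h144
    have hdiv : ∀ d < 145, d ∣ 144 → d % 11 = 1 → d = 1 ∨ d = 12 ∨ d = 144 := by decide +kernel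
    have h6 : ∀ d : ℕ, 6 ∣ d → d ≠ q ^ k := by
      intro d h6 e
      subst e
      have e2 := (Nat.prime_dvd_prime_iff_eq Nat.prime_two hq).1
        (Nat.prime_two.dvd_of_dvd_pow ((by norm_num : 2 ∣ 6).trans h6))
      have e3 := (Nat.prime_dvd_prime_iff_eq Nat.prime_three hq).1
        (Nat.prime_three.dvd_of_dvd_pow ((by norm_num : 3 ∣ 6).trans h6))
      omega
    rcases hdiv _ (Nat.lt_succ_of_le (Nat.le_of_dvd (by norm_num) hd144)) hd144 hmod with e | e | e
    · rw [e] at hqR; exact hq.ne_one (Nat.dvd_one.1 hqR)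
    · exact h6 12 (by norm_num) (e.symm.trans hk)
    · exact h6 144 (by norm_num) (e.symm.trans hk)
  have : Nontrivial G := Finite.one_lt_card_iff_nontrivial.1 (by rw [hG]; norm_num)
  refine ⟨fun N hN => ?_⟩
  by_cases h11 : 11 ∣ Nat.card N
  swap
  · exact Or.inl (small N hN h11)
  right
  -- all elements of order eleven lie in `N`
  obtain ⟨⟨b, hb⟩, hbo⟩ := exists_prime_orderOf_dvd_card' 11 h11
  rw [Subgroup.orderOf_mk] at hbo
  obtain ⟨R, hR⟩ := exists_sylow_eq_zpowers hP hbo
  have hRN : (R : Subgroup G) ≤ N := hR ▸ zpowers_le.2 hb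
  have hfr : normalizer ((R : Subgroup G) : Set G) ⊔ N = ⊤ := Sylow.normalizer_sup_eq_top' R hRN
  have hNR : Nat.card (normalizer ((R : Subgroup G) : Set G)) = 55 := by
    have := card_normalizer_mul_card_sylow R
    rw [n11, hG] at this; omega
  have hidx : N.index ∣ 5 := by
    have h1 : N.relIndex ⊤ ∣ 55 := by
      rw [← hfr, relIndex_sup_right, ← hNR]; exact relIndex_dvd_card _ _
    rw [relIndex_top_right] at h1
    have h2 : ¬ 11 ∣ N.index := fun h => by
      have := Nat.mul_dvd_mul h11 h
      rw [card_mul_index, hG] at this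
      norm_num at this
    exact Nat.Coprime.dvd_of_dvd_mul_right
      ((Nat.Prime.coprime_iff_not_dvd (by norm_num : Nat.Prime 11)).2 h2).symm (show N.index ∣ 5 * 11 from h1)
  rcases (Nat.dvd_prime (by norm_num)).1 hidx with e | e
  · exact index_eq_one.1 e
  exfalso
  have hN : Nat.card N = 1584 := by
    have := card_mul_index N; rw [e, hG] at this; omega
  let R' : Sylow 11 N := R.subtype hRN
  have hR' : Nat.card (R' : Subgroup N) = 11 := by
    rw [card_sylow_subgroup (p := 11) (e := 1) (m := 144) (by rw [hN]; norm_num) (by norm_num) R', pow_one]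
  have hnR : normalizer ((R' : Subgroup N) : Set N) = (R' : Subgroup N) := by
    refine (eq_of_le_of_card_ge le_normalizer ?_).symm
    rw [hR']
    have hle : (normalizer ((R' : Subgroup N) : Set N)).map N.subtype ≤ normalizer ((R : Subgroup G) : Set G) := by
      refine (le_normalizer_map _).trans (le_of_eq ?_)
      rw [Sylow.coe_subtype, map_subgroupOf_eq_of_le hRN]
    have h55 : Nat.card (normalizer ((R' : Subgroup N) : Set N)) ∣ 55 := by
      rw [← hNR, Nat.card_congr (equivMapOfInjective _ N.subtype N.subtype_injective).toEquiv]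
      exact card_dvd_of_le hle
    have h1584 : Nat.card (normalizer ((R' : Subgroup N) : Set N)) ∣ 1584 := hN ▸ card_subgroup_dvd_card _
    exact Nat.le_of_dvd (by norm_num) (Nat.dvd_gcd h55 h1584)
  have hcomm : normalizer ((R' : Subgroup N) : Set N) ≤ centralizer ((R' : Subgroup N) : Set N) := by
    have : IsCyclic (R' : Subgroup N) := isCyclic_of_prime_card hR'
    rw [hnR]
    exact le_centralizer (R' : Subgroup N)
  set K := (MonoidHom.transferSylow R' hcomm).ker with hK
  have hcompl : IsComplement' K (R' : Subgroup N) := MonoidHom.ker_transferSylow_isComplement' R' hcomm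
  have hK144 : Nat.card K = 144 := by
    have := hcompl.card_mul
    rw [hR', hN] at this; omega
  have hKn : K.Normal := MonoidHom.normal_ker _
  have hKG : (K.map N.subtype).Normal := by
    refine ⟨fun k hk g => ?_⟩
    obtain ⟨k, hk, rfl⟩ := hk
    set k' : N := ⟨g * k * g⁻¹, (inferInstance : N.Normal).conj_mem _ k.2 g⟩
    refine ⟨k', (QuotientGroup.eq_one_iff k').1 ?_, rfl⟩
    refine orderOf_eq_one_iff.1 (Nat.dvd_one.1 ?_)
    have h1 : orderOf (k' : N ⧸ K) ∣ 11 := by
      rw [← hR', ← hcompl.symm.index_eq_card]; exact orderOf_dvd_natCard _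
    have h2 : orderOf (k' : N ⧸ K) ∣ 144 := by
      refine (orderOf_map_dvd (QuotientGroup.mk' K) k').trans ?_
      rw [← hK144, ← Subgroup.orderOf_coe k']
      show orderOf (g * (k : G) * g⁻¹) ∣ _
      rw [show g * (k : G) * g⁻¹ = MulAut.conj g (k : G) from rfl, MulEquiv.orderOf_eq, Subgroup.orderOf_coe]
      exact orderOf_dvd_natCard _ hk
    exact Nat.dvd_gcd h1 h2
  have hbot := small (K.map N.subtype) hKG (by
    rw [Nat.card_congr (equivMapOfInjective _ N.subtype N.subtype_injective).toEquiv.symm, hK144]
    norm_num)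
  rw [map_eq_bot_iff_of_injective _ N.subtype_injective] at hbot
  rw [hbot, card_bot] at hK144
  omega

end Cfsg.Agent.Order7920
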